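import Mathlib

/-!
# Local idempotents of a subalgebra

An idempotent of a subalgebra is local when every element of its corner is a scalar plus a
nilpotent.  Decompositions into orthogonal local idempotents exist, the number of members in a
class and the traces on a class do not depend on the decomposition.
-/

set_option autoImplicit false
set_option linter.unusedSectionVars false

namespace Cfsg.Agent.Lib.Watanabe.Primitive

universe u v w

variable {k : Type v} [Field k] {A : Type u} [Ring A] [Algebra k A]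

/-- A local idempotent of the subalgebra. -/
structure Loc (F : Subalgebra k A) (i : A) : Prop where
  mem : i ∈ F
  idem : i * i = i
  ne : i ≠ 0
  split : ∀ a ∈ F, ∃ r : k, IsNilpotent (i * a * i - r • i)

open scoped Classical in
/-- The scalar part of an element in the corner. -/
noncomputable def ev (i a : A) : k :=
  if h : ∃ r : k, IsNilpotent (i * a * i - r • i) then h.choose else 0

/-- Equivalence of idempotents inside the subalgebra. -/
def Eqv (F : Subalgebra k A) (i j : A) : Prop :=
  ∃ x ∈ F, ∃ y ∈ F, i * x * j = x ∧ j * y * i = y ∧ x * y = i ∧ y * x = j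

/-- A decomposition into orthogonal local idempotents. -/
structure Decomp (F : Subalgebra k A) (i : A) (J : Finset A) : Prop where
  loc : ∀ j ∈ J, Loc F j
  orth : ∀ j ∈ J, ∀ l ∈ J, j ≠ l → j * l = 0
  sum : ∑ j ∈ J, j = i

variable {F : Subalgebra k A} {i j l : A}

theorem Eqv.symm (h : Eqv F i j) : Eqv F j i := by
  obtain ⟨x, hx, y, hy, h1, h2, h3, h4⟩ := h
  exact ⟨y, hy, x, hx, h2, h1, h4, h3⟩

theorem Eqv.refl (hi : i ∈ F) (h : i * i = i) : Eqv F i i :=
  ⟨i, hi, i, hi, by rw [h, h], by rw [h, h], h, h⟩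

theorem left_absorb {i x j : A} (hi : i * i = i) (hx : i * x * j = x) : i * x = x := by
  conv_lhs => rw [← hx, ← mul_assoc, ← mul_assoc, hi, hx]

theorem right_absorb {i x j : A} (hj : j * j = j) (hx : i * x * j = x) : x * j = x := by
  conv_lhs => rw [← hx, mul_assoc, hj, hx]

theorem Eqv.trans (hi : i * i = i) (hj : j * j = j) (hl : l * l = l) (h : Eqv F i j)
    (h' : Eqv F j l) : Eqv F i l := by
  obtain ⟨x, hx, y, hy, h1, h2, h3, h4⟩ := h
  obtain ⟨x', hx', y', hy', g1, g2, g3, g4⟩ := h'
  refine ⟨x * x', mul_mem hx hx', y' * y, mul_mem hy' hy, ?_, ?_, ?_, ?_⟩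
  · rw [← mul_assoc i, left_absorb hi h1, mul_assoc x, right_absorb hl g1]
  · rw [← mul_assoc l, left_absorb hl g2, mul_assoc y', right_absorb hi h2]
  · rw [mul_assoc x, ← mul_assoc x', g3, left_absorb hj h2, h3]
  · rw [mul_assoc y', ← mul_assoc y, h4, left_absorb hj g1, g4]

section Loc

variable (hi : Loc F i)
include hi

theorem smul_ne_zero' {r : k} (hr : r ≠ 0) : r • i ≠ 0 :=
  fun h => hi.ne ((smul_eq_zero.mp h).resolve_left hr)

theorem scalar_eq_zero {r : k} (h : IsNilpotent (r • i)) : r = 0 := by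
  obtain ⟨n, hn⟩ := h
  by_contra hr
  have h2 : (r • i) ^ (n + 1) = 0 := by rw [pow_succ, hn, zero_mul]
  rw [smul_pow, IsIdempotentElem.pow_succ_eq n hi.idem] at h2
  exact smul_ne_zero' hi (pow_ne_zero _ hr) h2

theorem ev_spec {a : A} (ha : a ∈ F) : IsNilpotent (i * a * i - (ev i a : k) • i) := by
  have h := hi.split a ha
  rw [ev, dif_pos h]
  exact h.choose_spec

theorem ev_eq {a : A} (ha : a ∈ F) {r : k} (h : IsNilpotent (i * a * i - r • i)) : ev i a = r := by
  have hc : Commute (i * a * i - r • i) (i * a * i - (ev i a : k) • i) := by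
    have e : Commute (i * a * i) i := by
      show _ = _
      rw [mul_assoc, hi.idem, ← mul_assoc i (i * a) i, ← mul_assoc i i a, hi.idem]
    refine Commute.sub_left ((Commute.refl _).sub_right (e.smul_right _)) ?_
    exact ((e.symm).sub_right ((Commute.refl i).smul_right _)).smul_left _
  have h2 := hc.isNilpotent_sub h (ev_spec hi ha)
  rw [sub_sub_sub_cancel_left, ← sub_smul] at h2
  exact sub_eq_zero.mp (scalar_eq_zero hi h2)

theorem corner_mem {a : A} (ha : a ∈ F) : i * a * i ∈ F := mul_mem (mul_mem hi.mem ha) hi.mem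

theorem corner_idem (a : A) : i * (i * a * i) * i = i * a * i := by
  simp only [← mul_assoc, hi.idem]
  rw [mul_assoc (i * a), hi.idem]

theorem ev_corner {a : A} (ha : a ∈ F) : (ev i (i * a * i) : k) = ev i a :=
  ev_eq hi (corner_mem hi ha) (by rw [corner_idem hi]; exact ev_spec hi ha)

theorem ev_self : (ev i i : k) = 1 :=
  ev_eq hi hi.mem (by rw [hi.idem, hi.idem, one_smul, sub_self]; exact IsNilpotent.zero)

theorem ev_zero : (ev i (0 : A) : k) = 0 :=
  ev_eq hi F.zero_mem (by rw [mul_zero, zero_mul, zero_smul, sub_self]; exact IsNilpotent.zero)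

theorem isNilpotent_of_ev {a : A} (ha : a ∈ F) (h : (ev i a : k) = 0) :
    IsNilpotent (i * a * i) := by
  have := ev_spec hi ha
  rwa [h, zero_smul, sub_zero] at this

/-- A nonzero scalar part gives an inverse in the corner. -/
theorem exists_inv {a : A} (ha : a ∈ F) (h : (ev i a : k) ≠ 0) :
    ∃ b ∈ F, i * b * i = b ∧ i * a * i * b = i ∧ b * (i * a * i) = i := by
  set r : k := ev i a with hr
  set N : F := r⁻¹ • ((⟨i * a * i, corner_mem hi ha⟩ : F) - r • ⟨i, hi.mem⟩) with hN
  have hNn : IsNilpotent N := by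
    obtain ⟨n, hn⟩ := ev_spec hi ha
    refine ⟨n, ?_⟩
    rw [hN, smul_pow]
    have : ((⟨i * a * i, corner_mem hi ha⟩ : F) - r • ⟨i, hi.mem⟩) ^ n = 0 :=
      Subtype.ext (by push_cast; exact hn)
    rw [this, smul_zero]
  obtain ⟨U, hU⟩ := hNn.isUnit_one_add
  have hNc : (N : A) = r⁻¹ • (i * a * i) - i := by
    rw [hN]; push_cast; rw [smul_sub, smul_smul, inv_mul_cancel₀ h, one_smul]
  have hiN : i * (N : A) = N ∧ (N : A) * i = N := by
    rw [hNc]
    constructor
    · rw [mul_sub, mul_smul_comm, hi.idem, ← mul_assoc, ← mul_assoc, hi.idem]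
    · rw [sub_mul, smul_mul_assoc, hi.idem, mul_assoc, hi.idem]
  have hcom : Commute i ((↑U⁻¹ : F) : A) := by
    have h1 : Commute i ((U : F) : A) := by
      rw [hU]
      push_cast
      exact (Commute.one_right i).add_right (show i * (N : A) = N * i by rw [hiN.1, hiN.2])
    have h2 : Commute (⟨i, hi.mem⟩ : F) (U : F) := Subtype.ext h1.eq
    exact congrArg Subtype.val h2.units_inv_right.eq
  have key : i * a * i = r • (i * ((U : F) : A)) := by
    rw [hU]
    push_cast
    rw [mul_add, mul_one, hiN.1, hNc, add_sub_cancel, smul_smul, mul_inv_cancel₀ h, one_smul]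
  have hUU : ((U : F) : A) * ((↑U⁻¹ : F) : A) = 1 ∧ ((↑U⁻¹ : F) : A) * ((U : F) : A) = 1 :=
    ⟨congrArg Subtype.val U.mul_inv, congrArg Subtype.val U.inv_mul⟩
  refine ⟨r⁻¹ • (i * ((↑U⁻¹ : F) : A)), F.smul_mem (mul_mem hi.mem (↑U⁻¹ : F).2) _, ?_, ?_, ?_⟩
  · rw [mul_smul_comm, smul_mul_assoc, ← mul_assoc i i, hi.idem, mul_assoc, ← hcom.eq,
      ← mul_assoc, hi.idem]
  · have hc : Commute i ((U : F) : A) := by
      rw [hU]
      push_cast
      exact (Commute.one_right i).add_right (show i * (N : A) = N * i by rw [hiN.1, hiN.2])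
    rw [key, smul_mul_smul_comm, mul_inv_cancel₀ h, one_smul, mul_assoc,
      ← mul_assoc ((U : F) : A) i, ← hc.eq, mul_assoc i, hUU.1, mul_one, hi.idem]
  · rw [key, smul_mul_smul_comm, inv_mul_cancel₀ h, one_smul, mul_assoc,
      ← mul_assoc ((↑U⁻¹ : F) : A) i, ← hcom.eq, mul_assoc i, hUU.2, mul_one, hi.idem]

/-- An element with a one-sided inverse in the corner is not nilpotent. -/
theorem not_isNilpotent {a L : A} (h : i * a = a ∧ L * a = i ∨ a * i = a ∧ a * L = i) :
    ¬ IsNilpotent a := by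
  rintro ⟨n, hn⟩
  have hn' : a ^ (n + 1) = 0 := by rw [pow_succ, hn, zero_mul]
  clear hn
  induction n with
  | zero =>
    rw [zero_add, pow_one] at hn'
    rcases h with ⟨-, h⟩ | ⟨-, h⟩
    · rw [hn', mul_zero] at h; exact hi.ne h.symm
    · rw [hn', zero_mul] at h; exact hi.ne h.symm
  | succ n ih =>
    apply ih
    rcases h with ⟨h1, h⟩ | ⟨h1, h⟩
    · calc a ^ (n + 1) = i * a ^ (n + 1) := by rw [pow_succ' a n, ← mul_assoc, h1]
        _ = L * a ^ (n + 1 + 1) := by rw [pow_succ' a (n + 1), ← mul_assoc, h]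
        _ = 0 := by rw [hn', mul_zero]
    · calc a ^ (n + 1) = a ^ (n + 1) * i := by rw [pow_succ a n, mul_assoc, h1]
        _ = a ^ (n + 1 + 1) * L := by rw [pow_succ a (n + 1), mul_assoc, h]
        _ = 0 := by rw [hn', zero_mul]

theorem ev_smul_self (r : k) : (ev i (r • i) : k) = r :=
  ev_eq hi (F.smul_mem hi.mem _) (by
    rw [mul_smul_comm, smul_mul_assoc, hi.idem, hi.idem, sub_self]; exact IsNilpotent.zero)

/-- A product with a nilpotent factor from the corner has scalar part zero. -/
theorem ev_nil_mul {a b : A} (ha : a ∈ F) (hb : b ∈ F) (hai : i * a * i = a) (hbi : i * b * i = b)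
    (hn : IsNilpotent a) : (ev i (a * b) : k) = 0 ∧ (ev i (b * a) : k) = 0 := by
  have hc : ∀ c : A, i * c * i = c → i * c = c ∧ c * i = c := fun c hc =>
    ⟨left_absorb hi.idem hc, right_absorb hi.idem hc⟩
  obtain ⟨a1, a2⟩ := hc a hai
  obtain ⟨b1, b2⟩ := hc b hbi
  constructor
  · by_contra h
    obtain ⟨w, -, -, hw, -⟩ := exists_inv hi (mul_mem ha hb) h
    rw [← mul_assoc i a b, a1, mul_assoc a b i, b2, mul_assoc] at hw
    exact not_isNilpotent hi (Or.inr ⟨a2, hw⟩) hn
  · by_contra h
    obtain ⟨w, -, -, -, hw⟩ := exists_inv hi (mul_mem hb ha) h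
    rw [← mul_assoc i b a, b1, mul_assoc b a i, a2, ← mul_assoc] at hw
    exact not_isNilpotent hi (Or.inl ⟨a1, hw⟩) hn

/-- Nilpotents of the corner are closed under addition. -/
theorem ev_add_nil {a b : A} (ha : a ∈ F) (hb : b ∈ F) (hai : i * a * i = a) (hbi : i * b * i = b)
    (hna : IsNilpotent a) (hnb : IsNilpotent b) : (ev i (a + b) : k) = 0 := by
  by_contra h
  obtain ⟨w, hw, hwi, -, hw'⟩ := exists_inv hi (add_mem ha hb) h
  rw [mul_add, add_mul, hai, hbi, mul_add] at hw'
  have hwa : i * (w * a) * i = w * a := by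
    rw [← mul_assoc, left_absorb hi.idem hwi, mul_assoc, right_absorb hi.idem hai]
  have hwb : i * (w * b) * i = w * b := by
    rw [← mul_assoc, left_absorb hi.idem hwi, mul_assoc, right_absorb hi.idem hbi]
  have h1 : (ev i (w * b) : k) = 1 := by
    refine ev_eq hi (mul_mem hw hb) ?_
    rw [hwb, one_smul, eq_sub_of_add_eq' hw', sub_sub_cancel_left]
    refine IsNilpotent.neg ?_
    have := isNilpotent_of_ev hi (mul_mem hw ha) (ev_nil_mul hi ha hw hai hwi hna).2
    rwa [hwa] at this
  rw [(ev_nil_mul hi hb hw hbi hwi hnb).2] at h1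
  exact zero_ne_one h1

theorem ev_add {a b : A} (ha : a ∈ F) (hb : b ∈ F) :
    (ev i (a + b) : k) = ev i a + ev i b := by
  set a' := i * a * i - (ev i a : k) • i with ha'
  set b' := i * b * i - (ev i b : k) • i with hb'
  have hab : a' + b' = i * (a + b) * i - ((ev i a : k) + ev i b) • i := by
    rw [ha', hb', mul_add, add_mul, add_smul]; abel
  have hm : ∀ c ∈ F, ∀ r : k, i * (i * c * i - r • i) * i = i * c * i - r • i := fun c _ r => by
    rw [mul_sub, sub_mul, corner_idem hi, mul_smul_comm, smul_mul_assoc, hi.idem, hi.idem]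
  have h0 := ev_add_nil hi (sub_mem (corner_mem hi ha) (F.smul_mem hi.mem _))
    (sub_mem (corner_mem hi hb) (F.smul_mem hi.mem _)) (hm a ha _) (hm b hb _)
    (ev_spec hi ha) (ev_spec hi hb)
  refine ev_eq hi (add_mem ha hb) ?_
  rw [← hab]
  have := isNilpotent_of_ev hi (add_mem (sub_mem (corner_mem hi ha) (F.smul_mem hi.mem _))
    (sub_mem (corner_mem hi hb) (F.smul_mem hi.mem _))) h0
  rwa [mul_add, add_mul, hm a ha, hm b hb] at this

theorem ev_sum {ι : Type w} (s : Finset ι) (f : ι → A) (hf : ∀ t ∈ s, f t ∈ F) :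
    (ev i (∑ t ∈ s, f t) : k) = ∑ t ∈ s, ev i (f t) := by
  classical
  induction s using Finset.induction_on with
  | empty => simpa using ev_zero hi
  | insert t s ht ih =>
    rw [Finset.sum_insert ht, Finset.sum_insert ht,
      ev_add hi (hf t (Finset.mem_insert_self t s))
        (sum_mem fun u hu => hf u (Finset.mem_insert_of_mem hu)),
      ih fun u hu => hf u (Finset.mem_insert_of_mem hu)]

theorem ev_mul {a b : A} (ha : a ∈ F) (hb : b ∈ F) :
    (ev i (i * a * i * (i * b * i)) : k) = ev i a * ev i b := by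
  set a' := i * a * i - (ev i a : k) • i with ha'
  have haF : a' ∈ F := sub_mem (corner_mem hi ha) (F.smul_mem hi.mem _)
  have hai : i * a' * i = a' := by
    rw [ha', mul_sub, sub_mul, corner_idem hi, mul_smul_comm, smul_mul_assoc, hi.idem, hi.idem]
  have e : i * a * i * (i * b * i) = a' * (i * b * i) + (ev i a : k) • (i * b * i) := by
    rw [ha', sub_mul, smul_mul_assoc, left_absorb hi.idem (corner_idem hi b), sub_add_cancel]
  rw [e, ev_add hi (mul_mem haF (corner_mem hi hb)) (F.smul_mem (corner_mem hi hb) _),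
    (ev_nil_mul hi haF (corner_mem hi hb) hai (corner_idem hi b) (ev_spec hi ha)).1, zero_add]
  refine ev_eq hi (F.smul_mem (corner_mem hi hb) _) ?_
  rw [mul_smul_comm, smul_mul_assoc, corner_idem hi, mul_smul, ← smul_sub]
  exact (ev_spec hi hb).smul _

/-- An idempotent of the corner is zero or the whole. -/
theorem eq_zero_or_self {e : A} (he : e ∈ F) (hi' : i * e * i = e) (hee : e * e = e) :
    e = 0 ∨ e = i := by
  by_cases h : (ev i e : k) = 0
  · left
    have hn := isNilpotent_of_ev hi he h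
    rw [hi'] at hn
    exact IsIdempotentElem.eq_zero_of_isNilpotent hee hn
  · right
    obtain ⟨b, -, -, hb, -⟩ := exists_inv hi he h
    rw [hi'] at hb
    calc e = e * i := (right_absorb hi.idem hi').symm
      _ = e * (e * b) := by rw [hb]
      _ = i := by rw [← mul_assoc, hee, hb]

/-- A multiplicative image of an element of the corner that is idempotent is `0` or the image. -/
theorem map_eq_zero_or_self {B : Type w} [Ring B] (f : A → B)
    (hf : ∀ a ∈ F, ∀ b ∈ F, f (a * b) = f a * f b) (hf0 : f 0 = 0) {a : A} (ha : a ∈ F)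
    (hai : i * a * i = a) (hfa : f a * f a = f a) : f a = 0 ∨ f a = f i := by
  by_cases h : (ev i a : k) = 0
  · left
    obtain ⟨n, hn⟩ := isNilpotent_of_ev hi ha h
    rw [hai] at hn
    have key : ∀ m : ℕ, f (a ^ (m + 1)) = f a := fun m => by
      induction m with
      | zero => rw [zero_add, pow_one]
      | succ m ih => rw [pow_succ, hf _ (pow_mem ha _) _ ha, ih, hfa]
    rw [← key n, pow_succ, hn, zero_mul, hf0]
  · right
    obtain ⟨b, hbF, -, hb, -⟩ := exists_inv hi ha h
    rw [hai] at hb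
    calc f a = f (a * i) := by rw [right_absorb hi.idem hai]
      _ = f a * f (a * b) := by rw [hf _ ha _ hi.mem, hb]
      _ = f i := by rw [hf _ ha _ hbF, ← mul_assoc, hfa, ← hf _ ha _ hbF, hb]

/-- If a sum of elements of the corner is the idempotent, one of them is invertible there. -/
theorem exists_ev_ne_zero {ι : Type w} (s : Finset ι) (f : ι → A) (hf : ∀ t ∈ s, f t ∈ F)
    (h : ∑ t ∈ s, f t = i) : ∃ t ∈ s, (ev i (f t) : k) ≠ 0 := by
  refine Finset.exists_ne_zero_of_sum_ne_zero ?_
  rw [← ev_sum hi s f hf, h, ev_self hi]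
  exact one_ne_zero

end Loc

/-! ### Two idempotents -/

/-- An invertible product gives an equivalence. -/
theorem eqv_of_ev (hi : Loc F i) (hj : Loc F j) {x y : A} (hx : x ∈ F) (hy : y ∈ F)
    (hxi : i * x * j = x) (hyi : j * y * i = y) (h : (ev i (x * y) : k) ≠ 0) : Eqv F i j := by
  obtain ⟨w, hw, hwi, hw1, -⟩ := exists_inv hi (mul_mem hx hy) h
  rw [← mul_assoc i x y, left_absorb hi.idem hxi, mul_assoc x y i, right_absorb hi.idem hyi,
    mul_assoc] at hw1
  have hy' : j * (y * w) * i = y * w := by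
    rw [← mul_assoc, left_absorb hj.idem hyi, mul_assoc, right_absorb hi.idem hwi]
  refine ⟨x, hx, y * w, mul_mem hy hw, hxi, hy', hw1, ?_⟩
  rcases eq_zero_or_self hj (mul_mem (mul_mem hy hw) hx)
    (by rw [← mul_assoc, left_absorb hj.idem hy', mul_assoc, right_absorb hj.idem hxi])
    (by rw [mul_assoc (y * w) x, ← mul_assoc x (y * w) x, hw1, left_absorb hi.idem hxi]) with h0 | h0
  · exfalso
    refine hi.ne ?_
    calc i = x * (y * w) * (x * (y * w)) := by rw [hw1, hi.idem]
      _ = x * (y * w * x) * (y * w) := by simp only [mul_assoc]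
      _ = 0 := by rw [h0, mul_zero, zero_mul]
  · exact h0

/-- The scalar parts of `xy` and `yx` agree. -/
theorem ev_swap (hi : Loc F i) (hj : Loc F j) {x y : A} (hx : x ∈ F) (hy : y ∈ F)
    (hxi : i * x * j = x) (hyi : j * y * i = y) : (ev i (x * y) : k) = ev j (y * x) := by
  have hxy : i * (x * y) * i = x * y := by
    rw [← mul_assoc, left_absorb hi.idem hxi, mul_assoc, right_absorb hi.idem hyi]
  have hyx : j * (y * x) * j = y * x := by
    rw [← mul_assoc, left_absorb hj.idem hyi, mul_assoc, right_absorb hj.idem hxi]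
  set r : k := ev i (x * y) with hr
  by_contra hne
  have hne' : (ev j (y * x - r • j) : k) ≠ 0 := by
    intro h0
    apply hne
    symm
    refine ev_eq hj (mul_mem hy hx) ?_
    have := isNilpotent_of_ev hj (sub_mem (mul_mem hy hx) (F.smul_mem hj.mem _)) h0
    rwa [mul_sub, sub_mul, mul_smul_comm, smul_mul_assoc, hj.idem, hj.idem] at this
  obtain ⟨b, -, hbj, -, hb⟩ := exists_inv hj (sub_mem (mul_mem hy hx) (F.smul_mem hj.mem _)) hne'
  rw [mul_sub, sub_mul, mul_smul_comm, smul_mul_assoc, hj.idem, hj.idem, hyx] at hb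
  obtain ⟨n, hn⟩ := ev_spec hi (mul_mem hx hy)
  rw [hxy, ← hr] at hn
  have hpush : ∀ m : ℕ, y * (x * y - r • i) ^ m = (y * x - r • j) ^ m * y := fun m => by
    induction m with
    | zero => rw [pow_zero, pow_zero, mul_one, one_mul]
    | succ m ih =>
      rw [pow_succ, ← mul_assoc, ih, pow_succ, mul_assoc, mul_assoc, mul_sub, sub_mul,
        mul_smul_comm, smul_mul_assoc, right_absorb hi.idem hyi, left_absorb hj.idem hyi,
        mul_assoc y x y]
  have hb' : ∀ m : ℕ, b ^ m * (y * x - r • j) ^ m * (y * x) = y * x := fun m => by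
    induction m with
    | zero => rw [pow_zero, pow_zero, one_mul, one_mul]
    | succ m ih =>
      rw [pow_succ b, pow_succ' (y * x - r • j), mul_assoc (b ^ m), ← mul_assoc b, hb,
        ← mul_assoc (b ^ m), mul_assoc (b ^ m * j)]
      rcases m with _ | m
      · rw [pow_zero, pow_zero, one_mul, one_mul, ← mul_assoc, left_absorb hj.idem hyi]
      · rwa [pow_succ b m, mul_assoc (b ^ m) b j, right_absorb hj.idem hbj, ← pow_succ,
          ← mul_assoc (b ^ (m + 1))]
  have h0 : y * x = 0 := by
    rw [← hb' n, mul_assoc, ← mul_assoc ((y * x - r • j) ^ n), ← hpush, hn, mul_zero, zero_mul,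
      mul_zero]
  apply hne
  have h1 : (ev j (y * x) : k) = 0 := by rw [h0]; exact ev_zero hj
  rw [h1, hr]
  refine ev_eq hi (mul_mem hx hy) ⟨2, ?_⟩
  rw [zero_smul, sub_zero, hxy, pow_two, mul_assoc, ← mul_assoc y, h0, zero_mul, mul_zero]

/-- Scalar parts move along an automorphism preserving the subalgebra. -/
theorem Loc.map (hi : Loc F i) (σ : A ≃ₐ[k] A) (hσ : ∀ a, σ a ∈ F ↔ a ∈ F) : Loc F (σ i) where
  mem := (hσ i).mpr hi.mem
  idem := by rw [← map_mul, hi.idem]
  ne := fun h => hi.ne (σ.injective (by rw [h, map_zero]))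
  split := fun a ha => by
    obtain ⟨r, hr⟩ := hi.split (σ.symm a) ((hσ _).mp (by rwa [σ.apply_symm_apply]))
    refine ⟨r, ?_⟩
    have := hr.map σ
    rwa [map_sub, map_mul, map_mul, map_smul, σ.apply_symm_apply] at this

theorem ev_map (hi : Loc F i) (σ : A ≃ₐ[k] A) (hσ : ∀ a, σ a ∈ F ↔ a ∈ F) {a : A} (ha : a ∈ F) :
    (ev (σ i) (σ a) : k) = ev i a := by
  refine ev_eq (hi.map σ hσ) ((hσ a).mpr ha) ?_
  have := (ev_spec hi ha).map σ
  rwa [map_sub, map_mul, map_mul, map_smul] at this

theorem Eqv.map (σ : A ≃ₐ[k] A) (hσ : ∀ a, σ a ∈ F ↔ a ∈ F) (h : Eqv F i j) :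
    Eqv F (σ i) (σ j) := by
  obtain ⟨x, hx, y, hy, h1, h2, h3, h4⟩ := h
  exact ⟨σ x, (hσ x).mpr hx, σ y, (hσ y).mpr hy, by rw [← map_mul, ← map_mul, h1],
    by rw [← map_mul, ← map_mul, h2], by rw [← map_mul, h3], by rw [← map_mul, h4]⟩

/-! ### Decompositions -/

/-- The corner of an idempotent, as a submodule. -/
def corner (F : Subalgebra k A) (i : A) : Submodule k A where
  carrier := {a | a ∈ F ∧ i * a * i = a}
  add_mem' := fun {a b} ha hb => ⟨add_mem ha.1 hb.1, by rw [mul_add, add_mul, ha.2, hb.2]⟩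
  zero_mem' := ⟨F.zero_mem, by rw [mul_zero, zero_mul]⟩
  smul_mem' := fun r a ha => ⟨F.smul_mem ha.1 r, by rw [mul_smul_comm, smul_mul_assoc, ha.2]⟩

section Finite

variable [IsAlgClosed k] [FiniteDimensional k A]

open Polynomial in
/-- A primitive idempotent is local. -/
theorem loc_of_prim (hi : i ∈ F) (hii : i * i = i) (hne : i ≠ 0)
    (hprim : ∀ e ∈ F, e * e = e → i * e * i = e → e = 0 ∨ e = i) : Loc F i := by
  refine ⟨hi, hii, hne, fun a ha => ?_⟩
  -- an element of the corner is nilpotent or invertible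
  have dich : ∀ b ∈ corner F i, IsNilpotent b ∨ ∃ c ∈ corner F i, c * b = i := by
    intro b hb
    obtain ⟨P, hP, hPb⟩ := Algebra.IsIntegral.isIntegral (R := k) b
    rw [← Polynomial.aeval_def] at hPb
    obtain ⟨g, hg, hg0⟩ := P.exists_eq_pow_rootMultiplicity_mul_and_not_dvd hP.ne_zero 0
    rw [map_zero, sub_zero] at hg hg0
    set m := P.rootMultiplicity 0
    have hcop : IsCoprime ((X : k[X]) ^ (m + 1)) g :=
      (((Polynomial.prime_X (R := k)).coprime_iff_not_dvd).mpr hg0).pow_left
    obtain ⟨u, v, huv⟩ := hcop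
    have hbi : i * b = b ∧ b * i = b := ⟨left_absorb hii hb.2, right_absorb hii hb.2⟩
    have hmemF : ∀ Q : k[X], aeval b Q ∈ F := fun Q => by
      induction Q using Polynomial.induction_on' with
      | add p q hp hq => rw [map_add]; exact add_mem hp hq
      | monomial n r =>
        rw [aeval_monomial]
        exact mul_mem (F.algebraMap_mem r) (pow_mem hb.1 n)
    have hpoly : ∀ Q : k[X], aeval b (X * Q) ∈ corner F i := fun Q => by
      refine ⟨hmemF _, ?_⟩
      have h2 : b * aeval b Q = aeval b Q * b := by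
        have := congrArg (aeval b) (mul_comm X Q)
        rwa [map_mul, map_mul, aeval_X] at this
      rw [map_mul, aeval_X, ← mul_assoc, hbi.1, h2, mul_assoc, hbi.2]
    set e := aeval b (u * X ^ (m + 1)) with he
    have hXe : u * X ^ (m + 1) = X * (u * X ^ m) := by ring
    have hzero : ∀ Q : k[X], P ∣ Q → aeval b Q = 0 := fun Q hQ => by
      obtain ⟨R, rfl⟩ := hQ
      rw [map_mul, hPb, zero_mul]
    have hee : e * e = e := by
      rw [he, ← map_mul]
      refine sub_eq_zero.mp ?_
      rw [← map_sub]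
      refine hzero _ ?_
      have : u * X ^ (m + 1) * (u * X ^ (m + 1)) - u * X ^ (m + 1) =
          X ^ m * g * (-(u * v * X)) := by linear_combination (u * X ^ (m + 1)) * huv
      rw [this, ← hg]
      exact dvd_mul_right P _
    have hec : e ∈ corner F i := by rw [he, hXe]; exact hpoly _
    rcases hprim e hec.1 hee hec.2 with h0 | h1
    · refine Or.inl ⟨m + 1, ?_⟩
      have : aeval b (X ^ (m + 1) * (u * X ^ (m + 1) + v * g)) = 0 := by
        rw [mul_add, map_add, map_mul, ← he, h0, mul_zero, zero_add]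
        refine hzero _ ?_
        rw [show (X : k[X]) ^ (m + 1) * (v * g) = X ^ m * g * (v * X) by ring, ← hg]
        exact dvd_mul_right P _
      rwa [huv, mul_one, map_pow, aeval_X] at this
    · refine Or.inr ⟨i * aeval b (u * X ^ m) * i,
        ⟨mul_mem (mul_mem hi (hmemF _)) hi, ?_⟩, ?_⟩
      · simp only [← mul_assoc, hii]
        rw [mul_assoc (i * aeval b (u * X ^ m)), hii]
      · rw [mul_assoc (i * _), hbi.1, mul_assoc]
        have : aeval b (u * X ^ m) * b = i := by
          rw [← h1, he, pow_succ, ← mul_assoc u, map_mul _ (u * X ^ m) X, aeval_X]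
        rw [this, hii]
  -- an eigenvalue of left multiplication on the corner
  let W := corner F i
  have : Nontrivial W := ⟨⟨⟨i, hi, by rw [hii, hii]⟩, 0, fun h => hne (congrArg Subtype.val h)⟩⟩
  set b := i * a * i with hbdef
  have hb : b ∈ corner F i := ⟨mul_mem (mul_mem hi ha) hi, by
    simp only [hbdef, ← mul_assoc, hii]; rw [mul_assoc (i * a), hii]⟩
  let L : W →ₗ[k] W :=
    ((LinearMap.mulLeft k b).comp W.subtype).codRestrict W fun w => by
      refine ⟨mul_mem hb.1 w.2.1, ?_⟩
      show i * (b * (w : A)) * i = b * w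
      rw [← mul_assoc, left_absorb hii hb.2, mul_assoc, right_absorb hii w.2.2]
  obtain ⟨r, hr⟩ := Module.End.exists_eigenvalue L
  obtain ⟨w, hw, hw0⟩ := hr.exists_hasEigenvector
  rw [Module.End.mem_eigenspace_iff] at hw
  have hw' : b * (w : A) = r • (w : A) := congrArg Subtype.val hw
  refine ⟨r, ?_⟩
  have hcm : b - r • i ∈ corner F i :=
    sub_mem hb ((corner F i).smul_mem r ⟨hi, by rw [hii, hii]⟩)
  rcases dich _ hcm with h | ⟨c, hc, hcb⟩
  · exact h
  · refine absurd ?_ hw0
    apply Subtype.ext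
    calc (w : A) = i * w := (left_absorb hii w.2.2).symm
      _ = c * ((b - r • i) * w) := by rw [← mul_assoc, hcb]
      _ = 0 := by rw [sub_mul, hw', smul_mul_assoc, left_absorb hii w.2.2, sub_self, mul_zero]

open scoped Classical in
/-- Decompositions exist. -/
theorem exists_decomp (hi : i ∈ F) (hii : i * i = i) : ∃ J, Decomp F i J := by
  suffices ∀ (n : ℕ) (i : A), i ∈ F → i * i = i → Module.finrank k (corner F i) ≤ n →
      ∃ J, Decomp F i J ∧ ∀ j ∈ J, i * j * i = j by
    obtain ⟨J, hJ, -⟩ := this _ i hi hii le_rfl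
    exact ⟨J, hJ⟩
  intro n
  induction n using Nat.strong_induction_on with
  | _ n ih =>
  intro i hi hii hn
  by_cases h0 : i = 0
  · exact ⟨∅, ⟨fun j hj => absurd hj (Finset.notMem_empty j),
      fun j hj => absurd hj (Finset.notMem_empty j), by rw [Finset.sum_empty, h0]⟩,
      fun j hj => absurd hj (Finset.notMem_empty j)⟩
  by_cases hprim : ∀ e ∈ F, e * e = e → i * e * i = e → e = 0 ∨ e = i
  · refine ⟨{i}, ⟨fun j hj => ?_, fun j hj l hl hne => ?_, by simp⟩, fun j hj => ?_⟩
    · rw [Finset.mem_singleton] at hj; rw [hj]; exact loc_of_prim hi hii h0 hprim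
    · rw [Finset.mem_singleton] at hj hl; exact absurd (hj.trans hl.symm) hne
    · rw [Finset.mem_singleton] at hj; rw [hj, hii, hii]
  push Not at hprim
  obtain ⟨e, he, hee, hei, he0, he1⟩ := hprim
  have hl : i * e = e := left_absorb hii hei
  have hr : e * i = e := right_absorb hii hei
  set f := i - e with hf
  have hff : f * f = f := by
    rw [hf, sub_mul, mul_sub, mul_sub, hii, hl, hr, hee, sub_self, sub_zero]
  have hef : e * f = 0 := by rw [hf, mul_sub, hr, hee, sub_self]
  have hfe : f * e = 0 := by rw [hf, sub_mul, hl, hee, sub_self]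
  have hil : i * f = f ∧ f * i = f := by
    rw [hf]; exact ⟨by rw [mul_sub, hii, hl], by rw [sub_mul, hii, hr]⟩
  have lt : ∀ g : A, g ∈ F → g * g = g → i * g = g → g * i = g → g ≠ i →
      Module.finrank k (corner F g) < n := by
    intro g hg hgg hig hgi hne
    have hlt : corner F g < corner F i := by
      refine lt_of_le_of_ne (fun a ha => ?_) fun he' => hne ?_
      · have h1 : g * a = a := left_absorb hgg ha.2
        have h2 : a * g = a := right_absorb hgg ha.2
        exact (show a ∈ F ∧ i * a * i = a from ⟨ha.1, by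
          rw [show i * a = a by rw [← h1, ← mul_assoc, hig],
            show a * i = a by rw [← h2, mul_assoc, hgi]]⟩)
      · have h3 : i ∈ corner F g := by
          rw [he']
          exact (show i ∈ F ∧ i * i * i = i from ⟨hi, by rw [hii, hii]⟩)
        have h4 : g * i * g = i := h3.2
        rw [hgi, hgg] at h4
        exact h4
    exact lt_of_lt_of_le (Submodule.finrank_lt_finrank_of_lt hlt) hn
  obtain ⟨J₁, h1, h1'⟩ := ih _ (lt e he hee hl hr he1) e he hee le_rfl
  obtain ⟨J₂, h2, h2'⟩ := ih _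
    (lt f (sub_mem hi he) hff hil.1 hil.2 (fun h => he0 (sub_eq_self.mp h))) f (sub_mem hi he) hff
    le_rfl
  have cross : ∀ j ∈ J₁, ∀ l ∈ J₂, j * l = 0 ∧ l * j = 0 := fun j hj l hl' => by
    rw [← h1' j hj, ← h2' l hl']
    constructor
    · simp only [← mul_assoc]; rw [mul_assoc (e * j) e f, hef, mul_zero, zero_mul, zero_mul]
    · simp only [← mul_assoc]; rw [mul_assoc (f * l) f e, hfe, mul_zero, zero_mul, zero_mul]
  have hdis : Disjoint J₁ J₂ := Finset.disjoint_left.mpr fun j hj hj' =>
    (h1.loc j hj).ne (by rw [← (h1.loc j hj).idem]; exact (cross j hj j hj').1)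
  refine ⟨J₁ ∪ J₂, ⟨fun j hj => ?_, fun j hj l hl' hne => ?_, ?_⟩, fun j hj => ?_⟩
  · rcases Finset.mem_union.mp hj with hj | hj
    · exact h1.loc j hj
    · exact h2.loc j hj
  · rcases Finset.mem_union.mp hj with hj | hj <;> rcases Finset.mem_union.mp hl' with hl' | hl'
    · exact h1.orth j hj l hl' hne
    · exact (cross j hj l hl').1
    · exact (cross l hl' j hj).2
    · exact h2.orth j hj l hl' hne
  · rw [Finset.sum_union hdis, h1.sum, h2.sum, hf, add_sub_cancel]
  · rcases Finset.mem_union.mp hj with hj | hj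
    · rw [← h1' j hj]; simp only [← mul_assoc, hl]; rw [mul_assoc (e * j), hr]
    · rw [← h2' j hj]; simp only [← mul_assoc, hil.1]; rw [mul_assoc (f * j), hil.2]

end Finite

section Decomp

variable {J J' : Finset A}

theorem Decomp.mul_right (h : Decomp F i J) (hj : j ∈ J) : i * j = j ∧ j * i = j := by
  rw [← h.sum, Finset.sum_mul, Finset.mul_sum, Finset.sum_eq_single j, Finset.sum_eq_single j]
  · exact ⟨(h.loc j hj).idem, (h.loc j hj).idem⟩
  · exact fun l hl hne => h.orth j hj l hl (Ne.symm hne)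
  · exact fun hn => absurd hj hn
  · exact fun l hl hne => h.orth l hl j hj hne
  · exact fun hn => absurd hj hn

theorem Decomp.mem (h : Decomp F i J) : i ∈ F := h.sum ▸ sum_mem fun j hj => (h.loc j hj).mem

theorem Decomp.map (h : Decomp F i J) (σ : A ≃ₐ[k] A) (hσ : ∀ a, σ a ∈ F ↔ a ∈ F) :
    Decomp F (σ i) (J.map σ.toEquiv.toEmbedding) := by
  refine ⟨fun j hj => ?_, fun j hj l hl hne => ?_, ?_⟩
  · obtain ⟨j', hj', rfl⟩ := Finset.mem_map.mp hj
    exact (h.loc j' hj').map σ hσ
  · obtain ⟨j', hj', rfl⟩ := Finset.mem_map.mp hj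
    obtain ⟨l', hl', rfl⟩ := Finset.mem_map.mp hl
    show σ j' * σ l' = 0
    rw [← map_mul, h.orth j' hj' l' hl' fun e => hne (by rw [e]), map_zero]
  · rw [Finset.sum_map, ← h.sum, map_sum]
    rfl

open scoped Classical in
/-- The members equivalent to `j`. -/
noncomputable def cls (F : Subalgebra k A) (J : Finset A) (j : A) : Finset A :=
  J.filter fun l => Eqv F j l

theorem mem_cls {l : A} : l ∈ cls F J j ↔ l ∈ J ∧ Eqv F j l := by
  classical
  exact Finset.mem_filter

variable (hJ : Decomp F i J) (hJ' : Decomp F i J') (hj : j * j = j)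
include hJ hJ' hj

/-- The trace on a class does not depend on the decomposition. -/
theorem trace_eq {a : A} (ha : a ∈ F) (hai : i * a * i = a) (hii : i * i = i) :
    ∑ l ∈ cls F J j, (ev l a : k) = ∑ l ∈ cls F J' j, ev l a := by
  have hzero : ∀ l ∈ J, ∀ m ∈ J', ¬ Eqv F l m → (ev m (l * a) : k) = 0 := by
    intro l hl m hm hne
    have hlm : m * l * a * m = (m * l) * (l * a * m) := by
      simp only [← mul_assoc]
      rw [mul_assoc m l l, (hJ.loc l hl).idem]
    rw [← ev_corner (hJ'.loc m hm) (mul_mem (hJ.loc l hl).mem ha), ← mul_assoc m l a, hlm]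
    by_contra h
    refine hne (eqv_of_ev (hJ'.loc m hm) (hJ.loc l hl) (mul_mem (hJ'.loc m hm).mem (hJ.loc l hl).mem)
      (mul_mem (mul_mem (hJ.loc l hl).mem ha) (hJ'.loc m hm).mem) ?_ ?_ h).symm
    · rw [← mul_assoc, (hJ'.loc m hm).idem, mul_assoc, (hJ.loc l hl).idem]
    · simp only [← mul_assoc, (hJ.loc l hl).idem]
      rw [mul_assoc (l * a), (hJ'.loc m hm).idem]
  have hexp : ∀ l ∈ J, (ev l a : k) = ∑ m ∈ J', ev m (l * a) := by
    intro l hl
    have hL := hJ.loc l hl
    calc (ev l a : k) = ev l (∑ m ∈ J', a * m) := by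
          rw [← Finset.mul_sum, hJ'.sum, right_absorb hii hai]
      _ = ∑ m ∈ J', ev l (a * m) :=
          ev_sum hL _ _ fun m hm => mul_mem ha (hJ'.loc m hm).mem
      _ = _ := Finset.sum_congr rfl fun m hm => by
          have hM := hJ'.loc m hm
          have e1 : l * (a * m) * l = (l * a * m) * (m * l) := by
            simp only [← mul_assoc]; rw [mul_assoc (l * a) m m, hM.idem]
          rw [← ev_corner hL (mul_mem ha hM.mem), e1,
            ev_swap hL hM (mul_mem (mul_mem hL.mem ha) hM.mem) (mul_mem hM.mem hL.mem)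
              (by simp only [← mul_assoc, hL.idem]; rw [mul_assoc (l * a), hM.idem])
              (by rw [← mul_assoc, hM.idem, mul_assoc, hL.idem]),
            ← ev_corner hM (mul_mem hL.mem ha)]
          congr 1
          simp only [← mul_assoc]
          rw [mul_assoc m l l, hL.idem]
  have hsub : cls F J j ⊆ J := fun l hl => (mem_cls.mp hl).1
  have hsub' : cls F J' j ⊆ J' := fun l hl => (mem_cls.mp hl).1
  calc ∑ l ∈ cls F J j, (ev l a : k) = ∑ l ∈ cls F J j, ∑ m ∈ cls F J' j, ev m (l * a) := by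
        refine Finset.sum_congr rfl fun l hl => ?_
        rw [hexp l (hsub hl)]
        refine (Finset.sum_subset hsub' fun m hm hm' => hzero l (hsub hl) m hm fun h => hm' ?_).symm
        exact mem_cls.mpr ⟨hm, (mem_cls.mp hl).2.trans hj (hJ.loc l (hsub hl)).idem
          (hJ'.loc m hm).idem h⟩
    _ = ∑ m ∈ cls F J' j, ∑ l ∈ cls F J j, ev m (l * a) := Finset.sum_comm
    _ = _ := by
      refine Finset.sum_congr rfl fun m hm => ?_
      have hM := hJ'.loc m (hsub' hm)
      rw [Finset.sum_subset hsub fun l hl hl' => hzero l hl m (hsub' hm) fun h => hl' ?_,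
        ← ev_sum hM _ _ fun l hl => mul_mem (hJ.loc l hl).mem ha, ← Finset.sum_mul, hJ.sum,
        left_absorb hii hai]
      exact mem_cls.mpr ⟨hl, (mem_cls.mp hm).2.trans hj hM.idem (hJ.loc l hl).idem h.symm⟩

/-- A class has at most as many members as in another decomposition. -/
theorem card_cls_le (hjL : Loc F j) :
    (cls F J j).card ≤ (cls F J' j).card := by
  classical
  set S := cls F J j
  set S' := cls F J' j
  choose x hxF y hyF hx hy hxy hyx using fun l : S => (mem_cls.mp l.2).2
  choose x' hxF' y' hyF' hx' hy' hxy' hyx' using fun l : S' => (mem_cls.mp l.2).2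
  let P : Matrix S S' k := Matrix.of fun l m => ev j (x l * y' m)
  let Q : Matrix S' S k := Matrix.of fun m l => ev j (x' m * y l)
  have hPQ : P * Q = 1 := by
    ext l n
    have hL := hJ.loc l (mem_cls.mp l.2).1
    have hN := hJ.loc n (mem_cls.mp n.2).1
    have hin : ∀ (a b : A) (c d : A), j * a * c = a → d * b * j = b →
        j * (a * b) * j = a * b := fun a b c d ha hb => by
      rw [← mul_assoc, left_absorb hj ha, mul_assoc, right_absorb hj hb]
    have e1 : (P * Q) l n = ∑ m ∈ J', ev j (x l * m * y n) := by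
      rw [Matrix.mul_apply, ← Finset.sum_subset (fun m hm => (mem_cls.mp hm).1 : S' ⊆ J'),
        ← Finset.sum_coe_sort S']
      · refine Finset.sum_congr rfl fun m _ => ?_
        simp only [P, Q, Matrix.of_apply]
        rw [← ev_mul hjL (mul_mem (hxF l) (hyF' m)) (mul_mem (hxF' m) (hyF n)),
          hin _ _ _ _ (hx l) (hy' m), hin _ _ _ _ (hx' m) (hy n)]
        congr 1
        rw [mul_assoc, ← mul_assoc (y' m), hyx' m, mul_assoc]
      · intro m hm hm'
        have hM := hJ'.loc m hm
        by_contra h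
        apply hm'
        refine mem_cls.mpr ⟨hm, ?_⟩
        refine eqv_of_ev hjL hM (x := x l * m) (y := m * y n) (mul_mem (hxF l) hM.mem)
          (mul_mem hM.mem (hyF n)) ?_ ?_ ?_
        · rw [← mul_assoc, left_absorb hj (hx l), mul_assoc, hM.idem]
        · rw [← mul_assoc, hM.idem, mul_assoc, right_absorb hj (hy n)]
        · rwa [mul_assoc, ← mul_assoc m m, hM.idem, ← mul_assoc]
    have hin' : i * y n = y n := by
      rw [← left_absorb hN.idem (hy n), ← mul_assoc, (hJ.mul_right (mem_cls.mp n.2).1).1]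
    rw [e1, ← ev_sum hjL _ _ fun m hm =>
        mul_mem (mul_mem (hxF l) (hJ'.loc m hm).mem) (hyF n), ← Finset.sum_mul, ← Finset.mul_sum,
      hJ'.sum, mul_assoc, hin', Matrix.one_apply]
    by_cases hln : l = n
    · subst hln; rw [if_pos rfl, hxy l, ev_self hjL]
    · rw [if_neg hln, ← right_absorb hL.idem (hx l), ← left_absorb hN.idem (hy n), mul_assoc,
        ← mul_assoc (l : A), hJ.orth l (mem_cls.mp l.2).1 n (mem_cls.mp n.2).1
          (fun e => hln (Subtype.ext e)), zero_mul, mul_zero, ev_zero hjL]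
  have h := Matrix.rank_mul_le_left P Q
  rw [hPQ, Matrix.rank_one] at h
  have h2 := h.trans (Matrix.rank_le_card_width P)
  simpa [Fintype.card_coe] using h2

end Decomp

end Cfsg.Agent.Lib.Watanabe.Primitive
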