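import Cfsg.Agent.Lib.CNGroup.Basic
import Cfsg.Agent.Lib.BrauerMap.PrincipalSection

/-!
# Subgroups that are a `p`-group times a regular group; maximal subgroups of the `p`-part
-/

set_option autoImplicit false
set_option linter.style.haveILetI false
set_option linter.unusedSectionVars false

set_option linter.dupNamespace false

namespace Cfsg.Agent.Lib.Watanabe.Split

universe u v

variable {G : Type u} [Group G] [Finite G] {p : ℕ} [Fact p.Prime]

/-- `E` is the commuting product of a `p`-group and a group of regular elements. -/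
structure Split (p : ℕ) (E Q Y : Subgroup G) : Prop where
  leQ : Q ≤ E
  leY : Y ≤ E
  pQ : IsPGroup p Q
  regY : ∀ y ∈ Y, ¬ p ∣ orderOf y
  comm : ∀ x ∈ Q, ∀ y ∈ Y, x * y = y * x
  decomp : ∀ e ∈ E, ∃ x ∈ Q, ∃ y ∈ Y, x * y = e

theorem exists_split {E : Subgroup G} (hE : Group.IsNilpotent E) :
    ∃ Q Y : Subgroup G, Split p E Q Y := by
  haveI := hE
  obtain ⟨S⟩ : Nonempty (Sylow p E) := inferInstance
  haveI hn : (S : Subgroup E).Normal :=
    S.normal_of_normalizerCondition Group.normalizerCondition_of_isNilpotent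
  obtain ⟨K, hK⟩ := Subgroup.exists_right_complement'_of_coprime
    (Sylow.card_coprime_index S)
  have hKcard : Nat.card K = (S : Subgroup E).index := hK.symm.index_eq_card.symm
  have hreg : ∀ y ∈ K, ¬ p ∣ orderOf y := fun y hy hdvd => S.not_dvd_index
    (hdvd.trans ((Subgroup.orderOf_dvd_natCard K hy).trans (dvd_of_eq hKcard)))
  refine ⟨(S : Subgroup E).map E.subtype, K.map E.subtype, Subgroup.map_subtype_le _,
    Subgroup.map_subtype_le _, S.2.map _, ?_, ?_, ?_⟩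
  · rintro _ ⟨y, hy, rfl⟩
    rw [Subgroup.coe_subtype, Subgroup.orderOf_coe]
    exact hreg y hy
  · rintro _ ⟨x, hx, rfl⟩ _ ⟨y, hy, rfl⟩
    obtain ⟨n, hn'⟩ := IsPGroup.iff_orderOf.mp S.2 ⟨x, hx⟩
    rw [← map_mul, ← map_mul]
    refine congrArg _ (CNGroup.Basic.commute_of_coprime_nilpotent E x y ?_)
    rw [show orderOf x = p ^ n by rw [← hn']; exact (Subgroup.orderOf_mk x hx).symm]
    exact ((Fact.out : p.Prime).coprime_iff_not_dvd.mpr (hreg y hy)).pow_left n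
  · intro e he
    obtain ⟨⟨⟨x, hx⟩, ⟨y, hy⟩⟩, hxy⟩ := hK.2 ⟨e, he⟩
    exact ⟨x, ⟨x, hx, rfl⟩, y, ⟨y, hy, rfl⟩, congrArg Subtype.val hxy⟩

variable {E Q Y : Subgroup G}

theorem Split.exists_orderOf (hS : Split p E Q Y) {x : G} (hx : x ∈ Q) :
    ∃ m, orderOf x = p ^ m := by
  obtain ⟨n, hn⟩ := IsPGroup.iff_orderOf.mp hS.pQ ⟨x, hx⟩
  exact ⟨n, by rw [← hn, Subgroup.orderOf_mk]⟩

theorem Split.isPPart (hS : Split p E Q Y) {x y : G} (hx : x ∈ Q) (hy : y ∈ Y) :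
    Cfsg.IsPPart p (x * y) x :=
  ⟨y, rfl, hS.comm x hx y hy, hS.exists_orderOf hx, hS.regY y hy⟩

theorem Split.unique (hS : Split p E Q Y) {x y x' y' : G} (hx : x ∈ Q) (hy : y ∈ Y)
    (hx' : x' ∈ Q) (hy' : y' ∈ Y) (h : x * y = x' * y') : x = x' ∧ y = y' := by
  have e := BrauerMap.PrincipalSection.isPPart_unique (Fact.out : p.Prime) (hS.isPPart hx hy)
    (h ▸ hS.isPPart hx' hy')
  exact ⟨e, mul_left_cancel (a := x') (by rw [← h, e])⟩

theorem Split.mem_zpowers (hS : Split p E Q Y) {x y : G} (hx : x ∈ Q) (hy : y ∈ Y) :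
    x ∈ Subgroup.zpowers (x * y) :=
  BrauerMap.PrincipalSection.isPPart_mem_zpowers (Fact.out : p.Prime) (hS.isPPart hx hy)

/-- Products of parts. -/
theorem Split.mul_parts (hS : Split p E Q Y) {x y x' y' : G} (hy : y ∈ Y)
    (hx' : x' ∈ Q) : x * y * (x' * y') = x * x' * (y * y') := by
  rw [mul_assoc, ← mul_assoc y, ← hS.comm x' hx' y hy, mul_assoc, mul_assoc x x']

/-- The part of the product over a subgroup of the `p`-part. -/
def Split.sub (hS : Split p E Q Y) {Q₀ : Subgroup G} (hle : Q₀ ≤ Q) : Subgroup G where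
  carrier := {e | ∃ x ∈ Q₀, ∃ y ∈ Y, x * y = e}
  one_mem' := ⟨1, one_mem _, 1, one_mem _, one_mul 1⟩
  mul_mem' := by
    rintro _ _ ⟨x, hx, y, hy, rfl⟩ ⟨x', hx', y', hy', rfl⟩
    exact ⟨x * x', mul_mem hx hx', y * y', mul_mem hy hy',
      (hS.mul_parts hy (hle hx')).symm⟩
  inv_mem' := by
    rintro _ ⟨x, hx, y, hy, rfl⟩
    exact ⟨x⁻¹, inv_mem hx, y⁻¹, inv_mem hy, by
      rw [mul_inv_rev, hS.comm x⁻¹ (inv_mem (hle hx)) y⁻¹ (inv_mem hy)]⟩

theorem Split.sub_le (hS : Split p E Q Y) {Q₀ : Subgroup G} (hle : Q₀ ≤ Q) :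
    hS.sub hle ≤ E := by
  rintro _ ⟨x, hx, y, hy, rfl⟩
  exact mul_mem (hS.leQ (hle hx)) (hS.leY hy)

theorem Split.split_sub (hS : Split p E Q Y) {Q₀ : Subgroup G} (hle : Q₀ ≤ Q) :
    Split p (hS.sub hle) Q₀ Y where
  leQ x hx := ⟨x, hx, 1, one_mem _, mul_one x⟩
  leY y hy := ⟨1, one_mem _, y, hy, one_mul y⟩
  pQ := hS.pQ.to_le hle
  regY := hS.regY
  comm x hx y hy := hS.comm x (hle hx) y hy
  decomp _ he := he

theorem Split.mem_sub_iff (hS : Split p E Q Y) {Q₀ : Subgroup G} (hle : Q₀ ≤ Q) {x y : G}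
    (hx : x ∈ Q) (hy : y ∈ Y) : x * y ∈ hS.sub hle ↔ x ∈ Q₀ := by
  refine ⟨?_, fun h => ⟨x, h, y, hy, rfl⟩⟩
  rintro ⟨x', hx', y', hy', e⟩
  rwa [← (hS.unique (hle hx') hy' hx hy e).1]

/-- A maximal subgroup of the `p`-part. -/
structure Maxi (p : ℕ) (Q Q₀ : Subgroup G) : Prop where
  le : Q₀ ≤ Q
  norm : ∀ s ∈ Q, ∀ x ∈ Q₀, s * x * s⁻¹ ∈ Q₀
  index : Q₀.relIndex Q = p

theorem exists_maxi (hQ : IsPGroup p Q) {H : Subgroup G} (hH : H < Q) :
    ∃ Q₀, Maxi p Q Q₀ ∧ H ≤ Q₀ := by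
  obtain ⟨n, hn⟩ := IsPGroup.iff_card.mp hQ
  set H' := H.subgroupOf Q
  obtain ⟨a, ha⟩ := IsPGroup.iff_card.mp (hQ.to_subgroup H')
  have hlt : a < n := by
    have hne : H' ≠ ⊤ := by
      rw [Ne, Subgroup.subgroupOf_eq_top]
      exact not_le_of_gt hH
    have h2 : Nat.card H' < Nat.card Q := by
      by_contra hle
      exact hne (Subgroup.eq_top_of_le_card _ (Nat.not_lt.mp hle))
    rw [ha, hn] at h2
    exact (Nat.pow_lt_pow_iff_right (Fact.out : p.Prime).one_lt).mp h2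
  obtain ⟨K, hK, hHK⟩ := Sylow.exists_subgroup_card_pow_prime_le p (n := a) (m := n - 1)
    (by rw [hn]; exact pow_dvd_pow p (Nat.sub_le n 1)) H' ha (by omega)
  have hidx : K.index = p := by
    have h := K.card_mul_index
    rw [hK, hn] at h
    refine Nat.eq_of_mul_eq_mul_left (pow_pos (Fact.out : p.Prime).pos (n - 1)) ?_
    rw [h, ← pow_succ, Nat.sub_add_cancel (by omega)]
  have hnorm : K.Normal := by
    refine Subgroup.normal_of_index_eq_minFac_card ?_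
    rw [hidx, hn, Nat.pow_minFac (by omega), (Fact.out : p.Prime).minFac_eq]
  refine ⟨K.map Q.subtype, ⟨Subgroup.map_subtype_le _, ?_, ?_⟩, fun h hh => ?_⟩
  · rintro s hs _ ⟨x, hx, rfl⟩
    exact ⟨⟨s, hs⟩ * x * (⟨s, hs⟩ : Q)⁻¹, hnorm.conj_mem x hx _, rfl⟩
  · show ((K.map Q.subtype).subgroupOf Q).index = p
    rwa [Subgroup.subgroupOf, Subgroup.comap_map_eq_self_of_injective Q.subtype_injective]
  · exact ⟨⟨h, hH.le hh⟩, hHK hh, rfl⟩

variable {Q₀ : Subgroup G}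

theorem Maxi.exists_notMem (hM : Maxi p Q Q₀) : ∃ s ∈ Q, s ∉ Q₀ := by
  by_contra h
  push Not at h
  have h1 : Q₀.relIndex Q = 1 := Subgroup.relIndex_eq_one.mpr h
  rw [hM.index] at h1
  exact (Fact.out : p.Prime).one_lt.ne' h1

theorem Maxi.card_lt (hM : Maxi p Q Q₀) : Nat.card Q₀ < Nat.card Q := by
  obtain ⟨s, hs, hs'⟩ := hM.exists_notMem
  by_contra h
  exact hs' (Subgroup.eq_of_le_of_card_ge hM.le (Nat.not_lt.mp h) ▸ hs)

theorem Maxi.normal (hM : Maxi p Q Q₀) : (Q₀.subgroupOf Q).Normal :=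
  ⟨fun x hx s => hM.norm s s.2 x hx⟩

theorem Maxi.pow_mem (hM : Maxi p Q Q₀) {s : G} (hs : s ∈ Q) : s ^ p ∈ Q₀ := by
  haveI := hM.normal
  have h := Subgroup.pow_index_mem (Q₀.subgroupOf Q) (⟨s, hs⟩ : Q)
  rwa [show (Q₀.subgroupOf Q).index = p from hM.index, Subgroup.mem_subgroupOf] at h

/-- Powers of an element outside represent the cosets. -/
theorem Maxi.bijective (hM : Maxi p Q Q₀) {s : G} (hs : s ∈ Q) (hs' : s ∉ Q₀) :
    Function.Bijective fun t : Fin p => ((⟨s, hs⟩ ^ (t : ℕ) : Q) : Q ⧸ Q₀.subgroupOf Q) := by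
  haveI := hM.normal
  have hord : orderOf ((⟨s, hs⟩ : Q) : Q ⧸ Q₀.subgroupOf Q) = p := by
    refine orderOf_eq_prime ?_ ?_
    · rw [← QuotientGroup.mk_pow, QuotientGroup.eq_one_iff, Subgroup.mem_subgroupOf]
      exact hM.pow_mem hs
    · rw [Ne, QuotientGroup.eq_one_iff, Subgroup.mem_subgroupOf]
      exact hs'
  haveI := Fintype.ofFinite (Q ⧸ Q₀.subgroupOf Q)
  refine (Fintype.bijective_iff_injective_and_card _).mpr ⟨fun a b h => ?_, ?_⟩
  · simp only [QuotientGroup.mk_pow] at h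
    exact Fin.ext ((pow_injOn_Iio_orderOf (x := ((⟨s, hs⟩ : Q) : Q ⧸ Q₀.subgroupOf Q)))
      (by rw [Set.mem_Iio, hord]; exact a.2) (by rw [Set.mem_Iio, hord]; exact b.2) h)
  · rw [Fintype.card_fin, ← Nat.card_eq_fintype_card, ← Subgroup.index_eq_card]
    exact hM.index.symm

theorem Maxi.exists_pow (hM : Maxi p Q Q₀) {s : G} (hs : s ∈ Q) (hs' : s ∉ Q₀) {x : G}
    (hx : x ∈ Q) : ∃ t < p, (s ^ t)⁻¹ * x ∈ Q₀ := by
  obtain ⟨t, ht⟩ := (hM.bijective hs hs').2 ((⟨x, hx⟩ : Q) : Q ⧸ Q₀.subgroupOf Q)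
  refine ⟨t, t.2, ?_⟩
  have h := QuotientGroup.eq.mp ht
  simpa [Subgroup.mem_subgroupOf] using h

theorem Maxi.pow_unique (hM : Maxi p Q Q₀) {s : G} (hs : s ∈ Q) (hs' : s ∉ Q₀) {a b : ℕ}
    (ha : a < p) (hb : b < p) (h : (s ^ a)⁻¹ * s ^ b ∈ Q₀) : a = b := by
  have h2 : ((⟨s, hs⟩ ^ a : Q) : Q ⧸ Q₀.subgroupOf Q) = ((⟨s, hs⟩ ^ b : Q) : Q ⧸ Q₀.subgroupOf Q) := by
    rw [QuotientGroup.eq, Subgroup.mem_subgroupOf]
    simpa using h
  exact congrArg Fin.val ((hM.bijective hs hs').1 (a₁ := ⟨a, ha⟩) (a₂ := ⟨b, hb⟩) h2)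

open scoped Classical in
/-- Sums over cosets do not depend on the element outside. -/
theorem Maxi.sum_pow_eq {β : Type v} [AddCommMonoid β] (hM : Maxi p Q Q₀) {s s' : G} (hs : s ∈ Q)
    (hs₀ : s ∉ Q₀) (hs' : s' ∈ Q) (hs₀' : s' ∉ Q₀) (f : G → β)
    (hf : ∀ u ∈ Q, ∀ q ∈ Q₀, f (u * q) = f u) :
    ∑ t ∈ Finset.range p, f (s ^ t) = ∑ t ∈ Finset.range p, f (s' ^ t) := by
  haveI := Fintype.ofFinite (Q ⧸ Q₀.subgroupOf Q)
  have key : ∀ s : G, ∀ (hs : s ∈ Q) (_ : s ∉ Q₀), ∑ t ∈ Finset.range p, f (s ^ t) =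
      ∑ a : Q ⧸ Q₀.subgroupOf Q, f ((a.out : Q) : G) := by
    intro s hs hs₀
    rw [← Fin.sum_univ_eq_sum_range (fun t => f (s ^ t))]
    refine Fintype.sum_bijective _ (hM.bijective hs hs₀) _ _ fun t => ?_
    obtain ⟨q, hq⟩ := QuotientGroup.mk_out_eq_mul (Q₀.subgroupOf Q) ((⟨s, hs⟩ : Q) ^ (t : ℕ))
    rw [hq, Subgroup.coe_mul, SubmonoidClass.coe_pow]
    exact (hf _ (_root_.pow_mem hs _) _ (Subgroup.mem_subgroupOf.mp q.2)).symm
  rw [key s hs hs₀, key s' hs' hs₀']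

open scoped Classical in
/-- A sum over the whole product as a sum over cosets. -/
theorem Split.sum_eq [Fintype E] (hS : Split p E Q Y) (hM : Maxi p Q Q₀) {s : G} (hs : s ∈ Q)
    (hs₀ : s ∉ Q₀) {β : Type v} [AddCommMonoid β] (f : G → β)
    (hf : ∀ u ∈ E, ∀ q ∈ hS.sub hM.le, f (u * q) = f u) :
    ∑ u : E, f u = Nat.card (hS.sub hM.le) • ∑ t ∈ Finset.range p, f (s ^ t) := by
  haveI := Fintype.ofFinite (hS.sub hM.le)
  let F : Fin p × hS.sub hM.le → E := fun a =>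
    ⟨s ^ (a.1 : ℕ) * a.2, mul_mem (hS.leQ (pow_mem hs _)) (hS.sub_le hM.le a.2.2)⟩
  have hF : Function.Bijective F := by
    constructor
    · rintro ⟨a, q⟩ ⟨b, q'⟩ h
      have h' : s ^ (a : ℕ) * q = s ^ (b : ℕ) * q' := congrArg Subtype.val h
      have h2 : (s ^ (b : ℕ))⁻¹ * s ^ (a : ℕ) * 1 ∈ hS.sub hM.le := by
        rw [mul_one, show (s ^ (b : ℕ))⁻¹ * s ^ (a : ℕ) = (q' : G) * (q : G)⁻¹ by
          rw [eq_mul_inv_iff_mul_eq, mul_assoc, h', inv_mul_cancel_left]]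
        exact mul_mem q'.2 (inv_mem q.2)
      rw [hS.mem_sub_iff hM.le (mul_mem (inv_mem (pow_mem hs _)) (pow_mem hs _)) (one_mem _)] at h2
      have hab := hM.pow_unique hs hs₀ b.2 a.2 h2
      rw [← hab] at h'
      exact Prod.ext (Fin.ext hab.symm) (Subtype.ext (mul_left_cancel h'))
    · intro e
      obtain ⟨x, hx, y, hy, hxy⟩ := hS.decomp e e.2
      obtain ⟨t, ht, hm⟩ := hM.exists_pow hs hs₀ hx
      refine ⟨(⟨t, ht⟩, ⟨(s ^ t)⁻¹ * x * y, ⟨_, hm, y, hy, rfl⟩⟩), Subtype.ext ?_⟩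
      show s ^ t * ((s ^ t)⁻¹ * x * y) = (e : G)
      rw [← hxy]
      group
  rw [← Fintype.sum_bijective F hF (fun a => f (s ^ (a.1 : ℕ))) (fun u => f u)
    (fun a => (hf _ (hS.leQ (pow_mem hs _)) _ a.2.2).symm), Fintype.sum_prod_type, Finset.smul_sum,
    ← Fin.sum_univ_eq_sum_range (fun t => Nat.card (hS.sub hM.le) • f (s ^ t))]
  exact Finset.sum_congr rfl fun t _ => by simp [Nat.card_eq_fintype_card]

/-- Integer weights with prescribed orbit sums for a map of prime period. -/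
theorem exists_orbit_coeff {α : Type v} (f : α → α) (hf : ∀ a, f^[p] a = a) (Ω : Finset α)
    (hΩ : ∀ a ∈ Ω, f a ∈ Ω) (m : α → ℕ) (hm : ∀ a ∈ Ω, m (f a) = m a)
    (hfix : ∀ a ∈ Ω, f a = a → p ∣ m a) :
    ∃ w : α → ℤ, ∀ a ∈ Ω, ∑ t ∈ Finset.range p, w (f^[t] a) = m a := by
  classical
  have hp := (Fact.out : p.Prime)
  let orb : α → Finset α := fun a => (Finset.range p).image fun t => f^[t] a
  let sel : Finset α → α → α := fun s d => if h : s.Nonempty then h.choose else d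
  let rep : α → α := fun a => sel (orb a) a
  let w : α → ℤ := fun a => if f a = a then ((m a / p : ℕ) : ℤ) else if rep a = a then (m a : ℤ) else 0
  refine ⟨w, fun a ha => ?_⟩
  by_cases hfa : f a = a
  · have : ∀ t, f^[t] a = a := fun t => Function.iterate_fixed hfa t
    rw [Finset.sum_congr rfl fun t _ => by rw [this t], Finset.sum_const, Finset.card_range,
      nsmul_eq_mul, show w a = ((m a / p : ℕ) : ℤ) from if_pos hfa, ← Nat.cast_mul,
      Nat.mul_div_cancel' (hfix a ha hfa)]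
  have horb : ∀ b, orb (f b) = orb b := by
    intro b
    have hmod : ∀ t, f^[t] b = f^[t % p] b := fun t =>
      (Function.IsPeriodicPt.iterate_mod_apply (show Function.IsPeriodicPt f p b from hf b) t).symm
    ext c
    simp only [orb, Finset.mem_image, Finset.mem_range]
    constructor
    · rintro ⟨t, -, rfl⟩
      exact ⟨(t + 1) % p, Nat.mod_lt _ hp.pos, by rw [← hmod, Function.iterate_succ_apply]⟩
    · rintro ⟨t, -, rfl⟩
      refine ⟨(t + (p - 1)) % p, Nat.mod_lt _ hp.pos, ?_⟩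
      have h2 : (f b) = f^[1] b := rfl
      rw [h2, ← Function.iterate_add_apply, hmod, Nat.mod_add_mod,
        show t + (p - 1) + 1 = t + p by have := hp.pos; omega, Nat.add_mod_right, ← hmod]
  have horbt : ∀ t, orb (f^[t] a) = orb a := fun t => by
    induction t with
    | zero => rfl
    | succ t ih => rw [Function.iterate_succ_apply', horb, ih]
  have hne : (orb a).Nonempty := ⟨a, Finset.mem_image.mpr ⟨0, Finset.mem_range.mpr hp.pos, rfl⟩⟩
  have hrep : ∀ t, rep (f^[t] a) = rep a := fun t => by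
    simp only [rep, sel, horbt t, dif_pos hne]
  have hinj : ∀ t < p, ∀ t' < p, f^[t] a = f^[t'] a → t = t' := by
    have hper : Function.minimalPeriod f a = p :=
      (hp.eq_one_or_self_of_dvd _ (Function.IsPeriodicPt.minimalPeriod_dvd (hf a))).resolve_left
        fun h => hfa (Function.minimalPeriod_eq_one_iff_isFixedPt.mp h)
    intro t ht t' ht' e
    exact Function.iterate_injOn_Iio_minimalPeriod (f := f) (x := a)
      (by rwa [Set.mem_Iio, hper]) (by rwa [Set.mem_Iio, hper]) e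
  have hmt : ∀ t, m (f^[t] a) = m a ∧ f^[t] a ∈ Ω := fun t => by
    induction t with
    | zero => exact ⟨rfl, ha⟩
    | succ t ih =>
      rw [Function.iterate_succ_apply']
      exact ⟨(hm _ ih.2).trans ih.1, hΩ _ ih.2⟩
  have hnf : ∀ t, f (f^[t] a) ≠ f^[t] a := fun t e => hfa (by
    have h1 : f^[(p - 1) * t] (f^[t] a) = a := by
      rw [← Function.iterate_add_apply, show (p - 1) * t + t = p * t by
        have := hp.pos
        calc (p - 1) * t + t = (p - 1 + 1) * t := by ring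
          _ = p * t := by rw [Nat.sub_add_cancel this]]
      exact Function.IsPeriodicPt.mul_const (show Function.IsPeriodicPt f p a from hf a) t
    calc f a = f (f^[(p - 1) * t] (f^[t] a)) := by rw [h1]
      _ = f^[(p - 1) * t] (f (f^[t] a)) := by
        rw [← Function.iterate_succ_apply' f, Function.iterate_succ_apply]
      _ = a := by rw [e, h1])
  obtain ⟨t₀, ht₀, ht₀'⟩ : ∃ t₀ < p, f^[t₀] a = rep a := by
    have : rep a ∈ orb a := by
      simp only [rep, sel, dif_pos hne]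
      exact hne.choose_spec
    obtain ⟨t, ht, e⟩ := Finset.mem_image.mp this
    exact ⟨t, Finset.mem_range.mp ht, e⟩
  rw [Finset.sum_eq_single t₀]
  · show w (f^[t₀] a) = _
    simp only [w, if_neg (hnf t₀), hrep]
    rw [if_pos ht₀'.symm, (hmt t₀).1]
  · intro t ht hne'
    simp only [w, if_neg (hnf t), hrep]
    rw [if_neg]
    intro e
    exact hne' (hinj t (Finset.mem_range.mp ht) t₀ ht₀ (by rw [← e, ← ht₀']))
  · exact fun h => absurd (Finset.mem_range.mpr ht₀) h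

end Cfsg.Agent.Lib.Watanabe.Split
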