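import Cfsg.Agent.Lib.Watanabe.Local
import Cfsg.Agent.Lib.Watanabe.Primitive
import Cfsg.Agent.Lib.Watanabe.Split
import Cfsg.Agent.Lib.Brauer.Characterization
import Cfsg.Agent.Lib.Induced.Generalized

/-!
# The twisted character is a generalized character

On an elementary subgroup `E` the twisted function of a local idempotent of the fixed algebra is a
generalized character: either its truncation at the `p`-part `Q` of `E` is nonzero, and it is a
linear character times a character, or it is a trace from a subgroup of index `p`, and it is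
induced from there.
-/

set_option autoImplicit false
set_option linter.style.haveILetI false
set_option linter.unusedSectionVars false
set_option linter.unusedFintypeInType false

namespace Cfsg.Agent.Lib.Watanabe.Integral

open MonoidAlgebra Cfsg.Agent.Lib.BrauerMap.Basic
open Cfsg.Agent.Lib.BrauerPairs.Center Cfsg.Agent.Lib.BrauerPairs.Trunc
open Cfsg.Agent.Lib.BrauerPairs.Conj Cfsg.Agent.Lib.BrauerPairs.Pairs
open Cfsg.Agent.Lib.BrauerPairs.Transport Cfsg.Agent.Lib.BrauerPairs.Maximal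
open Cfsg.Agent.Lib.BrauerPairs.Bridge Cfsg.Agent.Lib.BrauerPairs.Local
open Cfsg.Agent.Lib.Blocks.SectionHeight (cz)
open Cfsg.Agent.Lib.Blocks (localRing)
open Cfsg.Agent.Lib.Induced.Generalized
open Cfsg.Agent.Lib.Watanabe.Lift Cfsg.Agent.Lib.Watanabe.Local
open Cfsg.Agent.Lib.Watanabe.Primitive Cfsg.Agent.Lib.Watanabe.Split

universe u

attribute [local instance] Ideal.Quotient.field

variable {M : Ideal Cfsg.AlgInt} [M.IsMaximal] {G : Type u} [Group G] [Fintype G]

local notation "kG" => MonoidAlgebra (Res M) G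
local notation "C[" P "]" => Subgroup.centralizer ((P : Subgroup G) : Set G)

instance finite_groupAlgebra : FiniteDimensional (Res M) kG :=
  Module.Finite.equiv (MonoidAlgebra.coeffLinearEquiv (Res M)).symm

/-- The elements commuting with a subgroup. -/
noncomputable def fixAlg (S : Subgroup G) : Subalgebra (Res M) kG where
  carrier := {a | ∀ z ∈ S, Commute (single z 1) a}
  mul_mem' ha hb z hz := (ha z hz).mul_right (hb z hz)
  one_mem' _ _ := Commute.one_right _
  add_mem' ha hb z hz := (ha z hz).add_right (hb z hz)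
  zero_mem' _ _ := Commute.zero_right _
  algebraMap_mem' r _ _ := Algebra.commute_algebraMap_right r _

theorem conjA_eq_self_iff (u : G) (a : kG) : conjA u a = a ↔ Commute (single u 1) a := by
  rw [commute_single_iff]
  constructor
  · intro h g
    conv_lhs => rw [← h, coeff_conjA_conj]
  · intro h
    ext g
    rw [coeff_conjA, ← h (u⁻¹ * g * u)]
    congr 1
    group

theorem conjA_eq_self {S : Subgroup G} {a : kG} (ha : a ∈ fixAlg S) {u : G} (hu : u ∈ S) :
    conjA u a = a :=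
  (conjA_eq_self_iff u a).mpr (ha u hu)

theorem isFixedBy_of_mem {S : Subgroup G} {a : kG} (ha : a ∈ fixAlg S) : IsFixedBy S a :=
  (isFixedBy_iff S a).mpr fun _ hu => conjA_eq_self ha hu

theorem mem_fixAlg_of_center {S : Subgroup G} {a : kG}
    (ha : a ∈ Subalgebra.center (Res M) kG) : a ∈ fixAlg S := fun _ _ =>
  Subalgebra.mem_center_iff.mp ha _

theorem conjA_mem_iff {S : Subgroup G} {s : G} (hs : ∀ u, u ∈ S ↔ s * u * s⁻¹ ∈ S) (a : kG) :
    conjA s a ∈ fixAlg S ↔ a ∈ fixAlg S := by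
  constructor
  · intro h u hu
    rw [← conjA_eq_self_iff]
    apply (conjA (k := Res M) s).injective
    rw [← conjA_mul, show s * u = (s * u * s⁻¹) * s by group, conjA_mul,
      conjA_eq_self h ((hs u).mp hu)]
  · intro h u hu
    rw [← conjA_eq_self_iff]
    have hu' : s⁻¹ * u * s ∈ S := (hs _).mpr (by
      rwa [show s * (s⁻¹ * u * s) * s⁻¹ = u by group])
    rw [← conjA_mul, show u * s = s * (s⁻¹ * u * s) by group, conjA_mul, conjA_eq_self h hu']

variable {p : ℕ} [Fact p.Prime] {E Q Y Q₀ : Subgroup G}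

theorem pair_commute (hS : Split p E Q Y) {a : kG} (ha : a ∈ fixAlg E) {x y : G} (hx : x ∈ Q)
    (hy : y ∈ Y) : ∀ z ∈ ({x, y} : Set G), Commute (single z 1) a := by
  rintro z (rfl | rfl)
  · exact ha z (hS.leQ hx)
  · exact ha z (hS.leY hy)

/-- Defined on the parts, a generalized character. -/
def Good (Q Y E : Subgroup G) (F : G → G → ℂ) : Prop :=
  ∃ f : E → ℂ, Cfsg.IsGeneralizedCharacter E f ∧
    ∀ x ∈ Q, ∀ y ∈ Y, ∀ e : E, (e : G) = x * y → f e = F x y

theorem good_of_zero {F : G → G → ℂ} (h : ∀ x ∈ Q, ∀ y ∈ Y, F x y = 0) : Good Q Y E F :=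
  ⟨0, isGen_zero, fun x hx y hy _ _ => (h x hx y hy).symm⟩

/-- The trace from a maximal subgroup. -/
noncomputable def trSum (p : ℕ) (s : G) (w : kG) : kG :=
  ∑ t ∈ Finset.range p, conjA (s ^ t) w

theorem conj_sub_iff (hS : Split p E Q Y) (hM : Maxi p Q Q₀) {s : G} (hs : s ∈ Q) (u : G) :
    u ∈ hS.sub hM.le ↔ s * u * s⁻¹ ∈ hS.sub hM.le := by
  have key : ∀ s ∈ Q, ∀ u ∈ hS.sub hM.le, s * u * s⁻¹ ∈ hS.sub hM.le := by
    rintro s hs _ ⟨x, hx, y, hy, rfl⟩
    refine ⟨s * x * s⁻¹, hM.norm s hs x hx, y, hy, ?_⟩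
    rw [mul_assoc (s * x), hS.comm s⁻¹ (inv_mem hs) y hy]
    group
  refine ⟨key s hs u, fun h => ?_⟩
  have := key s⁻¹ (inv_mem hs) _ h
  rwa [show s⁻¹ * (s * u * s⁻¹) * s⁻¹⁻¹ = u by group] at this

theorem trSum_eq (hS : Split p E Q Y) (hM : Maxi p Q Q₀) {s s' : G} (hs : s ∈ Q) (hs₀ : s ∉ Q₀)
    (hs' : s' ∈ Q) (hs₀' : s' ∉ Q₀) {w : kG} (hw : w ∈ fixAlg (hS.sub hM.le)) :
    trSum p s w = trSum p s' w :=
  hM.sum_pow_eq hs hs₀ hs' hs₀' (fun u => conjA u w) fun u _ q hq => by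
    show conjA (u * q) w = conjA u w
    rw [conjA_mul, conjA_eq_self hw ((hS.split_sub hM.le).leQ hq)]

theorem trSum_mem (hS : Split p E Q Y) (hM : Maxi p Q Q₀) {s : G} (hs : s ∈ Q) (hs₀ : s ∉ Q₀)
    {w : kG} (hw : w ∈ fixAlg (hS.sub hM.le)) : trSum p s w ∈ fixAlg E := by
  let St : Subgroup G :=
    { carrier := {u | conjA u (trSum p s w) = trSum p s w}
      one_mem' := conjA_one _
      mul_mem' := fun {a b} ha hb => by
        show conjA (a * b) _ = _
        rw [conjA_mul, hb, ha]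
      inv_mem' := fun {a} ha => by
        show conjA a⁻¹ _ = _
        conv_lhs => rw [← (ha : conjA a _ = _)]
        rw [← conjA_mul, inv_mul_cancel, conjA_one] }
  have hsub : ∀ u ∈ hS.sub hM.le, u ∈ St := fun u hu => by
    show conjA u (trSum p s w) = _
    rw [trSum, map_sum]
    refine Finset.sum_congr rfl fun t _ => ?_
    have hu' : (s ^ t)⁻¹ * u * s ^ t ∈ hS.sub hM.le := (conj_sub_iff hS hM (pow_mem hs t) _).mpr
      (by rwa [show s ^ t * ((s ^ t)⁻¹ * u * s ^ t) * (s ^ t)⁻¹ = u by group])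
    rw [← conjA_mul, show u * s ^ t = s ^ t * ((s ^ t)⁻¹ * u * s ^ t) by group, conjA_mul,
      conjA_eq_self hw hu']
  have hsSt : s ∈ St := by
    show conjA s (trSum p s w) = _
    rw [trSum, map_sum]
    simp only [← conjA_mul, ← pow_succ']
    refine Cfsg.Agent.Lib.Blocks.sum_range_shift (fun t => conjA (s ^ t) w) ?_
    show conjA (s ^ p) w = conjA (s ^ 0) w
    rw [pow_zero, conjA_one, conjA_eq_self hw ((hS.split_sub hM.le).leQ (hM.pow_mem hs))]
  intro u hu
  rw [← conjA_eq_self_iff]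
  obtain ⟨x, hx, y, hy, rfl⟩ := hS.decomp u hu
  obtain ⟨t, -, ht⟩ := hM.exists_pow hs hs₀ hx
  have : x * y = s ^ t * ((s ^ t)⁻¹ * x * y) := by group
  show x * y ∈ St
  rw [this]
  exact mul_mem (pow_mem hsSt t) (hsub _ ⟨_, ht, y, hy, rfl⟩)

variable [CharP (Res M) p]

theorem brE_trSum_self {x : G} (w : kG) : brE x (trSum p x w) = 0 := by
  ext h
  have hc : Commute (h : G) x := commute_mem h.2
  rw [brE, coeff_br, trSum, coeff_sum, Finsupp.finsetSum_apply,
    Finset.sum_congr rfl fun t _ => by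
      rw [coeff_conjA, mul_assoc, (hc.pow_right t).eq, inv_mul_cancel_left],
    Finset.sum_const, Finset.card_range, nsmul_eq_mul, CharP.cast_eq_zero, zero_mul]
  simp

open scoped Classical in
/-- An element off the centralizer of `Q` is a sum of traces, in any additive sense. -/
theorem additive_eq_zero (hS : Split p E Q Y) (ev₀ : kG → Res M)
    (hadd : ∀ a ∈ fixAlg E, ∀ b ∈ fixAlg E, ev₀ (a + b) = ev₀ a + ev₀ b) (hzero : ev₀ 0 = 0)
    (h : ∀ Q₀, ∀ hM : Maxi p Q Q₀, ∀ s ∈ Q, s ∉ Q₀ → ∀ b ∈ fixAlg (hS.sub hM.le),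
      ev₀ (trSum p s b) = 0) :
    ∀ a ∈ fixAlg (M := M) E, (∀ g ∈ C[Q], a.coeff g = 0) → ev₀ a = 0 := by
  suffices ∀ n, ∀ a ∈ fixAlg (M := M) E, (∀ g ∈ C[Q], a.coeff g = 0) →
      (Finset.univ.filter fun g => a.coeff g ≠ 0).card ≤ n → ev₀ a = 0 from
    fun a ha hoff => this _ a ha hoff le_rfl
  intro n
  induction n with
  | zero =>
    intro a _ _ hn
    rw [Nat.le_zero, Finset.card_eq_zero] at hn
    have h0 : a = 0 := by
      ext g
      by_contra hg
      have : g ∈ Finset.univ.filter fun g => a.coeff g ≠ 0 :=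
        Finset.mem_filter.mpr ⟨Finset.mem_univ g, by simpa using hg⟩
      rw [hn] at this
      exact absurd this (Finset.notMem_empty g)
    rw [h0, hzero]
  | succ n ih =>
  intro a ha hoff hn
  by_cases hz : ∀ g, a.coeff g = 0
  · have h0 : a = 0 := by ext g; simp [hz g]
    rw [h0, hzero]
  push Not at hz
  obtain ⟨g, hg⟩ := hz
  have hlt : Q ⊓ Subgroup.centralizer ({g} : Set G) < Q := by
    refine lt_of_le_of_ne inf_le_left fun e => hg (hoff g ?_)
    exact mem_centralizer_of_le (e ▸ inf_le_right)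
  obtain ⟨Q₀, hM, hHQ⟩ := exists_maxi hS.pQ hlt
  obtain ⟨s, hs, hs₀⟩ := hM.exists_notMem
  set E₀ := hS.sub hM.le with hE₀
  set O : Set G := {h | ∃ u ∈ E₀, u * g * u⁻¹ = h} with hO
  set b : kG := ofCoeff (Finsupp.equivFunOnFinite.symm fun h => if h ∈ O then a.coeff g else 0)
    with hb
  have hbc : ∀ h, b.coeff h = if h ∈ O then a.coeff g else 0 := fun h => rfl
  have hbm : b ∈ fixAlg E₀ := by
    intro z hz
    rw [commute_single_iff]
    intro h
    rw [hbc, hbc]
    refine if_congr ⟨?_, ?_⟩ rfl rfl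
    · rintro ⟨u, hu, e⟩
      refine ⟨z⁻¹ * u, mul_mem (inv_mem hz) hu, ?_⟩
      calc z⁻¹ * u * g * (z⁻¹ * u)⁻¹ = z⁻¹ * (u * g * u⁻¹) * z := by group
        _ = h := by rw [e]; group
    · rintro ⟨u, hu, rfl⟩
      exact ⟨z * u, mul_mem hz hu, by group⟩
  have htr := trSum_mem hS hM hs hs₀ hbm
  set OE : Set G := {h | ∃ u ∈ E, u * g * u⁻¹ = h}
  have hinv : ∀ u ∈ E, ∀ h, a.coeff (u * h * u⁻¹) = a.coeff h := fun u hu =>
    (commute_single_iff a u).mp (ha u hu)
  have htc : ∀ h, (trSum p s b).coeff h = if h ∈ OE then a.coeff h else 0 := by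
    intro h
    rw [trSum, coeff_sum, Finsupp.finsetSum_apply]
    simp only [coeff_conjA, hbc]
    split_ifs with hOE
    · obtain ⟨u, hu, rfl⟩ := hOE
      obtain ⟨x, hx, y, hy, rfl⟩ := hS.decomp u hu
      obtain ⟨t₀, ht₀, hm⟩ := hM.exists_pow hs hs₀ hx
      rw [Finset.sum_eq_single t₀, if_pos, hinv _ hu]
      · exact ⟨(s ^ t₀)⁻¹ * x * y, ⟨_, hm, y, hy, rfl⟩, by group⟩
      · intro t ht hne
        rw [if_neg]
        rintro ⟨u', hu', e⟩
        have hw : (s ^ t * u')⁻¹ * (x * y) ∈ E :=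
          mul_mem (inv_mem (mul_mem (hS.leQ (pow_mem hs t)) (hS.sub_le hM.le hu'))) hu
        have hwg : (s ^ t * u')⁻¹ * (x * y) ∈ Subgroup.centralizer ({g} : Set G) := by
          rw [Subgroup.mem_centralizer_singleton_iff]
          have e2 : (s ^ t * u')⁻¹ * (x * y) * g * ((s ^ t * u')⁻¹ * (x * y))⁻¹ = g := by
            calc (s ^ t * u')⁻¹ * (x * y) * g * ((s ^ t * u')⁻¹ * (x * y))⁻¹
                = u'⁻¹ * ((s ^ t)⁻¹ * (x * y * g * (x * y)⁻¹) * s ^ t) * u' := by group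
              _ = g := by rw [← e]; group
          exact mul_inv_eq_iff_eq_mul.mp e2
        obtain ⟨xw, hxw, yw, hyw, hxyw⟩ := hS.decomp _ hw
        have hxH : xw ∈ Q₀ := hHQ ⟨hxw, by
          have := hS.mem_zpowers hxw hyw
          rw [hxyw] at this
          exact Subgroup.zpowers_le.mpr hwg this⟩
        have hwE₀ : (s ^ t * u')⁻¹ * (x * y) ∈ E₀ := ⟨xw, hxH, yw, hyw, hxyw⟩
        have h2 : (s ^ t)⁻¹ * x * y ∈ E₀ := by
          have := mul_mem hu' hwE₀
          rwa [show u' * ((s ^ t * u')⁻¹ * (x * y)) = (s ^ t)⁻¹ * x * y by group] at this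
        rw [hS.mem_sub_iff hM.le (mul_mem (inv_mem (pow_mem hs t)) hx) hy] at h2
        refine hne (hM.pow_unique hs hs₀ (Finset.mem_range.mp ht) ht₀ ?_)
        have := mul_mem h2 (inv_mem hm)
        rwa [show (s ^ t)⁻¹ * x * ((s ^ t₀)⁻¹ * x)⁻¹ = (s ^ t)⁻¹ * s ^ t₀ by group] at this
      · exact fun hn => absurd (Finset.mem_range.mpr ht₀) hn
    · refine Finset.sum_eq_zero fun t ht => if_neg ?_
      rintro ⟨u', hu', e⟩
      refine hOE ⟨s ^ t * u', mul_mem (hS.leQ (pow_mem hs t)) (hS.sub_le hM.le hu'), ?_⟩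
      calc s ^ t * u' * g * (s ^ t * u')⁻¹ = s ^ t * (u' * g * u'⁻¹) * (s ^ t)⁻¹ := by group
        _ = h := by rw [e]; group
  have hsub : ∀ h, (a - trSum p s b).coeff h = if h ∈ OE then 0 else a.coeff h := by
    intro h
    rw [coeff_sub, Finsupp.sub_apply, htc]
    split_ifs <;> simp
  have h1 := ih (a - trSum p s b) (sub_mem ha htr)
    (fun h hh => by rw [hsub, hoff h hh, ite_self]) (by
      refine Nat.le_of_lt_succ (lt_of_lt_of_le (Finset.card_lt_card ?_) hn)
      refine Finset.ssubset_iff_of_subset (fun h hh => ?_) |>.mpr ⟨g, ?_, fun hh => ?_⟩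
      · simp only [Finset.mem_filter, Finset.mem_univ, true_and] at hh ⊢
        rw [hsub] at hh
        split_ifs at hh with hO
        · exact absurd rfl hh
        · exact hh
      · simp [hg]
      · simp only [Finset.mem_filter, Finset.mem_univ, true_and] at hh
        rw [hsub, if_pos ⟨1, one_mem _, by group⟩] at hh
        exact hh rfl)
  rw [← sub_add_cancel a (trSum p s b), hadd _ (sub_mem ha htr) _ htr, h1,
    h Q₀ hM s hs hs₀ b hbm, add_zero]

/-- A local idempotent vanishing at `Q` is a trace. -/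
theorem exists_trace (hS : Split p E Q Y) {i : kG} (hi : Loc (fixAlg E) i) (h0 : br Q i = 0) :
    ∃ Q₀, ∃ hM : Maxi p Q Q₀, ∃ s ∈ Q, s ∉ Q₀ ∧ ∃ w ∈ fixAlg (hS.sub hM.le),
      i * w * i = w ∧ trSum p s w = i := by
  have hoff : ∀ g ∈ C[Q], i.coeff g = 0 := fun g hg => by
    have := congrArg (fun z : MonoidAlgebra (Res M) C[Q] => z.coeff ⟨g, hg⟩) h0
    simpa [coeff_br] using this
  by_contra hno
  apply (one_ne_zero : (1 : Res M) ≠ 0)
  rw [← ev_self hi]
  refine additive_eq_zero hS (fun a => ev i a) (fun a ha b hb => ev_add hi ha hb) (ev_zero hi) ?_ i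
    hi.mem hoff
  intro Q₀ hM s hs hs₀ b hb
  by_contra hne
  apply hno
  obtain ⟨c, hc, hci, hc1, -⟩ := exists_inv hi (trSum_mem hS hM hs hs₀ hb) hne
  have hle : fixAlg (M := M) E ≤ fixAlg (hS.sub hM.le) := fun a ha z hz =>
    ha z (hS.sub_le hM.le hz)
  refine ⟨Q₀, hM, s, hs, hs₀, i * b * i * c,
    mul_mem (mul_mem (mul_mem (hle hi.mem) hb) (hle hi.mem)) (hle hc), ?_, ?_⟩
  · simp only [← mul_assoc, hi.idem]
    rw [mul_assoc (i * b * i) c i, right_absorb hi.idem hci]
  · rw [trSum, Finset.sum_congr rfl fun t _ => show conjA (s ^ t) (i * b * i * c) =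
        i * conjA (s ^ t) b * i * c by
      rw [map_mul, map_mul, map_mul, conjA_eq_self hi.mem (hS.leQ (pow_mem hs t)),
        conjA_eq_self hc (hS.leQ (pow_mem hs t))],
      ← Finset.sum_mul, ← Finset.sum_mul, ← Finset.mul_sum]
    exact hc1

/-! ### The two cases -/

/-- Values at `e` times an idempotent fixed by `E` form a character. -/
theorem isCharacter_lval (χ : Cfsg.IrrCharacter G) {f : MonoidAlgebra (localRing M) G}
    (hf : f * f = f) (hfc : ∀ e ∈ E, Commute (single e 1) f) :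
    Cfsg.IsCharacter E (fun e => lval χ (e : G) f) := by
  obtain ⟨n, ρ, -, hρ⟩ := χ.2
  set F := MonoidAlgebra.mapRingHom G (localRing M).subtype f with hF
  set A : Module.End ℂ (Fin n → ℂ) := ρ.asAlgebraHom F with hA
  have hAA : A * A = A := by
    rw [hA, ← map_mul ρ.asAlgebraHom, hF,
      ← map_mul (MonoidAlgebra.mapRingHom G (localRing M).subtype), hf]
  have hcomm : ∀ e : E, ρ (e : G) * A = A * ρ (e : G) := by
    intro e
    have h := (hfc e e.2).map (MonoidAlgebra.mapRingHom G (localRing M).subtype)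
    rw [mapRingHom_single, map_one] at h
    have h2 := h.map ρ.asAlgebraHom
    rw [Representation.asAlgebraHom_single_one] at h2
    exact h2.eq
  let W : Submodule ℂ (Fin n → ℂ) := LinearMap.range A
  have hW : ∀ (e : E), ∀ w ∈ W, ρ (e : G) w ∈ W := by
    rintro e _ ⟨v, rfl⟩
    exact ⟨ρ (e : G) v, (LinearMap.congr_fun (hcomm e) v).symm⟩
  let σ : Representation ℂ E W :=
    { toFun := fun e => (ρ (e : G)).restrict (hW e)
      map_one' := by ext w; simp
      map_mul' := fun a b => by ext w; simp }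
  have hσ : (fun e : E => lval χ (e : G) f) = σ.character := by
    funext e
    have h1 : lval χ (e : G) f = LinearMap.trace ℂ (Fin n → ℂ) (ρ (e : G) * A) := by
      rw [lval, ← hρ, ← Cfsg.Agent.Lib.Blocks.trace_asAlgebraHom, map_mul ρ.asAlgebraHom,
        Representation.asAlgebraHom_single_one]
    have hmem : ∀ v, (ρ (e : G) * A) v ∈ W := fun v => hW e _ ⟨v, rfl⟩
    have h2 : σ e = (ρ (e : G) * A).restrict (p := W) (fun v _ => hmem v) := by
      refine LinearMap.ext fun w => Subtype.ext ?_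
      show ρ (e : G) (w : Fin n → ℂ) = ρ (e : G) (A w)
      obtain ⟨v, hv⟩ := w.2
      rw [← hv, ← Module.End.mul_apply A A, hAA]
    rw [Representation.character, h2,
      show (ρ (e : G) * A).restrict (fun v _ => hmem v) =
        ((ρ (e : G) * A).codRestrict W hmem).comp W.subtype from rfl,
      LinearMap.trace_comp_comm']
    exact h1
  rw [hσ]
  exact Cfsg.Agent.Lib.Induced.Character.isCharacter_character σ

set_option maxHeartbeats 800000 in
open scoped Classical in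
/-- Integer weights on local idempotents of the smaller subgroup whose conjugates give the
decomposition. -/
theorem exists_weights (hS : Split p E Q Y) (hMx : Maxi p Q Q₀) {s : G} (hs : s ∈ Q) {i w : kG}
    (hiF : i ∈ fixAlg E) (hii : i * i = i) (hw : w ∈ fixAlg (hS.sub hMx.le)) (hwi : i * w * i = w)
    (hwtr : trSum p s w = i) :
    ∃ J : Finset kG, Decomp (fixAlg (hS.sub hMx.le)) i J ∧
      ∃ (W : Finset {j : kG // Loc (fixAlg (hS.sub hMx.le)) j})
        (a : {j : kG // Loc (fixAlg (hS.sub hMx.le)) j} → ℤ),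
        ∀ Fv : kG → ℂ, (∀ j l, Loc (fixAlg (hS.sub hMx.le)) j → Loc (fixAlg (hS.sub hMx.le)) l →
          Eqv (fixAlg (hS.sub hMx.le)) j l → Fv j = Fv l) →
        ∑ t ∈ Finset.range p, ∑ q ∈ W, ((a q : ℤ) : ℂ) * Fv (conjA (s ^ t) q.1) =
          ∑ j ∈ J, Fv j := by
  set E₀ := hS.sub hMx.le with hE₀
  have hS₀ : Split p E₀ Q₀ Y := hS.split_sub hMx.le
  have hle : fixAlg (M := M) E ≤ fixAlg E₀ := fun a ha z hz => ha z (hS.sub_le hMx.le hz)
  set σ : kG ≃ₐ[Res M] kG := conjA s with hσ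
  have hσF : ∀ a : kG, σ a ∈ fixAlg E₀ ↔ a ∈ fixAlg E₀ :=
    conjA_mem_iff (conj_sub_iff hS hMx hs)
  have hσi : σ i = i := conjA_eq_self hiF (hS.leQ hs)
  obtain ⟨J, hJ⟩ := exists_decomp (F := fixAlg E₀) (hle hiF) hii
  have hσJ := hJ.map σ hσF
  rw [hσi] at hσJ
  -- classes
  let L := {j : kG // Loc (fixAlg E₀) j}
  letI S₀ : Setoid L := ⟨fun a b => Eqv (fixAlg E₀) a.1 b.1,
    ⟨fun a => Eqv.refl a.2.mem a.2.idem, Eqv.symm,
      fun {a b d} (h : Eqv (fixAlg E₀) a.1 b.1) (h' : Eqv (fixAlg E₀) b.1 d.1) =>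
        Eqv.trans (F := fixAlg E₀) a.2.idem b.2.idem d.2.idem h h'⟩⟩
  let mk : L → Quotient S₀ := Quotient.mk S₀
  let fQ : Quotient S₀ → Quotient S₀ :=
    Quotient.map (fun a : L => (⟨σ a.1, a.2.map σ hσF⟩ : L)) fun a b h => Eqv.map σ hσF h
  have hiter : ∀ (t : ℕ) (a : L), ∃ h : Loc (fixAlg E₀) (conjA (s ^ t) a.1),
      fQ^[t] (mk a) = mk ⟨conjA (s ^ t) a.1, h⟩ := by
    intro t a
    induction t with
    | zero =>
      have e : conjA (s ^ 0) a.1 = a.1 := by rw [pow_zero, conjA_one]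
      exact ⟨by rw [e]; exact a.2, congrArg mk (Subtype.ext e.symm)⟩
    | succ t ih =>
      obtain ⟨h, e⟩ := ih
      have e2 : conjA (s ^ (t + 1)) a.1 = σ (conjA (s ^ t) a.1) := by rw [hσ, ← conjA_mul, ← pow_succ']
      refine ⟨by rw [e2]; exact h.map σ hσF, ?_⟩
      rw [Function.iterate_succ_apply', e]
      exact congrArg mk (Subtype.ext e2.symm)
  have hper : ∀ q, fQ^[p] q = q := by
    intro q
    induction q using Quotient.inductionOn with
    | _ a =>
      obtain ⟨h, e⟩ := hiter p a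
      refine e.trans (congrArg mk (Subtype.ext ?_))
      exact conjA_eq_self a.2.mem (hS₀.leQ (hMx.pow_mem hs))
  let m : Quotient S₀ → ℕ := fun q => (cls (fixAlg E₀) J q.out.1).card
  have hcls : ∀ (K : Finset kG) (_ : ∀ l ∈ K, Loc (fixAlg E₀) l) (a b : L),
      Eqv (fixAlg E₀) a.1 b.1 → cls (fixAlg E₀) K a.1 = cls (fixAlg E₀) K b.1 := by
    intro K hK a b hab'
    ext l
    rw [mem_cls, mem_cls]
    exact and_congr_right fun hl => ⟨fun h => hab'.symm.trans b.2.idem a.2.idem (hK l hl).idem h,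
      fun h => hab'.trans a.2.idem b.2.idem (hK l hl).idem h⟩
  have hout : ∀ a : L, Eqv (fixAlg E₀) (mk a).out.1 a.1 := fun a =>
    Quotient.exact (Quotient.out_eq (mk a))
  have hmk : ∀ a : L, m (mk a) = (cls (fixAlg E₀) J a.1).card := fun a =>
    congrArg Finset.card (hcls J hJ.loc _ _ (hout a))
  have hclsmap : ∀ a : L, cls (fixAlg E₀) (J.map σ.toEquiv.toEmbedding) (σ a.1) =
      (cls (fixAlg E₀) J a.1).map σ.toEquiv.toEmbedding := by
    intro a
    have hσF' : ∀ b, σ.symm b ∈ fixAlg E₀ ↔ b ∈ fixAlg E₀ := fun b => by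
      rw [← hσF (σ.symm b), σ.apply_symm_apply]
    ext l
    rw [mem_cls, Finset.mem_map, Finset.mem_map]
    constructor
    · rintro ⟨⟨l', hl', rfl⟩, h⟩
      refine ⟨l', mem_cls.mpr ⟨hl', ?_⟩, rfl⟩
      have h2 := Eqv.map σ.symm hσF' h
      rwa [σ.symm_apply_apply, show σ.symm (σ.toEquiv.toEmbedding l') = l' from
        σ.symm_apply_apply l'] at h2
    · rintro ⟨l', hl', rfl⟩
      exact ⟨⟨l', (mem_cls.mp hl').1, rfl⟩, Eqv.map σ hσF (mem_cls.mp hl').2⟩
  have hmf : ∀ q, m (fQ q) = m q := by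
    intro q
    induction q using Quotient.inductionOn with
    | _ a =>
      show m (mk ⟨σ a.1, a.2.map σ hσF⟩) = m (mk a)
      rw [hmk, hmk]
      show (cls (fixAlg E₀) J (σ a.1)).card = _
      rw [← Finset.card_map σ.toEquiv.toEmbedding (s := cls (fixAlg E₀) J a.1), ← hclsmap a]
      exact le_antisymm (card_cls_le hJ hσJ (a.2.map σ hσF).idem (a.2.map σ hσF))
        (card_cls_le hσJ hJ (a.2.map σ hσF).idem (a.2.map σ hσF))
  set Ω : Finset (Quotient S₀) := J.attach.image fun j => mk ⟨j.1, hJ.loc j.1 j.2⟩ with hΩ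
  have hΩm : ∀ q, q ∈ Ω ↔ 0 < m q := by
    intro q
    induction q using Quotient.inductionOn with
    | _ a =>
      show mk a ∈ Ω ↔ 0 < m (mk a)
      rw [hmk, Finset.card_pos, hΩ, Finset.mem_image]
      constructor
      · rintro ⟨j, -, hj⟩
        exact ⟨j.1, mem_cls.mpr ⟨j.2, (Quotient.exact hj : Eqv (fixAlg E₀) j.1 a.1).symm⟩⟩
      · rintro ⟨l, hl⟩
        exact ⟨⟨l, (mem_cls.mp hl).1⟩, Finset.mem_attach _ _,
          Quotient.sound (show Eqv (fixAlg E₀) l a.1 from (mem_cls.mp hl).2.symm)⟩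
  have hfix : ∀ q, fQ q = q → p ∣ m q := by
    intro q
    induction q using Quotient.inductionOn with
    | _ a =>
      intro hq
      show p ∣ m (mk a)
      have hj : Eqv (fixAlg E₀) (σ a.1) a.1 := Quotient.exact hq
      rw [hmk, ← CharP.cast_eq_zero_iff (Res M) p]
      let τ : kG → Res M := fun b => ∑ l ∈ cls (fixAlg E₀) J a.1, ev l b
      have hτi : τ i = ((cls (fixAlg E₀) J a.1).card : Res M) := by
        show ∑ l ∈ cls (fixAlg E₀) J a.1, ev l i = _
        rw [Finset.sum_congr rfl fun l hl => ?_, Finset.sum_const, nsmul_one]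
        have hl' := (mem_cls.mp hl).1
        rw [← ev_corner (hJ.loc l hl') (hle hiF),
          show l * i * l = l by rw [(hJ.mul_right hl').2, (hJ.loc l hl').idem]]
        exact ev_self (hJ.loc l hl')
      have hτσ : ∀ b ∈ fixAlg E₀, i * b * i = b → τ (σ b) = τ b := by
        intro b hb hbi
        have h1 : τ b = ∑ l ∈ cls (fixAlg E₀) (J.map σ.toEquiv.toEmbedding) (σ a.1), ev l (σ b) := by
          rw [hclsmap a, Finset.sum_map]
          exact Finset.sum_congr rfl fun l hl => (ev_map (hJ.loc l (mem_cls.mp hl).1) σ hσF hb).symm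
        rw [h1, hcls _ hσJ.loc ⟨σ a.1, a.2.map σ hσF⟩ a hj]
        exact trace_eq hJ hσJ a.2.idem ((hσF b).mpr hb)
          (by rw [← hσi, ← map_mul, ← map_mul, hbi]) hii
      have hpow : ∀ t, conjA (s ^ t) w ∈ fixAlg E₀ ∧
          i * conjA (s ^ t) w * i = conjA (s ^ t) w ∧ τ (conjA (s ^ t) w) = τ w := by
        intro t
        induction t with
        | zero => rw [pow_zero, conjA_one]; exact ⟨hw, hwi, rfl⟩
        | succ t ih =>
          rw [pow_succ', conjA_mul]
          exact ⟨(hσF _).mpr ih.1, by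
            conv_lhs => rw [← hσi]
            rw [← map_mul, ← map_mul, ih.2.1], (hτσ _ ih.1 ih.2.1).trans ih.2.2⟩
      rw [← hτi, ← hwtr]
      show ∑ l ∈ cls (fixAlg E₀) J a.1, ev l (trSum p s w) = 0
      rw [trSum, Finset.sum_congr rfl fun l hl => ev_sum (hJ.loc l (mem_cls.mp hl).1) _ _
        fun t _ => (hpow t).1, Finset.sum_comm]
      show ∑ t ∈ Finset.range p, τ (conjA (s ^ t) w) = 0
      rw [Finset.sum_congr rfl fun t _ => (hpow t).2.2, Finset.sum_const, Finset.card_range,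
        nsmul_eq_mul, CharP.cast_eq_zero, zero_mul]
  obtain ⟨a, ha⟩ := exists_orbit_coeff (p := p) fQ hper Ω
    (fun q hq => (hΩm _).mpr (by rw [hmf]; exact (hΩm q).mp hq)) m (fun q _ => hmf q)
    fun q _ => hfix q
  refine ⟨J, hJ, Ω.image Quotient.out, fun b => a (mk b), fun Fv hFv => ?_⟩
  let F : Quotient S₀ → ℂ := fun q => Fv q.out.1
  have hF : ∀ b : L, F (mk b) = Fv b.1 := fun b => hFv _ _ (mk b).out.2 b.2 (hout b)
  have hΩf : ∀ k, ∀ q ∈ Ω, fQ^[k] q ∈ Ω := by
    intro k q hq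
    induction k with
    | zero => exact hq
    | succ k ih =>
      rw [Function.iterate_succ_apply']
      exact (hΩm _).mpr (by rw [hmf]; exact (hΩm _).mp ih)
  have hsub : ∀ t ∈ Finset.range p,
      ∑ b ∈ Ω.image Quotient.out, ((a (mk b) : ℤ) : ℂ) * Fv (conjA (s ^ t) b.1) =
        ∑ q ∈ Ω, ((a (fQ^[p - t] q) : ℤ) : ℂ) * F q := by
    intro t ht
    have hl := (Finset.mem_range.mp ht).le
    have hinv : ∀ q, fQ^[p - t] (fQ^[t] q) = q := fun q => by
      rw [← Function.iterate_add_apply, Nat.sub_add_cancel hl, hper]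
    have hinv' : ∀ q, fQ^[t] (fQ^[p - t] q) = q := fun q => by
      rw [← Function.iterate_add_apply, Nat.add_sub_cancel' hl, hper]
    rw [Finset.sum_image fun q _ q' _ e => by
      rw [← Quotient.out_eq q, e, Quotient.out_eq]]
    refine Finset.sum_bij' (fun q _ => fQ^[t] q) (fun q _ => fQ^[p - t] q)
      (fun q hq => hΩf t q hq) (fun q hq => hΩf _ q hq) (fun q _ => hinv q) (fun q _ => hinv' q)
      (fun q _ => ?_)
    obtain ⟨h, e2⟩ := hiter t q.out
    rw [show mk q.out = q from Quotient.out_eq q] at e2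
    rw [hinv q, show mk q.out = q from Quotient.out_eq q, e2, hF]
  rw [Finset.sum_congr rfl hsub, Finset.sum_comm]
  have hw' : ∀ q ∈ Ω, ∑ t ∈ Finset.range p, ((a (fQ^[p - t] q) : ℤ) : ℂ) = (m q : ℂ) := by
    intro q hq
    rw [← Finset.sum_range_reflect (fun t => ((a (fQ^[p - t] q) : ℤ) : ℂ)) p]
    have e : ∀ t ∈ Finset.range p, p - (p - 1 - t) = t + 1 := fun t ht => by
      have := Finset.mem_range.mp ht
      omega
    rw [Finset.sum_congr rfl fun t ht => by rw [e t ht, Function.iterate_succ_apply]]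
    have h := ha (fQ q) ((hΩm _).mpr (by rw [hmf]; exact (hΩm q).mp hq))
    rw [hmf] at h
    exact_mod_cast h
  rw [Finset.sum_congr rfl fun q hq => (Finset.sum_mul _ _ _).symm.trans (by rw [hw' q hq])]
  rw [← Finset.sum_attach J,
    ← Finset.sum_fiberwise_of_maps_to (g := fun j : {j // j ∈ J} => mk ⟨j.1, hJ.loc j.1 j.2⟩)
      (t := Ω) (fun j _ => Finset.mem_image_of_mem _ (Finset.mem_attach J j))]
  refine Finset.sum_congr rfl fun q _ => ?_
  rw [Finset.sum_congr rfl fun j hj => (hF ⟨j.1, hJ.loc j.1 j.2⟩).symm.trans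
    (congrArg F (Finset.mem_filter.mp hj).2), Finset.sum_const, nsmul_eq_mul]
  congr 2
  induction q using Quotient.inductionOn with
  | _ b =>
    show m (mk b) = _
    rw [hmk]
    refine Finset.card_bij' (fun l hl => ⟨l, (mem_cls.mp hl).1⟩) (fun j _ => j.1) ?_ ?_ ?_ ?_
    · intro l hl
      rw [Finset.mem_filter]
      exact ⟨Finset.mem_attach _ _,
        Quotient.sound (show Eqv (fixAlg E₀) l b.1 from (mem_cls.mp hl).2.symm)⟩
    · intro j hj
      exact mem_cls.mpr
        ⟨j.2, (Quotient.exact (Finset.mem_filter.mp hj).2 : Eqv (fixAlg E₀) j.1 b.1).symm⟩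
    · intros; rfl
    · intros; rfl

/-- Induction from the smaller subgroup. -/
theorem good_of_induced (hS : Split p E Q Y) (hMx : Maxi p Q Q₀) {s : G} (hs : s ∈ Q)
    (hs₀ : s ∉ Q₀) {F V : G → G → ℂ} {Ψ : hS.sub hMx.le → ℂ}
    (hΨg : Cfsg.IsGeneralizedCharacter (hS.sub hMx.le) Ψ)
    (hΨ : ∀ x ∈ Q₀, ∀ y ∈ Y, ∀ e : hS.sub hMx.le, (e : G) = x * y → Ψ e = V x y)
    (h1 : ∀ x ∈ Q₀, ∀ y ∈ Y, ∑ t ∈ Finset.range p, V ((s ^ t)⁻¹ * x * s ^ t) y = F x y)
    (h2 : ∀ x ∈ Q, x ∉ Q₀ → ∀ y ∈ Y, F x y = 0) : Good Q Y E F := by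
  classical
  letI := Fintype.ofFinite E
  set e₀ := Subgroup.subgroupOfEquivOfLe (hS.sub_le hMx.le)
  have hΨ' : Cfsg.IsGeneralizedCharacter ((hS.sub hMx.le).subgroupOf E) (Ψ ∘ e₀.toMonoidHom) :=
    isGen_comp _ hΨg
  refine ⟨_, Cfsg.Agent.Lib.Induced.Character.isGeneralizedCharacter_indFun _ hΨ',
    fun x hx y hy e he => ?_⟩
  rw [Cfsg.Agent.Lib.Induced.Basic.indFun_apply]
  let gv : G → ℂ := fun u => if h : u⁻¹ * (x * y) * u ∈ (hS.sub hMx.le) then Ψ ⟨_, h⟩ else 0
  have hgv : ∀ u : E,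
      (if h : u⁻¹ * e * u ∈ (hS.sub hMx.le).subgroupOf E then (Ψ ∘ e₀.toMonoidHom) ⟨_, h⟩ else 0) =
        gv (u : G) := by
    intro u
    have e2 : ((u⁻¹ * e * u : E) : G) = (u : G)⁻¹ * (x * y) * u := by
      rw [Subgroup.coe_mul, Subgroup.coe_mul, Subgroup.coe_inv, he]
    by_cases h : (u : G)⁻¹ * (x * y) * u ∈ (hS.sub hMx.le)
    · simp only [gv]
      rw [dif_pos h, dif_pos (show u⁻¹ * e * u ∈ (hS.sub hMx.le).subgroupOf E by
        rw [Subgroup.mem_subgroupOf, e2]; exact h)]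
      exact congrArg Ψ (Subtype.ext e2)
    · simp only [gv]
      rw [dif_neg h, dif_neg (show ¬ u⁻¹ * e * u ∈ (hS.sub hMx.le).subgroupOf E by
        rw [Subgroup.mem_subgroupOf, e2]; exact h)]
  have hinvg : ∀ u ∈ E, ∀ q ∈ hS.sub hMx.le, gv (u * q) = gv u := by
    intro u _ q hq
    have e1 : (u * q)⁻¹ * (x * y) * (u * q) = q⁻¹ * (u⁻¹ * (x * y) * u) * q := by group
    simp only [gv]
    by_cases h : u⁻¹ * (x * y) * u ∈ (hS.sub hMx.le)
    · rw [dif_pos h, dif_pos (by rw [e1]; exact mul_mem (mul_mem (inv_mem hq) h) hq)]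
      refine Eq.trans ?_ (isClassFunction_of_isGen hΨg ⟨_, h⟩ ⟨q, hq⟩⁻¹)
      congr 1
      apply Subtype.ext
      show (u * q)⁻¹ * (x * y) * (u * q) = q⁻¹ * (u⁻¹ * (x * y) * u) * q⁻¹⁻¹
      rw [inv_inv, e1]
    · rw [dif_neg h, dif_neg]
      intro h'
      apply h
      have := mul_mem (mul_mem hq h') (inv_mem hq)
      rwa [show q * ((u * q)⁻¹ * (x * y) * (u * q)) * q⁻¹ = u⁻¹ * (x * y) * u by group] at this
  rw [Finset.sum_congr rfl fun u _ => hgv u, hS.sum_eq hMx hs hs₀ gv hinvg,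
    Nat.card_congr e₀.toEquiv, nsmul_eq_mul, ← mul_assoc,
    inv_mul_cancel₀ (Nat.cast_ne_zero.mpr (Nat.card_pos (α := hS.sub hMx.le)).ne'), one_mul]
  have hconjy : ∀ t, (s ^ t)⁻¹ * (x * y) * s ^ t = (s ^ t)⁻¹ * x * s ^ t * y := fun t => by
    rw [mul_assoc _ (x * y), mul_assoc x, ← hS.comm (s ^ t) (pow_mem hs t) y hy]
    group
  by_cases hx₀ : x ∈ Q₀
  · rw [← h1 x hx₀ y hy]
    refine Finset.sum_congr rfl fun t _ => ?_
    have hx' : (s ^ t)⁻¹ * x * s ^ t ∈ Q₀ := by
      simpa using hMx.norm (s ^ t)⁻¹ (inv_mem (pow_mem hs t)) x hx₀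
    have hmem : (s ^ t)⁻¹ * (x * y) * s ^ t ∈ (hS.sub hMx.le) := ⟨_, hx', y, hy, (hconjy t).symm⟩
    simp only [gv]
    rw [dif_pos hmem]
    exact hΨ _ hx' y hy _ (hconjy t)
  · rw [h2 x hx hx₀ y hy]
    refine Finset.sum_eq_zero fun t _ => ?_
    simp only [gv]
    rw [dif_neg]
    rw [hconjy t, hS.mem_sub_iff hMx.le (mul_mem (mul_mem (inv_mem (pow_mem hs t)) hx)
      (pow_mem hs t)) hy]
    intro h
    apply hx₀
    have := hMx.norm (s ^ t) (pow_mem hs t) _ h
    rwa [show s ^ t * ((s ^ t)⁻¹ * x * s ^ t) * (s ^ t)⁻¹ = x by group] at this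

section Zero

variable {P : Subgroup G} {c : Blk (Res M) (Subgroup.centralizer (P : Set G))}
  (hM : Cfsg.IsPModular p M) (hP : IsPGroup p P) (hab : ∀ x ∈ P, ∀ y ∈ P, x * y = y * x)
  {R : Finset P} {θ : P → ℂ} {χ : Cfsg.IrrCharacter G}

include hM in
/-- The case of a zero truncation, given the smaller subgroups. -/
theorem good_of_br_eq_zero (hS : Split p E Q Y) {i : kG} (hi : Loc (fixAlg E) i) (h0 : br Q i = 0)
    (IH : ∀ E₀ Q₀ : Subgroup G, Split p E₀ Q₀ Y → Nat.card Q₀ < Nat.card Q →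
      ∀ j : kG, Loc (fixAlg E₀) j → Good Q₀ Y E₀ (phi c hP hab R θ χ j)) :
    Good Q Y E (phi c hP hab R θ χ i) := by
  classical
  obtain ⟨Q₀, hMx, s, hs, hs₀, w, hw, hwi, hwtr⟩ := exists_trace hS hi h0
  obtain ⟨J, hJ, W, a, ha⟩ := exists_weights hS hMx hs hi.mem hi.idem hw hwi hwtr
  have hS₀ := hS.split_sub hMx.le
  choose f hf hfe using fun j : {j : kG // Loc (fixAlg (hS.sub hMx.le)) j} =>
    IH _ Q₀ hS₀ hMx.card_lt j.1 j.2
  refine good_of_induced hS hMx hs hs₀ (Ψ := ∑ q ∈ W, ((a q : ℤ) : ℂ) • f q)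
    (V := fun x y => ∑ q ∈ W, ((a q : ℤ) : ℂ) * phi c hP hab R θ χ q.1 x y)
    (isGen_sum W fun q _ => isGen_zsmul (hf q) _) ?_ ?_ ?_
  · intro x hx y hy e he
    rw [Finset.sum_apply]
    exact Finset.sum_congr rfl fun q _ => by rw [Pi.smul_apply, smul_eq_mul, hfe q x hx y hy e he]
  · intro x hx y hy
    have hxord := hS₀.exists_orderOf hx
    have hyr := hS₀.regY y hy
    have hxy : Commute x y := hS₀.comm x hx y hy
    have hc : ∀ d ∈ fixAlg (M := M) (hS.sub hMx.le), ∀ z ∈ ({x, y} : Set G),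
        Commute (single z 1) d := fun d hd => pair_commute hS₀ hd hx hy
    have h := ha (fun j => phi c hP hab R θ χ j x y) fun j l hj hl h => by
      obtain ⟨u, hu, v, hv, h1, h2, h3, h4⟩ := h
      refine phi_eqv hP hab hM hxord hyr hxy hj.idem hl.idem (u := u) (v := v)
        (fun z hz => ⟨hc _ hj.mem z hz, hc _ hl.mem z hz, hc _ hu z hz, hc _ hv z hz⟩) ?_ ?_
      · rw [h1, mul_assoc, ← mul_assoc u v, h3, hj.idem]
      · rw [h2, mul_assoc, ← mul_assoc v u, h4, hl.idem]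
    rw [← hJ.sum, phi_sum hP hab hM hxord hyr hxy J (fun j hj => (hJ.loc j hj).idem) hJ.orth
      (fun j hj => hc _ (hJ.loc j hj).mem), ← h]
    refine Finset.sum_congr rfl fun t _ => Finset.sum_congr rfl fun q _ => congrArg _ ?_
    have hx' : (s ^ t)⁻¹ * x * s ^ t ∈ Q₀ := by
      simpa using hMx.norm (s ^ t)⁻¹ (inv_mem (pow_mem hs t)) x hx
    rw [← phi_conj hP hab hM (hS₀.exists_orderOf hx') hyr (hS₀.comm _ hx' y hy) q.2.idem
      (pair_commute hS₀ q.2.mem hx' hy) (s ^ t)]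
    refine phi_congr hP hab (by group) ?_ rfl
    rw [hS.comm (s ^ t) (pow_mem hs t) y hy, mul_inv_cancel_right]
  · intro x hx hx₀ y _
    exact phi_eq_zero_of_brE hP hab (by
      rw [← hwtr, trSum_eq hS hMx hs hs₀ hx hx₀ hw, brE_trSum_self])

end Zero

section Cases

variable {P : Subgroup G} {c : Blk (Res M) (Subgroup.centralizer (P : Set G))}
  {ψ : Blk (Res M) G} (hM : Cfsg.IsPModular p M) (htop : Top p (⟨P, c⟩ : Idx (Res M) G))
  (hψ : PairOf p ψ (⟨P, c⟩ : Idx (Res M) G)) (hab : ∀ x ∈ P, ∀ y ∈ P, x * y = y * x)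
  {R : Finset P} (hR : Main.Reps (stab (⟨P, c⟩ : Idx (Res M) G)) P R) {lam : P →* ℂ}
  (hlam : ∀ t ∈ stab (⟨P, c⟩ : Idx (Res M) G), ∀ a b : P, t * (a : G) * t⁻¹ = b → lam b = lam a)
  {χ : Cfsg.IrrCharacter G}

include hM htop hψ hab hR hlam in
/-- The case of a nonzero truncation. -/
theorem good_of_br_ne_zero (hS : Split p E Q Y) {i : kG} (hi : Loc (fixAlg E) i)
    (hiψ : i * bidem ψ = i) (hne : br Q i ≠ 0) :
    Good Q Y E (phi c htop.1 hab R lam χ i) := by
  classical
  haveI := Fintype.ofFinite (Blk (Res M) C[Q])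
  have hiQ : IsFixedBy Q i := isFixedBy_mono hS.leQ (isFixedBy_of_mem hi.mem)
  obtain ⟨ω, hω⟩ : ∃ ω : Blk (Res M) C[Q], br Q i * bidem ω ≠ 0 := by
    by_contra h
    push Not at h
    apply hne
    rw [← mul_one (br Q i), ← sum_bidem, Finset.mul_sum]
    exact Finset.sum_eq_zero fun ω _ => h ω
  have hψfix : IsFixedBy C[Q] (bidem ψ) := isFixedBy_of_mem_center _ (bidem_mem ψ)
  have hψfixQ : IsFixedBy Q (bidem ψ) := isFixedBy_of_mem_center _ (bidem_mem ψ)
  set z : ZAlg (Res M) C[Q] := ⟨br Q (bidem ψ), br_mem_center hψfix⟩ with hz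
  have hzi : IsIdempotentElem z :=
    Subtype.ext (br_isIdem hS.pQ (bidem_isIdem ψ) hψfixQ)
  have hpair : PairOf p ψ (⟨Q, ω⟩ : Idx (Res M) G) := by
    refine ⟨hS.pQ, ?_⟩
    rw [val_eq ω hψfix]
    refine (apply_zero_or_one hzi ω).resolve_left fun h0 => hω ?_
    have h1 : z * idem ω = 0 := idem_ext (k := Res M) (hzi.mul (idem_isIdem ω)) .zero fun φ => by
      rw [map_mul, map_zero]
      by_cases hφ : φ = ω
      · rw [hφ, h0, zero_mul]
      · rw [apply_idem_ne hφ, mul_zero]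
    have h2 : br Q (bidem ψ) * bidem ω = 0 := congrArg Subtype.val h1
    rw [← hiψ, br_mul hS.pQ hiQ hψfixQ, mul_assoc, h2, mul_zero]
  obtain ⟨g, hg⟩ := exists_le_conj_top hpair htop hψ
  have hgQ : ∀ q ∈ Q, g * q * g⁻¹ ∈ P := fun q hq => hg.subgroup_le (conj_mem_map g Q hq)
  have hQab : ∀ a ∈ Q, ∀ b ∈ Q, a * b = b * a := by
    intro a ha b hb
    have h : g * (a * b) * g⁻¹ = g * (b * a) * g⁻¹ := by
      calc g * (a * b) * g⁻¹ = g * a * g⁻¹ * (g * b * g⁻¹) := by group
        _ = g * b * g⁻¹ * (g * a * g⁻¹) := hab _ (hgQ a ha) _ (hgQ b hb)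
        _ = g * (b * a) * g⁻¹ := by group
    exact mul_left_cancel (mul_right_cancel h)
  -- the parts
  choose xp hxp yp hyp hxyp using fun e : E => hS.decomp e e.2
  have hparts : ∀ (e : E) (x y : G), x ∈ Q → y ∈ Y → (e : G) = x * y → xp e = x ∧ yp e = y :=
    fun e x y hx hy he => hS.unique (hxp e) (hyp e) hx hy ((hxyp e).trans he)
  let cg : P → ℂ := fun a => lam a
  let μ : E →* ℂ :=
    { toFun := fun e => lam ⟨g * xp e * g⁻¹, hgQ _ (hxp e)⟩
      map_one' := by
        have h := (hparts 1 1 1 (one_mem _) (one_mem _) (by simp)).1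
        rw [show (⟨g * xp 1 * g⁻¹, hgQ _ (hxp 1)⟩ : P) = 1 from Subtype.ext (by simp [h]), map_one]
      map_mul' := fun a b => by
        have h := (hparts (a * b) (xp a * xp b) (yp a * yp b) (mul_mem (hxp a) (hxp b))
          (mul_mem (hyp a) (hyp b)) (by
            rw [Subgroup.coe_mul, ← hS.mul_parts (hyp a) (hxp b), hxyp, hxyp])).1
        rw [← map_mul]
        congr 1
        apply Subtype.ext
        show g * xp (a * b) * g⁻¹ = g * xp a * g⁻¹ * (g * xp b * g⁻¹)
        rw [h]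
        group }
  obtain ⟨f, hf, hfr, hfc⟩ := exists_lift (M := M) hi.idem (E : Set G) hi.mem
  have hμ : Cfsg.IsCharacter E (fun e => μ e) := by
    have h := Cfsg.Agent.Lib.Induced.Character.isCharacter_hom μ.toHomUnits
    simpa [MonoidHom.coe_toHomUnits] using h
  refine ⟨fun e => μ e * lval χ (e : G) f,
    of_isCharacter (Cfsg.Agent.Lib.Characters.Basic.isCharacter_mul hμ (isCharacter_lval χ hf hfc)),
    fun x hx y hy e he => ?_⟩
  have hxQ : Subgroup.zpowers x ≤ Q := Subgroup.zpowers_le.mpr hx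
  have hxord := hS.exists_orderOf hx
  have hxy : Commute x y := hS.comm x hx y hy
  -- everything in `E` centralizes `x`
  have hEx : ∀ u ∈ E, u ∈ cz x := by
    intro u hu
    obtain ⟨a, ha, b, hb, rfl⟩ := hS.decomp u hu
    exact mul_mem (mem_cz (hQab x hx a ha)) (mem_cz (hS.comm x hx b hb))
  have hix : Commute (single x 1) i := hi.mem x (hS.leQ hx)
  have hbri : brE x i * brE x i = brE x i := by rw [← brE_mul hxord hix hix, hi.idem]
  -- each block carries all or nothing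
  have hloc : ∀ ω' : Blk (Res M) (cz x),
      brE x i * bidem ω' = 0 ∨ brE x i * bidem ω' = brE x i := by
    intro ω'
    have hbm : bext (cz x) ω' ∈ fixAlg E := fun u hu =>
      (commute_single_iff _ u).mpr ((isFixedBy_bext (cz x) ω') u (hEx u hu))
    have ha := corner_mem hi hbm
    have hbe : brE x (bext (cz x) ω') = bidem ω' := brE_ext x _
    have hc : Commute (brE x i) (bidem ω') := Subalgebra.mem_center_iff.mp (bidem_mem ω') _
    have hval : brE x (i * bext (cz x) ω' * i) = brE x i * bidem ω' := by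
      rw [brE_mul hxord (hix.mul_right (hbm x (hS.leQ hx))) hix,
        brE_mul hxord hix (hbm x (hS.leQ hx)), hbe, mul_assoc, ← hc.eq, ← mul_assoc, hbri]
    have h := map_eq_zero_or_self hi (fun a => brE x a)
      (fun a ha b hb => brE_mul hxord (ha x (hS.leQ hx)) (hb x (hS.leQ hx))) (br_zero _) ha
      (corner_idem hi _) (by
        show brE x _ * brE x _ = brE x _
        rw [hval]
        exact IsIdempotentElem.mul_of_commute hc hbri (bidem_isIdem ω'))
    rwa [hval] at h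
  -- the block below `(Q, ω)` carries it
  obtain ⟨ω₀, hω₀⟩ := exists_le_of_le hS.pQ ω (Subgroup.zpowers x) hxQ
  have hQcz : Q ≤ cz x := fun q hq => mem_cz (hQab x hx q hq)
  have hv : val Q ω (bext (cz x) ω₀) = 1 := by
    refine (val_iff_of_le hω₀ (bext_isIdem _ ω₀) (isFixedBy_bext_of_le hQcz ω₀)
      (isFixedBy_bext _ ω₀)).mp ?_
    show val (Subgroup.zpowers x) ω₀ (bext (cz x) ω₀) = 1
    rw [val_eq _ (isFixedBy_bext _ ω₀)]
    refine Eq.trans (congrArg ω₀ (Subtype.ext ?_)) (apply_idem_self ω₀)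
    exact brE_ext x _
  have hne₀ : brE x i * bidem ω₀ ≠ 0 := by
    intro h0
    apply hω
    have hfixQ : IsFixedBy Q (bext (cz x) ω₀) := isFixedBy_bext_of_le hQcz ω₀
    have hfixC : IsFixedBy C[Q] (bext (cz x) ω₀) := isFixedBy_centralizer_bext hxQ ω₀
    rw [val_eq _ hfixC] at hv
    have hy' : IsIdempotentElem (⟨br Q (bext (cz x) ω₀), br_mem_center hfixC⟩ : ZAlg (Res M) C[Q]) :=
      Subtype.ext (br_isIdem hS.pQ (bext_isIdem _ ω₀) hfixQ)
    have h1 : br Q (bext (cz x) ω₀) * bidem ω = bidem ω :=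
      congrArg Subtype.val (mul_idem_eq ω hy' hv)
    have h2 : br Q (i * bext (cz x) ω₀) = 0 := by
      rw [← br_ext_br hxQ]
      show br Q (ext _ (brE x (i * bext (cz x) ω₀))) = 0
      rw [brE_mul hxord hix ((commute_single_iff _ x).mpr ((isFixedBy_bext (cz x) ω₀) x
        (mem_cz_self x))), show brE x (bext (cz x) ω₀) = bidem ω₀ from brE_ext x _, h0, map_zero,
        br_zero]
    rw [← h1, ← mul_assoc, ← br_mul hS.pQ hiQ hfixQ, h2, zero_mul]
  have hω₀e : brE x i * bidem ω₀ = brE x i := (hloc ω₀).resolve_left hne₀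
  have hωne : ∀ ω', ω' ≠ ω₀ → brE x i * bidem ω' = 0 := by
    intro ω' hne'
    refine (hloc ω').resolve_right fun h => hne₀ ?_
    rw [← h, mul_assoc,
      show bidem ω' * bidem ω₀ = 0 from congrArg Subtype.val (idem_mul_idem hne'), mul_zero]
  have hpairc : ∀ u ∈ ({x, y} : Set G), Commute (single u 1) i := pair_commute hS hi.mem hx hy
  have hP' : g * x * g⁻¹ ∈ P := hgQ x hx
  rw [phi_eq_single htop.1 hab (θ := fun a => lam a) htop hR hlam hω₀e hωne
    ((le_cPair g hω₀).trans hg) hP']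
  have hiff := hparts e x y hx hy he
  rw [tval_eq hM χ hxord (hS.regY y hy) hxy (e := tr x i) (f := f)
    (by rw [tr, ← map_mul, hbri]) ?_ hf ?_ (by rw [hfr, tr, brE_ext]), ← he]
  · show μ e * lval χ (e : G) f = _
    refine congrArg (· * lval χ (e : G) f) ?_
    show lam _ = lam _
    congr 1
    exact Subtype.ext (by simp [hiff.1])
  · intro u hu
    have := pair_commute hS hi.mem hx hy u hu
    have hu' : u ∈ cz x := by
      rcases hu with rfl | rfl
      · exact mem_cz_self u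
      · exact mem_cz hxy
    have h2 := (brE_commute hu' this).map (ext (k := Res M) (cz x))
    rwa [ext_single] at h2
  · intro u hu
    refine hfc u ?_
    rcases hu with rfl | rfl
    · exact hS.leQ hx
    · exact hS.leY hy


include hM htop hψ hab hR hlam in
theorem good (Y : Subgroup G) : ∀ (n : ℕ) (E Q : Subgroup G), Split p E Q Y → Nat.card Q ≤ n →
    ∀ i : kG, Loc (fixAlg E) i → Good Q Y E (phi c htop.1 hab R lam χ i) := by
  intro n
  induction n with
  | zero =>
    intro E Q _ hn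
    have := Nat.card_pos (α := Q)
    omega
  | succ n ih =>
    intro E Q hS hn i hi
    have hψm : bidem ψ ∈ fixAlg (M := M) E := mem_fixAlg_of_center (bidem_mem ψ)
    have hc : i * bidem ψ = bidem ψ * i := Subalgebra.mem_center_iff.mp (bidem_mem ψ) i
    rcases eq_zero_or_self hi (mul_mem hi.mem hψm)
      (by rw [← mul_assoc, hi.idem, mul_assoc, ← hc, ← mul_assoc, hi.idem])
      (IsIdempotentElem.mul_of_commute hc hi.idem (bidem_isIdem ψ)) with h | h
    · exact good_of_zero fun x hx y _ => phi_eq_zero_of_block htop.1 hab (hS.exists_orderOf hx) hψ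
        (hi.mem x (hS.leQ hx)) h
    · by_cases h0 : br Q i = 0
      · exact good_of_br_eq_zero hM htop.1 hab hS hi h0
          fun E₀ Q₀ hS₀ hlt j hj => ih E₀ Q₀ hS₀ (by omega) j hj
      · exact good_of_br_ne_zero hM htop hψ hab hR hlam hS hi h h0

include hM htop hψ hab hR hlam in
/-- **The twisted character is a generalized character.** -/
theorem isGen_starFun : Cfsg.IsGeneralizedCharacter G
    (Sections.starFun p c htop.1 hab R lam χ) := by
  classical
  apply Cfsg.Agent.Lib.Brauer.Characterization.isGeneralized_of_mem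
  refine Cfsg.Agent.Lib.Brauer.Characterization.mem_of_elementary ℤ
    (Sections.isClassFunction_starFun c htop.1 hab R lam χ) fun E _ q hq hel => ?_
  have hsub : Cfsg.Agent.Lib.Brauer.Elementary.monoSet
      (Cfsg.Agent.Lib.Brauer.Elementary.IsElem (G := E)) ⊆
      Cfsg.Agent.Lib.Brauer.Elementary.monoSet (fun _ : Subgroup E => True) :=
    fun f ⟨H, _, l, hl⟩ => ⟨H, trivial, l, hl⟩
  refine Submodule.span_mono hsub (Cfsg.Agent.Lib.Brauer.Monomial.genChar_mem ?_)
  obtain ⟨Q, Y, hS⟩ := exists_split (p := p)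
    (Cfsg.Agent.Lib.Brauer.Monomial.isNilpotent_of_elementary hq hel)
  obtain ⟨J, hJ⟩ := exists_decomp (F := fixAlg (M := M) E) (one_mem _) (one_mul 1)
  choose f hf hfe using fun j : {j // j ∈ J} =>
    good hM htop hψ hab hR hlam (χ := χ) Y _ E Q hS le_rfl j.1 (hJ.loc j.1 j.2)
  have hgen := isGen_sum J.attach (f := f) fun j _ => hf j
  convert hgen using 1
  funext e
  obtain ⟨x, hx, y, hy, hxy⟩ := hS.decomp e e.2
  rw [Finset.sum_apply, ← hxy, starFun_eq htop.1 hab hM (hS.exists_orderOf hx) (hS.regY y hy)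
    (hS.comm x hx y hy), ← hJ.sum,
    phi_sum htop.1 hab hM (hS.exists_orderOf hx) (hS.regY y hy) (hS.comm x hx y hy) J
      (fun j hj => (hJ.loc j hj).idem) hJ.orth
      (fun j hj => pair_commute hS (hJ.loc j hj).mem hx hy), ← Finset.sum_attach J]
  exact Finset.sum_congr rfl fun j _ => (hfe j x hx y hy e hxy.symm).symm

end Cases

/-- The hypothesis on twists holds. -/
theorem starHyp (hM : Cfsg.IsPModular p M) : Main.StarHyp.{u} p M := by
  intro G _ _ P c ψ htop hψ hab R hR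
  refine Sections.star_of_integral hM htop hψ hab hR fun χ _ lam hlam => ?_
  exact exists_classInner_int (isGen_starFun hM htop hψ hab hR hlam) (of_irr χ)

end Cfsg.Agent.Lib.Watanabe.Integral
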