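import Cfsg.Agent.Lib.Watanabe.Main

/-!
# The counts for a block of the centralizer of a fixed element, in the language of characters
-/

set_option autoImplicit false
set_option linter.style.haveILetI false

namespace Cfsg.Agent.Lib.Watanabe.Reduce

open Cfsg.Agent.Lib.BrauerPairs Cfsg.Agent.Lib.BrauerPairs.Center
open Cfsg.Agent.Lib.BrauerPairs.Pairs Cfsg.Agent.Lib.BrauerPairs.Transport
open Cfsg.Agent.Lib.BrauerPairs.Maximal Cfsg.Agent.Lib.BrauerPairs.Bridge
open Cfsg.Agent.Lib.BrauerPairs.Local Cfsg.Agent.Lib.BrauerPairs.SubsectionCount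
open Cfsg.Agent.Lib.Watanabe.BlkIn

universe u

attribute [local instance] Ideal.Quotient.field

theorem counts_eq {G : Type u} [Group G] [Finite G] {p : ℕ} [Fact p.Prime]
    {M : Ideal Cfsg.AlgInt} [M.IsMaximal] [CharP (Res M) p] (hM : Cfsg.IsPModular p M)
    (hstar : Main.StarHyp.{u} p M) {B : Set (Cfsg.IrrCharacter G)} (hB : Cfsg.IsPBlock M B)
    {P : Subgroup G} (hPD : Cfsg.IsDefectGroup p M B P)
    (hPab : ∀ x ∈ P, ∀ y ∈ P, x * y = y * x)
    {c : Set (Cfsg.IrrCharacter (Subgroup.centralizer (P : Set G)))}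
    (hc : Cfsg.IsInducedBlock M (Subgroup.centralizer (P : Set G)) c B) {T : Subgroup G}
    (hT : ∀ g : G, g ∈ T ↔ (g ∈ Subgroup.normalizer (P : Set G) ∧
      Cfsg.StabilizesBlock (Subgroup.centralizer (P : Set G)) c g))
    {u : G} (hu : u ∈ P) (huT : ∀ g ∈ T, g * u * g⁻¹ = u) {H : Subgroup G}
    (hH : H = Subgroup.centralizer ({u} : Set G)) {f : Set (Cfsg.IrrCharacter H)}
    (hf : Cfsg.IsInducedBlockIn M H (Subgroup.centralizer (P : Set G)) c f) :
    Cfsg.blockRank p B = Cfsg.blockRank p f ∧ Nat.card B = Nat.card f := by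
  haveI := Fintype.ofFinite G
  obtain rfl : H = Subgroup.centralizer ((Subgroup.zpowers u : Subgroup G) : Set G) := by
    rw [hH, Cfsg.Agent.Lib.BrauerMap.PrincipalSection.centralizer_zpowers_eq]
  have hP : IsPGroup p P := ((isDefectGroup_iff hB P).mp hPD).isPGroup
  have hpair := (InducedPair.isInducedBlock_iff hP hc.1 hB).mp hc
  have htop : Top p (⟨P, blk hc.1⟩ : Idx (Res M) G) :=
    top_of_isDef hpair ((isDefectGroup_iff hB P).mp hPD)
  have hTeq : ∀ g : G, g ∈ T ↔ g ∈ stab (⟨P, blk hc.1⟩ : Idx (Res M) G) := by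
    intro g
    rw [hT, mem_stab_iff]
    refine and_congr_right fun hg => ?_
    rw [stabilizesBlock_iff hc.1 hg, act_eq_iff]
  have hPL := le_centralizer_zpowers hPab hu
  have hCL : Subgroup.centralizer (P : Set G) ≤
      Subgroup.centralizer ((Subgroup.zpowers u : Subgroup G) : Set G) :=
    Trunc.centralizer_anti (Subgroup.zpowers_le.mpr hu)
  have hfb : blk hf.2.1 = localBlk (blk hc.1) htop.1 hPab hu := by
    rw [localBlk_eq]
    exact eq_blkIn hP hPL hCL ((InducedPair.isInducedBlockIn_iff hP hPL hCL hc.1 hf.2.1).mp hf)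
  have h := Main.main hM hstar htop hpair hPab ⟨u, hu⟩
    (fun t ht => huT t ((hTeq t).mpr ht))
  rw [← hfb, toSet_blk, toSet_blk] at h
  exact ⟨h.1.symm, h.2.symm⟩

end Cfsg.Agent.Lib.Watanabe.Reduce
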