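import Cfsg.Agent.Lib.Blocks.SecondMain
import Cfsg.Agent.Lib.BrauerPairs.Trunc
import Cfsg.Agent.Lib.BrauerPairs.Bridge
import Cfsg.Agent.Lib.BrauerMap.PrincipalSection

/-!
# Lifting idempotents and the value of a character at a reduced idempotent

The local ring contains the roots of its monic polynomials, so idempotents of `k[G]` fixed by a set
of elements lift to idempotents of the group algebra over the local ring fixed by it.  For `x` of
`p`-power order and `y` `p`-regular commuting, `tval` is the value at `xy` times such a lift; it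
only depends on the truncation at `x`.
-/

set_option autoImplicit false
set_option linter.style.haveILetI false
set_option linter.unusedSectionVars false

namespace Cfsg.Agent.Lib.Watanabe.Lift

open MonoidAlgebra Cfsg.Agent.Lib.BrauerMap.Basic
open Cfsg.Agent.Lib.Blocks (localRing residue residue_surjective lin lin_single lin_apply)
open Cfsg.Agent.Lib.BrauerPairs.Trunc Cfsg.Agent.Lib.BrauerPairs.Bridge

universe u

attribute [local instance] Ideal.Quotient.field

variable {M : Ideal Cfsg.AlgInt} [M.IsMaximal]

/-! ### The polynomial -/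

open Polynomial in
/-- For a monic polynomial over the local ring, a polynomial with values `0`, `1` at `0`, `1` whose
square agrees with it modulo the given one. -/
theorem exists_idem_poly {P : Polynomial (localRing M)} (hP : P.Monic) :
    ∃ Q : Polynomial (localRing M), Q.eval 0 = 0 ∧ Q.eval 1 = 1 ∧ P ∣ Q * Q - Q := by
  classical
  set P' : Polynomial (localRing M) := P * (X * (X - C 1)) with hP'
  have hmon : P'.Monic := hP.mul (monic_X.mul (monic_X_sub_C 1))
  set q : Polynomial ℂ := P'.map (localRing M).subtype with hq
  have hqmon : q.Monic := hmon.map _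
  have hroot : ∀ z ∈ q.roots, z ∈ localRing M := fun z hz =>
    Cfsg.Agent.Lib.Blocks.mem_localRing_of_monic_root hqmon
      (fun i => by rw [hq, Polynomial.coeff_map]; exact (P'.coeff i).2) (mem_roots'.mp hz).2
  set rs : Multiset (localRing M) := q.roots.attach.map fun z => ⟨z.1, hroot z.1 z.2⟩ with hrs
  have hval : rs.map (localRing M).subtype = q.roots := by
    rw [hrs, Multiset.map_map]
    exact Multiset.attach_map_val _
  have hfac : P' = (rs.map fun r => X - C r).prod := by
    apply map_injective _ (localRing M).subtype_injective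
    rw [Polynomial.map_multiset_prod, Multiset.map_map, ← hq]
    conv_lhs => rw [(IsAlgClosed.splits q).eq_prod_roots_of_monic hqmon, ← hval, Multiset.map_map]
    refine congrArg Multiset.prod (Multiset.map_congr rfl fun r _ => ?_)
    simp
  have hmem : ∀ r : localRing M, P'.eval r = 0 → r ∈ rs := by
    intro r hr
    have h1 : (r : ℂ) ∈ q.roots := by
      rw [mem_roots hqmon.ne_zero, IsRoot.def, hq, show (r : ℂ) = (localRing M).subtype r from rfl,
        eval_map, eval₂_at_apply, hr, map_zero]
    rw [← hval, Multiset.mem_map] at h1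
    obtain ⟨r', hr', e⟩ := h1
    rwa [← Subtype.ext e]
  set rs₀ := rs.filter fun r => residue M r = 0 with hrs₀
  set rs₁ := rs.filter fun r => ¬ residue M r = 0 with hrs₁
  set P₀ := (rs₀.map fun r => X - C r).prod with hP₀
  set P₁ := (rs₁.map fun r => X - C r).prod with hP₁
  have hsplit : P' = P₀ * P₁ := by
    rw [hfac, hP₀, hP₁, ← Multiset.prod_add, ← Multiset.map_add, Multiset.filter_add_not]
  have hcop : IsCoprime P₀ P₁ := by
    have haux : ∀ (s : Multiset (localRing M)) (g : Polynomial (localRing M)),
        (∀ r ∈ s, IsCoprime (X - C r) g) → IsCoprime (s.map fun r => X - C r).prod g := by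
      intro s g
      induction s using Multiset.induction_on with
      | empty => intro _; simpa using isCoprime_one_left
      | cons a s ih =>
        intro h
        rw [Multiset.map_cons, Multiset.prod_cons]
        exact (h a (Multiset.mem_cons_self a s)).mul_left
          (ih fun r hr => h r (Multiset.mem_cons_of_mem hr))
    refine haux rs₀ P₁ fun r hr => (haux rs₁ (X - C r) fun r' hr' => ?_).symm
    refine isCoprime_X_sub_C_of_isUnit_sub ?_
    rw [Cfsg.Agent.Lib.Blocks.isUnit_localRing_iff, map_sub, (Multiset.mem_filter.mp hr).2, sub_zero]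
    exact (Multiset.mem_filter.mp hr').2
  obtain ⟨a, b, hab⟩ := hcop
  refine ⟨a * P₀, ?_, ?_, ?_⟩
  · have h0 : (0 : localRing M) ∈ rs₀ :=
      Multiset.mem_filter.mpr ⟨hmem 0 (by simp [hP']), map_zero _⟩
    rw [eval_mul, hP₀, ← Multiset.cons_erase h0, Multiset.map_cons, Multiset.prod_cons, eval_mul]
    simp
  · have h1 : (1 : localRing M) ∈ rs₁ := Multiset.mem_filter.mpr
      ⟨hmem 1 (by simp [hP']), by rw [map_one]; exact one_ne_zero⟩
    have h := congrArg (eval 1) hab
    rw [eval_add, eval_one, eval_mul, eval_mul (p := b), hP₁, ← Multiset.cons_erase h1,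
      Multiset.map_cons, Multiset.prod_cons, eval_mul] at h
    simpa using h
  · have e : a * P₀ * (a * P₀) - a * P₀ = -(a * b) * (P₀ * P₁) := by
      linear_combination (a * P₀) * hab
    rw [e, ← hsplit, hP']
    exact (dvd_mul_right P _).mul_left _

/-! ### The group algebra over the local ring -/

variable {G : Type u} [Group G]

local notation "RG" => MonoidAlgebra (localRing M) G
local notation "kG" => MonoidAlgebra (Res M) G

/-- Reduction of the coefficients. -/
noncomputable def red : RG →+* kG := MonoidAlgebra.mapRingHom G (residue M)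

theorem coeff_red (a : RG) (g : G) : (red a).coeff g = residue M (a.coeff g) := by
  simp [red]

theorem red_single (g : G) (r : localRing M) : red (single g r) = single g (residue M r) := by
  simp [red]

theorem algebraMap_eq (r : localRing M) : algebraMap (localRing M) RG r = single 1 r := by
  simp [MonoidAlgebra.coe_algebraMap]

/-- Lift coefficientwise by a section of the residue map. -/
noncomputable def liftC [Finite G] (e : kG) : RG :=
  letI := Fintype.ofFinite G
  ∑ g : G, single g (Function.surjInv (residue_surjective (M := M)) (e.coeff g))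

theorem coeff_liftC [Finite G] (e : kG) (g : G) :
    (liftC e).coeff g = Function.surjInv (residue_surjective (M := M)) (e.coeff g) := by
  classical
  letI := Fintype.ofFinite G
  rw [liftC, coeff_sum, Finsupp.finsetSum_apply, Finset.sum_eq_single g]
  · simp
  · intro h _ hh
    rw [coeff_single, Finsupp.single_eq_of_ne (Ne.symm hh)]
  · exact fun h => absurd (Finset.mem_univ g) h

theorem red_liftC [Finite G] (e : kG) : red (liftC e) = e := by
  ext g
  rw [coeff_red, coeff_liftC]
  exact Function.surjInv_eq _ _

theorem commute_single_iff {k : Type*} [CommRing k] (a : MonoidAlgebra k G) (z : G) :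
    Commute (single z 1) a ↔ ∀ g, a.coeff (z * g * z⁻¹) = a.coeff g := by
  constructor
  · intro h g
    have h1 := congrArg (fun w : MonoidAlgebra k G => w.coeff (z * g)) h.eq
    simp only [coeff_single_mul_apply, coeff_mul_single_apply, one_mul, mul_one,
      inv_mul_cancel_left] at h1
    exact h1.symm
  · intro h
    show _ = _
    ext g
    simp only [coeff_single_mul_apply, coeff_mul_single_apply, one_mul, mul_one]
    rw [← h (z⁻¹ * g)]
    simp [mul_assoc]

theorem commute_red {z : G} {a : RG} (h : Commute (single z 1) a) :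
    Commute (single z 1) (red a) := by
  have := h.map red
  rwa [red_single, map_one] at this

theorem commute_liftC [Finite G] {z : G} {e : kG} (h : Commute (single z 1) e) :
    Commute (single z 1) (liftC e) := by
  rw [commute_single_iff] at h ⊢
  intro g
  rw [coeff_liftC, coeff_liftC, h]

variable [Finite G]

/-- An element of the group algebra gives an idempotent polynomial in it. -/
theorem exists_idem_aeval (a : RG) :
    ∃ Q : Polynomial (localRing M), Q.eval 0 = 0 ∧ Q.eval 1 = 1 ∧
      Polynomial.aeval a Q * Polynomial.aeval a Q = Polynomial.aeval a Q := by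
  haveI : Module.Finite (localRing M) RG :=
    Module.Finite.equiv (MonoidAlgebra.coeffLinearEquiv (localRing M)).symm
  haveI := Algebra.IsIntegral.of_finite (localRing M) RG
  obtain ⟨P, hP, hPa⟩ := Algebra.IsIntegral.isIntegral (R := localRing M) a
  rw [← Polynomial.aeval_def] at hPa
  obtain ⟨Q, h0, h1, hdvd⟩ := exists_idem_poly hP
  refine ⟨Q, h0, h1, ?_⟩
  obtain ⟨w, hw⟩ := hdvd
  have h := congrArg (Polynomial.aeval a) hw
  rw [map_sub, map_mul, map_mul, hPa, zero_mul, sub_eq_zero] at h
  exact h

/-- Polynomials in a fixed element are fixed. -/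
theorem commute_aeval {z : G} {a : RG} (h : Commute (single z 1) a)
    (Q : Polynomial (localRing M)) : Commute (single z 1) (Polynomial.aeval a Q) := by
  induction Q using Polynomial.induction_on' with
  | add p q hp hq => rw [map_add]; exact hp.add_right hq
  | monomial n r =>
    rw [Polynomial.aeval_monomial]
    exact (Algebra.commute_algebraMap_right r (single z (1 : localRing M))).mul_right (h.pow_right n)

theorem red_aeval_of_idem {a : RG} (ha : red a * red a = red a)
    {Q : Polynomial (localRing M)} (h0 : Q.eval 0 = 0) (h1 : Q.eval 1 = 1) :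
    red (Polynomial.aeval a Q) = red a := by
  have key : ∀ Q : Polynomial (localRing M),
      red (Polynomial.aeval a Q) = single 1 (residue M (Q.eval 0)) +
        single 1 (residue M (Q.eval 1) - residue M (Q.eval 0)) * red a := by
    intro Q
    induction Q using Polynomial.induction_on' with
    | add p q hp hq =>
      rw [map_add, map_add, hp, hq, Polynomial.eval_add, Polynomial.eval_add, map_add, map_add,
        add_sub_add_comm, single_add, single_add, add_mul]
      abel
    | monomial n r =>
      rw [Polynomial.aeval_monomial, algebraMap_eq, map_mul, red_single, map_pow,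
        Polynomial.eval_monomial, Polynomial.eval_monomial]
      rcases n with _ | n
      · rw [pow_zero, pow_zero, pow_zero, mul_one, mul_one, sub_self, single_zero, zero_mul,
          add_zero]
      · rw [IsIdempotentElem.pow_succ_eq n ha, zero_pow (Nat.succ_ne_zero n), mul_zero, map_zero,
          one_pow, mul_one, sub_zero, single_zero, zero_add]
  rw [key, h0, h1, map_zero, map_one, sub_zero, single_zero, zero_add, ← one_def, one_mul]

/-- **Lifting idempotents** fixed by a set of elements. -/
theorem exists_lift {e : kG} (he : e * e = e) (S : Set G)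
    (hS : ∀ z ∈ S, Commute (single z 1) e) :
    ∃ f : RG, f * f = f ∧ red f = e ∧ ∀ z ∈ S, Commute (single z 1) f := by
  obtain ⟨Q, h0, h1, hidem⟩ := exists_idem_aeval (liftC (M := M) e)
  refine ⟨_, hidem, ?_, fun z hz => commute_aeval (commute_liftC (hS z hz)) Q⟩
  rw [red_aeval_of_idem (by rw [red_liftC]; exact he) h0 h1, red_liftC]

/-! ### Values of a character -/

/-- The value of `χ` at `h` times an element. -/
noncomputable def lval (χ : Cfsg.IrrCharacter G) (h : G) (f : RG) : ℂ :=
  lin (χ : G → ℂ) (single h 1 * MonoidAlgebra.mapRingHom G (localRing M).subtype f)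

theorem lval_add (χ : Cfsg.IrrCharacter G) (h : G) (f f' : RG) :
    lval χ h (f + f') = lval χ h f + lval χ h f' := by
  rw [lval, map_add, mul_add, map_add]; rfl

theorem lval_sub (χ : Cfsg.IrrCharacter G) (h : G) (f f' : RG) :
    lval χ h (f - f') = lval χ h f - lval χ h f' := by
  rw [lval, map_sub, mul_sub, map_sub]; rfl

theorem lin_mul_comm (χ : Cfsg.IrrCharacter G) (a b : MonoidAlgebra ℂ G) :
    lin (χ : G → ℂ) (a * b) = lin (χ : G → ℂ) (b * a) := by
  obtain ⟨n, ρ, -, hρ⟩ := χ.2
  rw [← hρ, ← Cfsg.Agent.Lib.Blocks.trace_asAlgebraHom, ← Cfsg.Agent.Lib.Blocks.trace_asAlgebraHom,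
    map_mul ρ.asAlgebraHom, map_mul ρ.asAlgebraHom, LinearMap.trace_mul_comm]

/-- Cyclicity for elements commuting with `h`. -/
theorem lval_mul_comm (χ : Cfsg.IrrCharacter G) {h : G} {a b : RG}
    (ha : Commute (single h 1) a) : lval χ h (a * b) = lval χ h (b * a) := by
  have ha' : Commute (single h (1 : ℂ)) (MonoidAlgebra.mapRingHom G (localRing M).subtype a) := by
    have := ha.map (MonoidAlgebra.mapRingHom G (localRing M).subtype)
    rwa [mapRingHom_single, map_one] at this
  rw [lval, lval, map_mul (MonoidAlgebra.mapRingHom G (localRing M).subtype),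
    map_mul (MonoidAlgebra.mapRingHom G (localRing M).subtype), ← mul_assoc, ha'.eq, mul_assoc,
    lin_mul_comm, mul_assoc]

variable {p : ℕ} [Fact p.Prime] [CharP (Res M) p]

/-- The truncation at an element. -/
noncomputable def brE (x : G) (a : kG) :
    MonoidAlgebra (Res M) (Subgroup.centralizer (Subgroup.zpowers x : Set G)) :=
  br (Subgroup.zpowers x) a

theorem isFixedBy_zpowers {x : G} {a : kG} (h : Commute (single x 1) a) :
    IsFixedBy (Subgroup.zpowers x) a := by
  intro u hu
  obtain ⟨n, rfl⟩ := Subgroup.mem_zpowers_iff.mp hu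
  rw [← commute_single_iff]
  let S : Subgroup G :=
    { carrier := {z | Commute (single z (1 : Res M)) a}
      one_mem' := by
        show Commute _ _
        rw [← one_def]
        exact Commute.one_left a
      mul_mem' := fun {u v} hu hv => by
        show Commute _ _
        have e : (single (u * v) 1 : kG) = single u 1 * single v 1 := by
          rw [single_mul_single, mul_one]
        rw [e]
        exact Commute.mul_left hu hv
      inv_mem' := fun {u} hu => by
        rw [Set.mem_ofPred_eq, commute_single_iff] at hu ⊢
        intro g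
        rw [← hu (u⁻¹ * g * u⁻¹⁻¹)]
        congr 1
        group }
  exact S.zpow_mem h n

theorem brE_mul {x : G} (hx : ∃ i, orderOf x = p ^ i) {a b : kG} (ha : Commute (single x 1) a)
    (hb : Commute (single x 1) b) : brE x (a * b) = brE x a * brE x b := by
  obtain ⟨i, hi⟩ := hx
  exact br_mul (IsPGroup.of_card (n := i) (by rw [Nat.card_zpowers, hi]))
    (isFixedBy_zpowers ha) (isFixedBy_zpowers hb)

theorem brE_sub (x : G) (a b : kG) : brE x (a - b) = brE x a - brE x b := by
  ext h
  simp [brE, coeff_br]

theorem brE_add (x : G) (a b : kG) : brE x (a + b) = brE x a + brE x b := br_add _ a b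

theorem brE_const (x : G) (r : Res M) : brE x (single 1 r : kG) = single 1 r := by
  classical
  ext h
  rw [brE, coeff_br, coeff_single, coeff_single, Finsupp.single_apply, Finsupp.single_apply]
  exact if_congr ⟨fun e => Subtype.ext e, fun e => congrArg Subtype.val e⟩ rfl rfl

theorem brE_const_mul {x : G} (hx : ∃ i, orderOf x = p ^ i) (r : Res M) {a : kG}
    (ha : Commute (single x 1) a) : brE x (single 1 r * a) = single 1 r * brE x a := by
  rw [brE_mul hx ?_ ha, brE_const]
  show _ = _
  rw [single_mul_single, single_mul_single, mul_one, one_mul, mul_one, one_mul]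

/-- An idempotent with zero truncation is killed. -/
theorem lval_eq_zero (hM : Cfsg.IsPModular p M) (χ : Cfsg.IrrCharacter G) {x y : G}
    (hx : ∃ i, orderOf x = p ^ i) (hy : ¬ p ∣ orderOf y) (hxy : Commute x y) {f : RG}
    (hf : f * f = f) (hfx : Commute (single x 1) f) (hfy : Commute (single y 1) f)
    (h0 : brE x (red f) = 0) : lval χ (x * y) f = 0 := by
  obtain ⟨i, hi⟩ := hx
  refine Cfsg.Agent.Lib.Blocks.lin_single_mul_eq_zero hM hf hi hy hxy hfx hfy (fun v hv => ?_) χ
  rw [← Cfsg.Agent.Lib.BrauerMap.PrincipalSection.centralizer_zpowers_eq x] at hv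
  have h := congrArg (fun z => MonoidAlgebra.coeff z (⟨v, hv⟩ :
    Subgroup.centralizer (Subgroup.zpowers x : Set G))) h0
  simpa [brE, coeff_br, coeff_red] using h

/-- **Equivalent truncations give equal values.** -/
theorem lval_eq_of_equiv (hM : Cfsg.IsPModular p M) (χ : Cfsg.IrrCharacter G) {x y : G}
    (hx : ∃ i, orderOf x = p ^ i) (hy : ¬ p ∣ orderOf y) (hxy : Commute x y) {i j u v : RG}
    (hi : i * i = i) (hj : j * j = j)
    (hc : ∀ z ∈ ({x, y} : Set G), Commute (single z 1) i ∧ Commute (single z 1) j ∧
      Commute (single z 1) u ∧ Commute (single z 1) v)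
    (h1 : brE x (red (i * u * j * v * i)) = brE x (red i))
    (h2 : brE x (red (j * v * i * u * j)) = brE x (red j)) :
    lval χ (x * y) i = lval χ (x * y) j := by
  haveI : Module.Finite (localRing M) RG :=
    Module.Finite.equiv (MonoidAlgebra.coeffLinearEquiv (localRing M)).symm
  haveI := Algebra.IsIntegral.of_finite (localRing M) RG
  set a := i * u * j with ha
  set b := j * v * i with hb
  have hab : a * b = i * u * j * v * i := by
    rw [ha, hb]; simp only [mul_assoc]; rw [← mul_assoc j j, hj]
  have hba : b * a = j * v * i * u * j := by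
    rw [ha, hb]; simp only [mul_assoc]; rw [← mul_assoc i i, hi]
  obtain ⟨P₁, hP₁, hPa⟩ := Algebra.IsIntegral.isIntegral (R := localRing M) (a * b)
  obtain ⟨P₂, hP₂, hPb⟩ := Algebra.IsIntegral.isIntegral (R := localRing M) (b * a)
  rw [← Polynomial.aeval_def] at hPa hPb
  obtain ⟨Q, q0, q1, hdvd⟩ := exists_idem_poly (hP₁.mul hP₂)
  have hidem : ∀ w : RG, Polynomial.aeval w (P₁ * P₂) = 0 →
      Polynomial.aeval w Q * Polynomial.aeval w Q = Polynomial.aeval w Q := by
    intro w hw
    obtain ⟨c, hc'⟩ := hdvd
    have h := congrArg (Polynomial.aeval w) hc'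
    rw [map_sub, map_mul, map_mul, hw, zero_mul, sub_eq_zero] at h
    exact h
  have hf := hidem (a * b) (by rw [map_mul, hPa, zero_mul])
  have hg := hidem (b * a) (by rw [map_mul, hPb, mul_zero])
  obtain ⟨Q₁, rfl⟩ : Polynomial.X ∣ Q := by
    rw [Polynomial.X_dvd_iff, Polynomial.coeff_zero_eq_eval_zero, q0]
  have hcy : ∀ z ∈ ({x, y} : Set G), Commute (single z 1) a ∧ Commute (single z 1) b := by
    intro z hz
    obtain ⟨c1, c2, c3, c4⟩ := hc z hz
    exact ⟨(c1.mul_right c3).mul_right c2, (c2.mul_right c4).mul_right c1⟩
  have hcxy : ∀ w : RG, (∀ z ∈ ({x, y} : Set G), Commute (single z 1) w) →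
      Commute (single (x * y) 1) w := by
    intro w hw
    have h := (hw x (by simp)).mul_left (hw y (by simp))
    rwa [single_mul_single, mul_one] at h
  -- equal values of the two idempotents
  have hswap : lval χ (x * y) (Polynomial.aeval (a * b) (Polynomial.X * Q₁)) =
      lval χ (x * y) (Polynomial.aeval (b * a) (Polynomial.X * Q₁)) := by
    have e : ∀ Q₂ : Polynomial (localRing M),
        b * Polynomial.aeval (a * b) Q₂ = Polynomial.aeval (b * a) Q₂ * b := by
      intro Q₂
      induction Q₂ using Polynomial.induction_on' with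
      | add p q hp hq => rw [map_add, map_add, mul_add, add_mul, hp, hq]
      | monomial n r =>
        have h3 : ∀ n : ℕ, b * (a * b) ^ n = (b * a) ^ n * b := fun n => by
          induction n with
          | zero => simp
          | succ n ih => rw [pow_succ, ← mul_assoc, ih, pow_succ]; simp only [mul_assoc]
        rw [Polynomial.aeval_monomial, Polynomial.aeval_monomial, ← mul_assoc, ← Algebra.commutes,
          mul_assoc, h3, ← mul_assoc]
    rw [map_mul, map_mul, Polynomial.aeval_X, Polynomial.aeval_X, mul_assoc, e,
      lval_mul_comm χ (hcxy a fun z hz => (hcy z hz).1), mul_assoc]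
    have e2 : Polynomial.aeval (b * a) Q₁ * (b * a) = b * a * Polynomial.aeval (b * a) Q₁ := by
      have h5 := (Commute.all Q₁ Polynomial.X).map (Polynomial.aeval (R := localRing M) (b * a))
      rw [Polynomial.aeval_X] at h5
      exact h5.eq
    rw [e2, mul_assoc]
  -- each is the whole
  have main : ∀ (i a b : RG), i * i = i → i * a = a → b * i = b →
      (∀ z ∈ ({x, y} : Set G), Commute (single z 1) i ∧ Commute (single z 1) a ∧
        Commute (single z 1) b) →
      brE x (red (a * b)) = brE x (red i) →
      Polynomial.aeval (a * b) (Polynomial.X * Q₁) * Polynomial.aeval (a * b) (Polynomial.X * Q₁) =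
        Polynomial.aeval (a * b) (Polynomial.X * Q₁) →
      lval χ (x * y) i = lval χ (x * y) (Polynomial.aeval (a * b) (Polynomial.X * Q₁)) := by
    intro i a b hi hia hbi hz hbr hF
    set F := Polynomial.aeval (a * b) (Polynomial.X * Q₁) with hFdef
    have hiab : i * (a * b) = a * b := by rw [← mul_assoc, hia]
    have habi : a * b * i = a * b := by rw [mul_assoc, hbi]
    have hiF : i * F = F := by
      rw [hFdef, map_mul, Polynomial.aeval_X, ← mul_assoc, hiab]
    have hFi : F * i = F := by
      rw [hFdef, mul_comm Polynomial.X Q₁, map_mul, Polynomial.aeval_X, mul_assoc, habi]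
    have hsub : (i - F) * (i - F) = i - F := by
      rw [sub_mul, mul_sub, mul_sub, hi, hiF, hFi, hF, sub_self, sub_zero]
    have hzab : ∀ z ∈ ({x, y} : Set G), Commute (single z 1) (a * b) := fun z h =>
      (hz z h).2.1.mul_right (hz z h).2.2
    have hzF : ∀ z ∈ ({x, y} : Set G), Commute (single z 1) (i - F) := fun z h =>
      (hz z h).1.sub_right (commute_aeval (hzab z h) _)
    have hbrF : brE x (red F) = brE x (red i) := by
      have hcx := commute_red (hzab x (by simp))
      have hI : brE x (red i) * brE x (red i) = brE x (red i) := by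
        rw [← brE_mul hx (commute_red (hz x (by simp)).1) (commute_red (hz x (by simp)).1),
          ← map_mul, hi]
      have key : ∀ Q₂ : Polynomial (localRing M),
          brE x (red (a * b * Polynomial.aeval (a * b) Q₂)) =
            single 1 (residue M (Q₂.eval 1)) * brE x (red i) := by
        intro Q₂
        induction Q₂ using Polynomial.induction_on' with
        | add p q hp hq =>
          rw [map_add, mul_add, map_add, brE_add, hp, hq, Polynomial.eval_add, map_add, single_add,
            add_mul]
        | monomial n r =>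
          rw [Polynomial.aeval_monomial, ← mul_assoc, ← Algebra.commutes, mul_assoc, ← pow_succ',
            algebraMap_eq, map_mul, red_single,
            brE_const_mul hx _ (by rw [map_pow]; exact hcx.pow_right _),
            Polynomial.eval_monomial, one_pow, mul_one]
          refine congrArg _ ?_
          induction n with
          | zero => rw [zero_add, pow_one, hbr]
          | succ n ih =>
            rw [pow_succ, map_mul, brE_mul hx (by rw [map_pow]; exact hcx.pow_right _) hcx, ih, hbr,
              hI]
      rw [hFdef, map_mul, Polynomial.aeval_X, key]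
      rw [Polynomial.eval_mul, Polynomial.eval_X, one_mul] at q1
      rw [q1, map_one, ← one_def, one_mul]
    have h := lval_eq_zero hM χ hx hy hxy hsub (hzF x (by simp)) (hzF y (by simp))
      (by rw [map_sub, brE_sub, hbrF, sub_self])
    rwa [lval_sub, sub_eq_zero] at h
  have hia : i * a = a := by rw [ha, ← mul_assoc, ← mul_assoc, hi]
  have hbi : b * i = b := by rw [hb, mul_assoc, hi]
  have hjb : j * b = b := by rw [hb, ← mul_assoc, ← mul_assoc, hj]
  have haj : a * j = a := by rw [ha, mul_assoc, hj]
  rw [main i a b hi hia hbi (fun z hz => ⟨(hc z hz).1, (hcy z hz).1, (hcy z hz).2⟩)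
      (by rw [hab]; exact h1) hf,
    main j b a hj hjb haj (fun z hz => ⟨(hc z hz).2.1, (hcy z hz).2, (hcy z hz).1⟩)
      (by rw [hba]; exact h2) hg, hswap]

open scoped Classical in
/-- The value at `xy` of a lift of a reduced idempotent. -/
noncomputable def tval (χ : Cfsg.IrrCharacter G) (x y : G) (e : kG) : ℂ :=
  if h : e * e = e ∧ ∀ z ∈ ({x, y} : Set G), Commute (single z 1) e then
    lval χ (x * y) (exists_lift (M := M) h.1 {x, y} h.2).choose
  else 0

section tval

variable (hM : Cfsg.IsPModular p M) (χ : Cfsg.IrrCharacter G) {x y : G}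
  (hx : ∃ i, orderOf x = p ^ i) (hy : ¬ p ∣ orderOf y) (hxy : Commute x y)

include hM hx hy hxy in
/-- Any idempotent with an equivalent truncation computes the value. -/
theorem tval_eq_of_equiv {e : kG} (he : e * e = e)
    (hec : ∀ z ∈ ({x, y} : Set G), Commute (single z 1) e) {f : RG} (hf : f * f = f)
    (hfc : ∀ z ∈ ({x, y} : Set G), Commute (single z 1) f) {u v : kG}
    (huc : ∀ z ∈ ({x, y} : Set G), Commute (single z 1) u ∧ Commute (single z 1) v)
    (h1 : brE x (e * u * red f * v * e) = brE x e)
    (h2 : brE x (red f * v * e * u * red f) = brE x (red f)) :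
    tval χ x y e = lval χ (x * y) f := by
  rw [tval, dif_pos ⟨he, hec⟩]
  obtain ⟨g1, g2, g3⟩ := (exists_lift (M := M) he {x, y} hec).choose_spec
  refine lval_eq_of_equiv hM χ hx hy hxy g1 hf (u := liftC u) (v := liftC v)
    (fun z hz => ⟨g3 z hz, hfc z hz, commute_liftC (huc z hz).1, commute_liftC (huc z hz).2⟩) ?_ ?_
  · simp only [map_mul, g2, red_liftC]; exact h1
  · simp only [map_mul, g2, red_liftC]; exact h2

include hM hx hy hxy in
/-- Any lift with the same truncation computes the value. -/
theorem tval_eq {e : kG} (he : e * e = e) (hec : ∀ z ∈ ({x, y} : Set G), Commute (single z 1) e)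
    {f : RG} (hf : f * f = f) (hfc : ∀ z ∈ ({x, y} : Set G), Commute (single z 1) f)
    (h : brE x (red f) = brE x e) : tval χ x y e = lval χ (x * y) f := by
  have cx : Commute (single x 1) e := hec x (by simp)
  have cf : Commute (single x 1) (red f) := commute_red (hfc x (by simp))
  have he' : brE x e * brE x e = brE x e := by rw [← brE_mul hx cx cx, he]
  refine tval_eq_of_equiv hM χ hx hy hxy he hec hf hfc (u := 1) (v := 1)
    (fun z _ => ⟨Commute.one_right _, Commute.one_right _⟩) ?_ ?_
  · simp only [mul_one]
    rw [brE_mul hx (cx.mul_right cf) cx, brE_mul hx cx cf, h, he', he']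
  · simp only [mul_one]
    rw [brE_mul hx (cf.mul_right cx) cf, brE_mul hx cf cx, h, he', he']

theorem eq_zero_of_red {f : RG} (hf : f * f = f) (h : red f = 0) : f = 0 := by
  classical
  haveI := Fintype.ofFinite G
  haveI : Module.Free (localRing M) RG :=
    Module.Free.of_equiv (MonoidAlgebra.coeffLinearEquiv (localRing M)).symm
  haveI : Module.Finite (localRing M) RG :=
    Module.Finite.equiv (MonoidAlgebra.coeffLinearEquiv (localRing M)).symm
  have e : LinearMap.mulLeft (localRing M) f =
      ∑ g : G, f.coeff g • LinearMap.mulLeft (localRing M) (single g (1 : localRing M)) := by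
    refine LinearMap.ext fun w => ?_
    simp only [LinearMap.mulLeft_apply, LinearMap.sum_apply, LinearMap.smul_apply,
      ← smul_mul_assoc, ← Finset.sum_mul]
    congr 1
    ext g
    rw [coeff_sum, Finsupp.finsetSum_apply]
    simp [coeff_single, Finsupp.single_apply]
  have h' := Cfsg.Agent.Lib.Blocks.isUnit_one_sub_of_residue_eq_zero (M := M) Finset.univ
    (fun g => f.coeff g) (fun g => LinearMap.mulLeft (localRing M) (single g (1 : localRing M)))
    (fun g _ => by rw [← coeff_red, h]; rfl)
  rw [← e] at h'
  obtain ⟨U, hU⟩ := h'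
  have k0 : (U : Module.End (localRing M) RG) f = 0 := by
    rw [hU]
    simp [hf]
  have k1 := congrArg (↑U⁻¹ : Module.End (localRing M) RG) k0
  rw [map_zero, ← Module.End.mul_apply, Units.inv_mul, Module.End.one_apply] at k1
  exact k1

theorem tval_zero : tval χ x y (0 : kG) = 0 := by
  rw [tval, dif_pos ⟨mul_zero _, fun z _ => Commute.zero_right _⟩]
  obtain ⟨f1, f2, -⟩ := (exists_lift (M := M) (mul_zero (0 : kG)) {x, y}
    fun z _ => Commute.zero_right _).choose_spec
  rw [eq_zero_of_red f1 f2, lval]
  simp

include hM hx hy hxy in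
/-- Equivalent truncations give equal values. -/
theorem tval_congr {e e' : kG} (he : e * e = e) (he' : e' * e' = e')
    (hec : ∀ z ∈ ({x, y} : Set G), Commute (single z 1) e)
    (hec' : ∀ z ∈ ({x, y} : Set G), Commute (single z 1) e') {u v : kG}
    (huc : ∀ z ∈ ({x, y} : Set G), Commute (single z 1) u ∧ Commute (single z 1) v)
    (h1 : brE x (e * u * e' * v * e) = brE x e) (h2 : brE x (e' * v * e * u * e') = brE x e') :
    tval χ x y e = tval χ x y e' := by
  obtain ⟨f1, f2, f3⟩ := (exists_lift (M := M) he' {x, y} hec').choose_spec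
  conv_rhs => rw [tval, dif_pos ⟨he', hec'⟩]
  refine tval_eq_of_equiv hM χ hx hy hxy he hec f1 f3 huc ?_ ?_
  · rwa [f2]
  · rwa [f2]

include hM hx hy hxy in
/-- The value only depends on the truncation. -/
theorem tval_congr_brE {e e' : kG} (he : e * e = e) (he' : e' * e' = e')
    (hec : ∀ z ∈ ({x, y} : Set G), Commute (single z 1) e)
    (hec' : ∀ z ∈ ({x, y} : Set G), Commute (single z 1) e') (h : brE x e = brE x e') :
    tval χ x y e = tval χ x y e' := by
  obtain ⟨f1, f2, f3⟩ := (exists_lift (M := M) he' {x, y} hec').choose_spec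
  conv_rhs => rw [tval, dif_pos ⟨he', hec'⟩]
  exact tval_eq hM χ hx hy hxy he hec f1 f3 (by rw [f2, h])

include hM hx hy hxy in
/-- Orthogonal idempotents add. -/
theorem tval_add {e e' : kG} (he : e * e = e) (he' : e' * e' = e') (h : e * e' = 0)
    (h' : e' * e = 0) (hec : ∀ z ∈ ({x, y} : Set G), Commute (single z 1) e)
    (hec' : ∀ z ∈ ({x, y} : Set G), Commute (single z 1) e') :
    tval χ x y (e + e') = tval χ x y e + tval χ x y e' := by
  have hs : (e + e') * (e + e') = e + e' := by
    rw [add_mul, mul_add, mul_add, he, he', h, h', add_zero, zero_add]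
  have hsc : ∀ z ∈ ({x, y} : Set G), Commute (single z 1) (e + e') := fun z hz =>
    (hec z hz).add_right (hec' z hz)
  obtain ⟨f, hf, hfr, hfc⟩ := exists_lift (M := M) hs {x, y} hsc
  obtain ⟨Q, q0, q1, hg⟩ := exists_idem_aeval (f * liftC (M := M) e * f)
  set g := Polynomial.aeval (f * liftC (M := M) e * f) Q with hgdef
  have hgc : ∀ z ∈ ({x, y} : Set G), Commute (single z 1) g := fun z hz =>
    commute_aeval (((hfc z hz).mul_right (commute_liftC (hec z hz))).mul_right (hfc z hz)) Q
  have hfg : f * g = g ∧ g * f = g := by
    obtain ⟨Q₁, hQ₁⟩ : Polynomial.X ∣ Q := by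
      rw [Polynomial.X_dvd_iff, Polynomial.coeff_zero_eq_eval_zero, q0]
    constructor
    · rw [hgdef, hQ₁, map_mul, Polynomial.aeval_X]
      simp only [← mul_assoc, hf]
    · rw [hgdef, hQ₁, mul_comm Polynomial.X Q₁, map_mul, Polynomial.aeval_X]
      simp only [mul_assoc, hf]
  have hgr : red g = e := by
    have e1 : red (f * liftC (M := M) e * f) = e := by
      rw [map_mul, map_mul, hfr, red_liftC, add_mul, he, h', add_zero, mul_add, he, h, add_zero]
    rw [hgdef, red_aeval_of_idem (by rw [e1, he]) q0 q1, e1]
  have hsub : (f - g) * (f - g) = f - g := by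
    rw [sub_mul, mul_sub, mul_sub, hf, hg, hfg.1, hfg.2, sub_self, sub_zero]
  have hsr : red (f - g) = e' := by rw [map_sub, hfr, hgr, add_sub_cancel_left]
  rw [tval_eq hM χ hx hy hxy hs hsc hf hfc (by rw [hfr]),
    tval_eq hM χ hx hy hxy he hec hg hgc (by rw [hgr]),
    tval_eq hM χ hx hy hxy he' hec' hsub (fun z hz => (hfc z hz).sub_right (hgc z hz))
      (by rw [hsr]), lval_sub]
  ring

end tval

end Cfsg.Agent.Lib.Watanabe.Lift
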