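import Cfsg.Agent.Lib.BrauerPairs.SubsectionCount

/-!
# The block of a subgroup below a maximal pair

For a subgroup `L` containing `P C(P)` the block of `L` given by the pair `(P, c)`; it does not
depend on the group in which `L` is seen.
-/

set_option autoImplicit false
set_option linter.style.haveILetI false
set_option linter.unusedSectionVars false

namespace Cfsg.Agent.Lib.Watanabe.BlkIn

open MonoidAlgebra Cfsg.Agent.Lib.BrauerMap.Basic
open Cfsg.Agent.Lib.BrauerPairs.Center Cfsg.Agent.Lib.BrauerPairs.Trunc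
open Cfsg.Agent.Lib.BrauerPairs.Conj Cfsg.Agent.Lib.BrauerPairs.Pairs
open Cfsg.Agent.Lib.BrauerPairs.Transport Cfsg.Agent.Lib.BrauerPairs.Maximal
open Cfsg.Agent.Lib.BrauerPairs.Bridge Cfsg.Agent.Lib.BrauerPairs.Embed
open Cfsg.Agent.Lib.BrauerPairs.Local Cfsg.Agent.Lib.BrauerPairs.LocalAbelian
open Cfsg.Agent.Lib.BrauerPairs.SubsectionCount

universe u

attribute [local instance] Ideal.Quotient.field

variable {M : Ideal Cfsg.AlgInt} [M.IsMaximal] {G : Type u} [Group G] [Finite G]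
  {p : ℕ} [Fact p.Prime] [CharP (Res M) p]

local notation "C[" P "]" => Subgroup.centralizer ((P : Subgroup G) : Set G)

variable {P : Subgroup G} {c : Blk (Res M) (Subgroup.centralizer (P : Set G))} {L : Subgroup G}

/-- The pair inside a subgroup. -/
noncomputable abbrev pairIn (c : Blk (Res M) (Subgroup.centralizer (P : Set G))) (hPL : P ≤ L)
    (hCL : C[P] ≤ L) : Idx (Res M) L :=
  ⟨P.subgroupOf L, down hPL hCL c⟩

theorem isPGroup_sub {K : Subgroup G} (hP : IsPGroup p P) (hPK : P ≤ K) :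
    IsPGroup p (P.subgroupOf K) :=
  hP.of_equiv (Subgroup.subgroupOfEquivOfLe hPK).symm

theorem isPGroup_pairIn (hP : IsPGroup p P) (hPL : P ≤ L) (hCL : C[P] ≤ L) : IsPGroup p (pairIn c hPL hCL).1 :=
  hP.of_equiv (Subgroup.subgroupOfEquivOfLe hPL).symm

/-- The block of the subgroup below the pair. -/
noncomputable def blkIn (c : Blk (Res M) (Subgroup.centralizer (P : Set G))) (hP : IsPGroup p P)
    (hPL : P ≤ L) (hCL : C[P] ≤ L) : Blk (Res M) L :=
  pairBlk (isPGroup_pairIn (c := c) hP hPL hCL)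

theorem pairOf_blkIn (hP : IsPGroup p P) (hPL : P ≤ L) (hCL : C[P] ≤ L) : PairOf p (blkIn c hP hPL hCL) (pairIn c hPL hCL) :=
  pairOf_iff.mpr ⟨isPGroup_pairIn hP hPL hCL, rfl⟩

theorem eq_blkIn (hP : IsPGroup p P) (hPL : P ≤ L) (hCL : C[P] ≤ L) {F : Blk (Res M) L} (h : PairOf p F (pairIn c hPL hCL)) :
    F = blkIn c hP hPL hCL :=
  (existsUnique_pairOf _ (isPGroup_pairIn hP hPL hCL)).unique h (pairOf_blkIn hP hPL hCL)

theorem blkIn_apply (hP : IsPGroup p P) (hPL : P ≤ L) (hCL : C[P] ≤ L) (z : ZAlg (Res M) L) :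
    blkIn c hP hPL hCL z = val P c (ext L (z : MonoidAlgebra (Res M) L)) := by
  rw [blkIn, pairBlk_apply]
  exact val_down hPL hCL c (isFixedBy_of_mem_center _ z.2)

theorem localBlk_eq (hP : IsPGroup p P) {u : G} (hab : ∀ x ∈ P, ∀ y ∈ P, x * y = y * x) (hu : u ∈ P) :
    localBlk c hP hab hu = blkIn c hP (le_centralizer_zpowers hab hu)
      (centralizer_anti (Subgroup.zpowers_le.mpr hu)) := rfl

theorem top_pairIn (hPL : P ≤ L) (hCL : C[P] ≤ L) (htop : Top p (⟨P, c⟩ : Idx (Res M) G)) :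
    Top p (pairIn c hPL hCL) :=
  top_down_of_top hPL hCL c htop

theorem mem_stab_pairIn_iff (hPL : P ≤ L) (hCL : C[P] ≤ L) (x : L) :
    x ∈ stab (pairIn c hPL hCL) ↔ (x : G) ∈ stab (⟨P, c⟩ : Idx (Res M) G) :=
  mem_stab_down_iff hPL hCL c x

/-! ### Subgroups of subgroups -/

/-- A subgroup inside a subgroup, identified. -/
def subEquiv {K : Subgroup G} (L' : Subgroup K) (L : Subgroup G) (hLK : L ≤ K)
    (h : ∀ x : K, x ∈ L' ↔ (x : G) ∈ L) : L' ≃* L where
  toFun x := ⟨((x : K) : G), (h x).mp x.2⟩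
  invFun x := ⟨⟨x, hLK x.2⟩, (h _).mpr x.2⟩
  left_inv _ := rfl
  right_inv _ := rfl
  map_mul' _ _ := rfl

omit [Finite G] in
theorem ext_ext_sub {K : Subgroup G} (L' : Subgroup K) (L : Subgroup G) (hLK : L ≤ K)
    (h : ∀ x : K, x ∈ L' ↔ (x : G) ∈ L) (z : MonoidAlgebra (Res M) L') :
    ext K (ext L' z) =
      ext L (MonoidAlgebra.domCongr (Res M) (Res M) (subEquiv L' L hLK h) z) := by
  induction z using MonoidAlgebra.induction_linear with
  | zero => simp
  | add f g hf hg => simp only [map_add, hf, hg]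
  | single a r =>
    rw [domCongr_single, ext_single, ext_single, ext_single]
    rfl

/-- The block below the pair does not depend on the ambient group. -/
theorem blkIn_sub (hP : IsPGroup p P) (hPL : P ≤ L) (hCL : C[P] ≤ L)
    {K : Subgroup G} (hPK : P ≤ K) (hCK : C[P] ≤ K) (L' : Subgroup K) (hLK : L ≤ K)
    (h : ∀ x : K, x ∈ L' ↔ (x : G) ∈ L) (hPL' : P.subgroupOf K ≤ L')
    (hCL' : Subgroup.centralizer ((P.subgroupOf K : Subgroup K) : Set K) ≤ L') :
    blkIn (down hPK hCK c) (isPGroup_sub hP hPK) hPL' hCL' =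
      (blkIn c hP hPL hCL).comp (zMap (subEquiv L' L hLK h)) := by
  refine AlgHom.ext fun z => ?_
  rw [blkIn_apply, AlgHom.comp_apply, blkIn_apply, coe_zMap, ← ext_ext_sub L' L hLK h]
  refine val_down hPK hCK c ?_
  exact isFixedBy_mono hCL' (isFixedBy_ext_of_center z.2)

theorem blockRank_blkIn_sub (hP : IsPGroup p P) (hPL : P ≤ L) (hCL : C[P] ≤ L)
    {K : Subgroup G} (hPK : P ≤ K) (hCK : C[P] ≤ K) (L' : Subgroup K)
    (hLK : L ≤ K) (h : ∀ x : K, x ∈ L' ↔ (x : G) ∈ L) (hPL' : P.subgroupOf K ≤ L')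
    (hCL' : Subgroup.centralizer ((P.subgroupOf K : Subgroup K) : Set K) ≤ L') :
    Cfsg.blockRank p (toSet (blkIn (down hPK hCK c) (isPGroup_sub hP hPK)
        hPL' hCL')) =
      Cfsg.blockRank p (toSet (blkIn c hP hPL hCL)) := by
  rw [blkIn_sub hP hPL hCL hPK hCK L' hLK h hPL' hCL']
  have e := blockRank_transport (p := p) (subEquiv L' L hLK h).symm (blkIn c hP hPL hCL)
  rwa [MulEquiv.symm_symm] at e

theorem blockRank_blkIn_congr (hP : IsPGroup p P) (hPL : P ≤ L) (hCL : C[P] ≤ L)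
    {L₂ : Subgroup G} (hPL₂ : P ≤ L₂) (hCL₂ : C[P] ≤ L₂) (e : L = L₂) :
    Cfsg.blockRank p (toSet (blkIn c hP hPL hCL)) =
      Cfsg.blockRank p (toSet (blkIn c hP hPL₂ hCL₂)) := by
  subst e; rfl

theorem card_blkIn_congr (hP : IsPGroup p P) (hPL : P ≤ L) (hCL : C[P] ≤ L)
    {L₂ : Subgroup G} (hPL₂ : P ≤ L₂) (hCL₂ : C[P] ≤ L₂) (e : L = L₂) :
    Nat.card (toSet (blkIn c hP hPL hCL)) = Nat.card (toSet (blkIn c hP hPL₂ hCL₂)) := by
  subst e; rfl

/-- In the whole group it is the block of the pair. -/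
theorem blockRank_blkIn_top (hP : IsPGroup p P) (hPL : P ≤ L) (hCL : C[P] ≤ L)
    {ψ : Blk (Res M) G} (hψ : PairOf p ψ (⟨P, c⟩ : Idx (Res M) G))
    (htopL : L = ⊤) :
    Cfsg.blockRank p (toSet (blkIn c hP hPL hCL)) = Cfsg.blockRank p (toSet ψ) := by
  subst htopL
  have e : blkIn c hP hPL hCL = ψ.comp (zMap (Subgroup.topEquiv (G := G))) := by
    refine AlgHom.ext fun z => ?_
    rw [blkIn_apply, AlgHom.comp_apply, ← hψ.apply_eq]
    show val P c _ = val P c _
    congr 1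
  rw [e]
  have e2 := blockRank_transport (p := p) (Subgroup.topEquiv (G := G)).symm ψ
  rwa [MulEquiv.symm_symm] at e2

end Cfsg.Agent.Lib.Watanabe.BlkIn
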