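import Cfsg.Agent.Lib.Blocks.SectionHeight

/-!
# Integral weighted sums of major contributions

If weights of absolute value one give an integer at every character of the block when summed
against the contributions of major subsections, and are not constant, then the weighted sum of
the ranks vanishes.
-/

set_option autoImplicit false
set_option linter.style.haveILetI false
set_option linter.unusedSectionVars false

namespace Cfsg.Agent.Lib.Watanabe.Trace

open scoped ComplexConjugate
open Cfsg.Agent.Lib.Blocks Cfsg.Agent.Lib.Blocks.Contrib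
open Cfsg.Agent.Lib.Blocks.SectionMatrix Cfsg.Agent.Lib.Blocks.SectionHeight

universe u

variable {G : Type u} [Group G] [Fintype G] {p : ℕ} [Fact p.Prime] {M : Ideal Cfsg.AlgInt}
  [M.IsMaximal]

/-- An integer combination of a probability vector with unit weights that are not constant is
zero. -/
theorem eq_zero_of_int {ι : Type*} [Fintype ι] {r : ι → ℝ} (hr : ∀ i, 0 < r i)
    (hsum : ∑ i, r i ≤ 1) {w : ι → ℂ} (hw : ∀ i, ‖w i‖ = 1)
    (hne : ∃ i j, w i ≠ w j) {n : ℤ} (hn : ∑ i, w i * (r i : ℂ) = n) : n = 0 := by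
  by_contra hn0
  obtain ⟨i₀, j₀, hij⟩ := hne
  set ε : ℂ := if 0 < n then 1 else -1 with hε
  have hεn : ε * n = (|n| : ℤ) := by
    rcases lt_or_ge 0 n with h | h
    · rw [hε, if_pos h, one_mul, abs_of_pos h]
    · rw [hε, if_neg h.not_gt, abs_of_nonpos h]
      push_cast
      ring
  have habs : (1 : ℝ) ≤ ((|n| : ℤ) : ℝ) := by
    exact_mod_cast Int.one_le_abs hn0
  have hεw : ∀ i, ‖ε * w i‖ = 1 := fun i => by
    rw [norm_mul, hw, mul_one, hε]
    split_ifs <;> simp
  have h1 : ∑ i, r i * (ε * w i).re = ((|n| : ℤ) : ℝ) := by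
    have h := congrArg Complex.re hεn
    rw [← hn, Finset.mul_sum, Complex.re_sum] at h
    simp only [← mul_assoc, Complex.re_mul_ofReal, Complex.intCast_re] at h
    rw [← h]
    exact Finset.sum_congr rfl fun i _ => mul_comm _ _
  have hle : ∀ i ∈ Finset.univ, r i * (ε * w i).re ≤ r i := fun i _ =>
    mul_le_of_le_one_right (hr i).le ((Complex.re_le_norm _).trans (hεw i).le)
  have heq := (Finset.sum_eq_sum_iff_of_le hle).mp
    (le_antisymm (Finset.sum_le_sum hle) (by rw [h1]; linarith))
  have hone : ∀ i, ε * w i = 1 := by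
    intro i
    have h2 : (ε * w i).re = 1 := by
      have := heq i (Finset.mem_univ i)
      have h3 := mul_left_cancel₀ (hr i).ne' (this.trans (mul_one (r i)).symm)
      exact h3
    have h4 : Complex.normSq (ε * w i) = 1 := by
      rw [Complex.normSq_eq_norm_sq, hεw, one_pow]
    rw [Complex.normSq_apply, h2] at h4
    have h5 : (ε * w i).im = 0 := by nlinarith
    exact Complex.ext (by rw [h2, Complex.one_re]) (by rw [h5, Complex.one_im])
  have hε0 : ε ≠ 0 := fun h => by simpa [h] using hone i₀
  exact hij (mul_left_cancel₀ hε0 ((hone i₀).trans (hone j₀).symm))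

variable {H : Subgroup G} [Fintype H] (hM : Cfsg.IsPModular p M)
  {b : Set (Cfsg.IrrCharacter H)} {x : H} {B : Set (Cfsg.IrrCharacter G)}

include hM in
/-- The contributions of a subsection sum to `p ^ d` times the rank. -/
theorem sum_rnorm (hx : Pelt p x) (hind : Cfsg.IsInducedBlock M H b B) :
    ∑ χ ∈ bset B, rnorm p b x χ =
      (p : ℝ) ^ Cfsg.blockDefect p b * (Cfsg.blockRank p b : ℝ) := by
  have hb := hind.1
  have hp0 : ((p : ℝ) ^ Cfsg.blockDefect p b) ≠ 0 :=
    pow_ne_zero _ (Nat.cast_ne_zero.mpr (Fact.out : p.Prime).ne_zero)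
  simp only [rnorm]
  rw [← Finset.sum_div, div_eq_iff hp0, Finset.sum_comm]
  apply Complex.ofReal_injective
  push_cast
  simp only [← Complex.mul_conj]
  rw [Finset.sum_congr rfl fun ζ hζ =>
    sum_rowq_mul hM hx hind (mem_bset.mp hζ) (mem_bset.mp hζ), ← Finset.mul_sum]
  have h := congrArg (fun z : ℤ => (z : ℂ)) (sum_nq_self hM hb)
  push_cast at h
  rw [h]
  ring

include hM in
/-- A major subsection contributes at every character. -/
theorem rnorm_pos_of_major (hx : Pelt p x) (hind : Cfsg.IsInducedBlock M H b B)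
    (hd : Cfsg.blockDefect p b = Cfsg.blockDefect p B) {χ : Cfsg.IrrCharacter G} (hχ : χ ∈ B) :
    0 < rnorm p b x χ := by
  obtain ⟨χ₀, hχ₀, h0⟩ := exists_height_zero (p := p) hind.2.1
  exact rnorm_pos hM hind.1 (cX_ne_zero_height hM hx hind hd hχ hχ₀ h0)

end Cfsg.Agent.Lib.Watanabe.Trace
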