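import Cfsg.Agent.Lib.Watanabe.BlkIn
import Cfsg.Agent.Lib.Watanabe.Trace

/-!
# Equal fibres from integral twisted contributions

`Star` says that a linear character of the defect group fixed by the stabilizer gives an integer
against the contributions of the subsections at each character.  Then the ranks of the local
blocks over each fibre of a projection to fixed points add up to the same number.
-/

set_option autoImplicit false
set_option linter.style.haveILetI false
set_option linter.unusedSectionVars false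

namespace Cfsg.Agent.Lib.Watanabe.Fibre

open MonoidAlgebra Cfsg.Agent.Lib.BrauerMap.Basic
open Cfsg.Agent.Lib.BrauerPairs.Center Cfsg.Agent.Lib.BrauerPairs.Trunc
open Cfsg.Agent.Lib.BrauerPairs.Pairs Cfsg.Agent.Lib.BrauerPairs.Maximal
open Cfsg.Agent.Lib.BrauerPairs.Bridge Cfsg.Agent.Lib.BrauerPairs.Local
open Cfsg.Agent.Lib.BrauerPairs.RankAbelian Cfsg.Agent.Lib.BrauerPairs.SubsectionCount
open Cfsg.Agent.Lib.Blocks.Contrib (bset mem_bset)
open Cfsg.Agent.Lib.Blocks.SectionMatrix Cfsg.Agent.Lib.Blocks.SectionHeight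

universe u

attribute [local instance] Ideal.Quotient.field

variable {M : Ideal Cfsg.AlgInt} [M.IsMaximal] {G : Type u} [Group G] [Fintype G]
  {p : ℕ} [Fact p.Prime] [CharP (Res M) p]

local notation "C[" P "]" => Subgroup.centralizer ((P : Subgroup G) : Set G)

/-- The contribution of the subsection at `r` below the pair, scaled by the order of `P`. -/
noncomputable def cb (p : ℕ) [Fact p.Prime] [CharP (Res M) p] {P : Subgroup G}
    (c : Blk (Res M) (Subgroup.centralizer (P : Set G))) (hP : IsPGroup p P)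
    (hab : ∀ x ∈ P, ∀ y ∈ P, x * y = y * x) (r : P) (χ : Cfsg.IrrCharacter G) : ℝ :=
  letI := Fintype.ofFinite (cz (r : G))
  rnorm p (toSet (localBlk c hP hab r.2)) (xel (r : G)) χ / Nat.card P

variable {P : Subgroup G} {c : Blk (Res M) (Subgroup.centralizer (P : Set G))}

/-- The twisted contributions at each character are integers and, untwisted, give one. -/
structure Star (p : ℕ) [Fact p.Prime] [CharP (Res M) p] (ψ : Blk (Res M) G)
    (c : Blk (Res M) (Subgroup.centralizer (P : Set G))) (hP : IsPGroup p P)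
    (hab : ∀ x ∈ P, ∀ y ∈ P, x * y = y * x) (R : Finset P) : Prop where
  sum_one : ∀ χ ∈ toSet ψ, ∑ r ∈ R, cb p c hP hab r χ = 1
  twist : ∀ χ ∈ toSet ψ, ∀ lam : P →* ℂ,
    (∀ t ∈ stab (⟨P, c⟩ : Idx (Res M) G), ∀ x y : P, t * (x : G) * t⁻¹ = y → lam y = lam x) →
    ∃ n : ℤ, ∑ r ∈ R, lam r * (cb p c hP hab r χ : ℂ) = n

theorem cb_pos (hM : Cfsg.IsPModular p M) {ψ : Blk (Res M) G}
    (htop : Top p (⟨P, c⟩ : Idx (Res M) G)) (hψ : PairOf p ψ (⟨P, c⟩ : Idx (Res M) G))
    (hab : ∀ x ∈ P, ∀ y ∈ P, x * y = y * x) (r : P) {χ : Cfsg.IrrCharacter G}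
    (hχ : χ ∈ toSet ψ) : 0 < cb p c htop.1 hab r χ := by
  letI := Fintype.ofFinite (cz (r : G))
  refine div_pos ?_ (Nat.cast_pos.mpr Nat.card_pos)
  obtain ⟨k, hk⟩ := IsPGroup.iff_orderOf.mp htop.1 r
  exact Trace.rnorm_pos_of_major hM
    (pelt_xel ⟨k, (Subgroup.orderOf_coe r).trans hk⟩)
    (isInducedBlock_localBlk hM htop.1 hψ hab r.2) (blockDefect_localBlk hM htop hψ hab r.2) hχ

theorem sum_cb (hM : Cfsg.IsPModular p M) {ψ : Blk (Res M) G}
    (htop : Top p (⟨P, c⟩ : Idx (Res M) G)) (hψ : PairOf p ψ (⟨P, c⟩ : Idx (Res M) G))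
    (hab : ∀ x ∈ P, ∀ y ∈ P, x * y = y * x) (r : P) :
    ∑ χ ∈ bset (toSet ψ), cb p c htop.1 hab r χ =
      (Cfsg.blockRank p (toSet (localBlk c htop.1 hab r.2)) : ℝ) := by
  letI := Fintype.ofFinite (cz (r : G))
  obtain ⟨k, hk⟩ := IsPGroup.iff_orderOf.mp htop.1 r
  have h1 := Trace.sum_rnorm hM (pelt_xel ⟨k, (Subgroup.orderOf_coe r).trans hk⟩)
    (isInducedBlock_localBlk hM htop.1 hψ hab r.2)
  rw [blockDefect_localBlk hM htop hψ hab r.2] at h1
  have h2 : (Nat.card P : ℝ) = (p : ℝ) ^ Cfsg.blockDefect p (toSet ψ) := by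
    exact_mod_cast card_top hM htop hψ
  simp only [cb]
  rw [← Finset.sum_div, h1, h2, mul_div_assoc, mul_div_cancel₀]
  exact pow_ne_zero _ (Nat.cast_ne_zero.mpr (Fact.out : p.Prime).ne_zero)

open scoped Classical in
/-- **Equal fibres**: over two values of a stable projection the ranks add up equally. -/
theorem fibre_eq (hM : Cfsg.IsPModular p M) {ψ : Blk (Res M) G}
    (htop : Top p (⟨P, c⟩ : Idx (Res M) G)) (hψ : PairOf p ψ (⟨P, c⟩ : Idx (Res M) G))
    (hab : ∀ x ∈ P, ∀ y ∈ P, x * y = y * x) {R : Finset P}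
    (hstar : Star p ψ c htop.1 hab R) (π : P →* P)
    (hπ : ∀ t ∈ stab (⟨P, c⟩ : Idx (Res M) G), ∀ x y : P, t * (x : G) * t⁻¹ = y → π y = π x)
    {r₁ r₂ : P} (h₁ : r₁ ∈ R) (h₂ : r₂ ∈ R) :
    ∑ r ∈ R.filter (fun r => π r = π r₁), Cfsg.blockRank p (toSet (localBlk c htop.1 hab r.2)) =
      ∑ r ∈ R.filter (fun r => π r = π r₂),
        Cfsg.blockRank p (toSet (localBlk c htop.1 hab r.2)) := by
  classical
  letI : CommGroup P :=
    { (inferInstance : Group P) with mul_comm := fun x y => Subtype.ext (hab _ x.2 _ y.2) }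
  haveI : HasEnoughRootsOfUnity ℂ (Monoid.exponent P) :=
    haveI : NeZero (Monoid.exponent P) := ⟨Monoid.exponent_ne_zero_of_finite⟩
    inferInstance
  have hdual := CommGroup.card_monoidHom_of_hasEnoughRootsOfUnity P ℂ
  haveI : Finite (P →* ℂˣ) := Finite.of_equiv P
    (CommGroup.monoidHom_mulEquiv_of_hasEnoughRootsOfUnity P ℂ).some.symm.toEquiv
  haveI := Fintype.ofFinite (P →* ℂˣ)
  -- the weighted sums vanish
  have hvan : ∀ lam : P →* ℂˣ, (∃ r ∈ R, ∃ s ∈ R, lam (π r) ≠ lam (π s)) →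
      ∑ r ∈ R, (lam (π r) : ℂ) *
        (Cfsg.blockRank p (toSet (localBlk c htop.1 hab r.2)) : ℂ) = 0 := by
    rintro lam ⟨a, ha, b, hb, hne⟩
    have hnorm : ∀ r : P, ‖((lam (π r) : ℂˣ) : ℂ)‖ = 1 := fun r => by
      refine Complex.norm_eq_one_of_pow_eq_one (n := Nat.card P) ?_ Nat.card_pos.ne'
      rw [← Units.val_pow_eq_pow_val, ← map_pow, pow_card_eq_one', map_one, Units.val_one]
    have hχ0 : ∀ χ ∈ bset (toSet ψ),
        ∑ r ∈ R, (lam (π r) : ℂ) * (cb p c htop.1 hab r χ : ℂ) = 0 := by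
      intro χ hχ
      rw [mem_bset] at hχ
      obtain ⟨n, hn⟩ := hstar.twist χ hχ ((Units.coeHom ℂ).comp (lam.comp π))
        fun t ht x y hxy => by simp [hπ t ht x y hxy]
      simp only [MonoidHom.coe_comp, Function.comp_apply, Units.coeHom_apply] at hn
      have h0 := Trace.eq_zero_of_int (ι := {r // r ∈ R})
        (r := fun r => cb p c htop.1 hab r.1 χ) (fun r => cb_pos hM htop hψ hab r.1 hχ)
        (by rw [Finset.sum_coe_sort R (fun r => cb p c htop.1 hab r χ)]
            exact (hstar.sum_one χ hχ).le)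
        (w := fun r => (lam (π r.1) : ℂ)) (fun r => hnorm r.1)
        ⟨⟨a, ha⟩, ⟨b, hb⟩, fun e => hne (Units.ext e)⟩ (n := n)
        (by rw [Finset.sum_coe_sort R (fun r => (lam (π r) : ℂ) * (cb p c htop.1 hab r χ : ℂ))]
            exact hn)
      rw [hn, h0, Int.cast_zero]
    have h := Finset.sum_eq_zero hχ0
    rw [Finset.sum_comm] at h
    simp only [← Finset.mul_sum, ← Complex.ofReal_sum, sum_cb hM htop hψ hab] at h
    exact_mod_cast h
  -- orthogonality
  set N : P → ℕ := fun z => ∑ r ∈ R.filter (fun r => π r = z),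
    Cfsg.blockRank p (toSet (localBlk c htop.1 hab r.2)) with hN
  have key : ∀ z : P, ∑ lam : P →* ℂˣ, ((lam z : ℂ))⁻¹ *
      (∑ r ∈ R, (lam (π r) : ℂ) *
        (Cfsg.blockRank p (toSet (localBlk c htop.1 hab r.2)) : ℂ)) =
      (Nat.card P : ℂ) * (N z : ℂ) := by
    intro z
    simp only [Finset.mul_sum, ← mul_assoc]
    rw [Finset.sum_comm]
    rw [hN]
    push_cast
    rw [Finset.mul_sum, Finset.sum_filter]
    refine Finset.sum_congr rfl fun r _ => ?_
    rw [← Finset.sum_mul]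
    split_ifs with hr
    · congr 1
      rw [Finset.sum_congr rfl fun lam _ => by rw [hr, inv_mul_cancel₀ (Units.ne_zero _)],
        Finset.sum_const, Finset.card_univ, ← Nat.card_eq_fintype_card, hdual, nsmul_eq_mul,
        mul_one]
    · refine mul_eq_zero_of_left ?_ _
      obtain ⟨μ, hμ⟩ := CommGroup.exists_apply_ne_one_of_hasEnoughRootsOfUnity P ℂ
        (fun e : z⁻¹ * π r = 1 => hr (inv_mul_eq_one.mp e).symm)
      have e : ∀ lam : P →* ℂˣ, ((lam z : ℂ))⁻¹ * (lam (π r) : ℂ) =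
          (lam (z⁻¹ * π r) : ℂ) := fun lam => by
        rw [map_mul, map_inv, Units.val_mul, Units.val_inv_eq_inv_val]
      simp only [e]
      have hshift : ∑ lam : P →* ℂˣ, (lam (z⁻¹ * π r) : ℂ) =
          (μ (z⁻¹ * π r) : ℂ) * ∑ lam : P →* ℂˣ, (lam (z⁻¹ * π r) : ℂ) := by
        rw [Finset.mul_sum]
        refine (Fintype.sum_equiv (Equiv.mulLeft μ) _ _ fun lam => ?_).symm
        simp
      by_contra h0
      exact hμ (Units.ext (mul_right_cancel₀ h0
        (hshift.symm.trans (one_mul _).symm)))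
  have hfin : (Nat.card P : ℂ) * (N (π r₁) : ℂ) = (Nat.card P : ℂ) * (N (π r₂) : ℂ) := by
    rw [← key, ← key]
    refine Finset.sum_congr rfl fun lam _ => ?_
    by_cases h : ∃ r ∈ R, ∃ s ∈ R, lam (π r) ≠ lam (π s)
    · rw [hvan lam h, mul_zero, mul_zero]
    · push Not at h
      rw [h r₁ h₁ r₂ h₂]
  exact_mod_cast mul_left_cancel₀ (Nat.cast_ne_zero.mpr Nat.card_pos.ne') hfin

end Cfsg.Agent.Lib.Watanabe.Fibre
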