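import Mathlib

/-!
# The projection onto the fixed points of a coprime group acting on an abelian subgroup
-/

set_option autoImplicit false
set_option linter.style.haveILetI false

namespace Cfsg.Agent.Lib.Watanabe.Fixed

universe u

variable {G : Type u} [Group G] [Finite G] {p : ℕ} [Fact p.Prime]

omit [Fact p.Prime] in
theorem exists_proj_hom {A : Type u} [CommGroup A] {H : Type u} [Group H] [Finite H]
    (φ : H →* MulAut A) {N : ℕ} (hN : ∀ a : A, a ^ N = 1) (hH : (Nat.card φ.range).Coprime N) :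
    ∃ π : A →* A, (∀ h a, φ h (π a) = π a) ∧ (∀ h a, π (φ h a) = π a) ∧
      ∀ a, (∀ h, φ h a = a) → π a = a := by
  classical
  haveI : Finite φ.range := Finite.of_surjective φ.rangeRestrict φ.rangeRestrict_surjective
  haveI := Fintype.ofFinite φ.range
  obtain ⟨e, he⟩ : ∃ e : ℕ, ∀ a : A, a ^ (e * Fintype.card φ.range) = a := by
    rw [← Nat.card_eq_fintype_card]
    rcases Nat.lt_or_ge 1 N with h1 | h1
    · obtain ⟨m, hm⟩ := Nat.exists_mul_mod_eq_one_of_coprime hH h1
      refine ⟨m, fun a => ?_⟩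
      rw [mul_comm m, pow_eq_pow_mod _ (hN a), hm.2, pow_one]
    · refine ⟨1, fun a => ?_⟩
      rcases Nat.le_one_iff_eq_zero_or_eq_one.mp h1 with h0 | h0
      · subst h0
        rw [Nat.coprime_zero_right] at hH
        rw [hH, mul_one, pow_one]
      · subst h0
        have := hN a
        rw [pow_one] at this
        simp [this]
  let f : A →* A :=
    { toFun := fun a => (∏ α : φ.range, (α : MulAut A) a) ^ e
      map_one' := by simp
      map_mul' := fun a b => by simp [Finset.prod_mul_distrib, mul_pow] }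
  refine ⟨f, fun h a => ?_, fun h a => ?_, fun a ha => ?_⟩
  · show φ h ((∏ α : φ.range, (α : MulAut A) a) ^ e) = _
    rw [map_pow, map_prod]
    show _ = (∏ α : φ.range, (α : MulAut A) a) ^ e
    congr 1
    exact Fintype.prod_equiv (Equiv.mulLeft ⟨φ h, h, rfl⟩) _ _ fun α => rfl
  · show (∏ α : φ.range, (α : MulAut A) (φ h a)) ^ e = (∏ α : φ.range, (α : MulAut A) a) ^ e
    congr 1
    exact Fintype.prod_equiv (Equiv.mulRight ⟨φ h, h, rfl⟩) _ _ fun α => rfl
  · show (∏ α : φ.range, (α : MulAut A) a) ^ e = a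
    rw [Finset.prod_eq_pow_card (b := a) fun α _ => by
      obtain ⟨_, h, rfl⟩ := α
      exact ha h, Finset.card_univ, ← pow_mul, mul_comm, he]

/-- The projection for a stabilizer whose `p`-elements centralize. -/
theorem exists_proj {P T : Subgroup G} (hP : IsPGroup p P)
    (hab : ∀ x ∈ P, ∀ y ∈ P, x * y = y * x) (hT : T ≤ Subgroup.normalizer (P : Set G))
    (hp : ∀ t ∈ T, (∃ k : ℕ, orderOf t = p ^ k) → t ∈ Subgroup.centralizer (P : Set G)) :
    ∃ π : P →* P, (∀ t ∈ T, ∀ x : P, t * (π x : G) * t⁻¹ = π x) ∧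
      (∀ t ∈ T, ∀ x y : P, t * (x : G) * t⁻¹ = y → π y = π x) ∧
      ∀ x : P, (∀ t ∈ T, t * (x : G) * t⁻¹ = x) → π x = x := by
  classical
  letI : CommGroup P :=
    { (inferInstance : Group P) with mul_comm := fun x y => Subtype.ext (hab _ x.2 _ y.2) }
  let φ : T →* MulAut P :=
    { toFun := fun t =>
        { toFun := fun x => ⟨(t : G) * x * (t : G)⁻¹,
            (Subgroup.mem_normalizer_iff.mp (hT t.2) x).mp x.2⟩
          invFun := fun x => ⟨(t : G)⁻¹ * x * (t : G),
            (Subgroup.mem_normalizer_iff''.mp (hT t.2) _).mp x.2⟩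
          left_inv := fun x => Subtype.ext (by simp [mul_assoc])
          right_inv := fun x => Subtype.ext (by simp [mul_assoc])
          map_mul' := fun x y => Subtype.ext (by simp [mul_assoc]) }
      map_one' := MulEquiv.ext fun x => Subtype.ext (by simp)
      map_mul' := fun s t => MulEquiv.ext fun x => Subtype.ext (by simp [mul_assoc]) }
  have hφ : ∀ (t : T) (x : P), ((φ t x : P) : G) = (t : G) * x * (t : G)⁻¹ := fun _ _ => rfl
  have hcop : (Nat.card φ.range).Coprime (Nat.card P) := by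
    obtain ⟨n, hn⟩ := IsPGroup.iff_card.mp hP
    rw [hn]
    refine Nat.Coprime.pow_right n (Nat.Coprime.symm ((Fact.out : p.Prime).coprime_iff_not_dvd.mpr
      fun hdvd => ?_))
    haveI : Finite φ.range := Finite.of_surjective φ.rangeRestrict φ.rangeRestrict_surjective
    haveI : Fact p.Prime := inferInstance
    obtain ⟨α, hα⟩ := exists_prime_orderOf_dvd_card' p hdvd
    obtain ⟨t, ht⟩ := φ.rangeRestrict_surjective α
    -- the `p`-part of `t`
    obtain ⟨i, m, hm, hi⟩ := Nat.exists_eq_pow_mul_and_not_dvd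
      (orderOf_pos t).ne' p (Fact.out : p.Prime).ne_one
    have hord : orderOf (t ^ m) = p ^ i := by
      have hm0 : m ≠ 0 := fun h => hm (by rw [h]; exact dvd_zero p)
      rw [orderOf_pow_of_dvd hm0 ⟨p ^ i, by rw [hi, mul_comm]⟩, hi,
        Nat.mul_div_cancel _ (Nat.pos_of_ne_zero hm0)]
    have hc := hp _ (t ^ m).2 ⟨i, (Subgroup.orderOf_coe _).trans hord⟩
    have h1 : α ^ m = 1 := by
      rw [← ht, ← map_pow]
      refine Subtype.ext (MulEquiv.ext fun x => Subtype.ext ?_)
      show ((φ (t ^ m) x : P) : G) = (x : G)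
      rw [hφ, ← hc x x.2, mul_inv_cancel_right]
    have h2 := orderOf_dvd_of_pow_eq_one h1
    rw [hα] at h2
    exact hm h2
  obtain ⟨π, h1, h2, h3⟩ := exists_proj_hom φ (fun x => pow_card_eq_one') hcop
  refine ⟨π, fun t ht x => ?_, fun t ht x y hxy => ?_, fun x hx => h3 x fun t =>
    Subtype.ext ((hφ t x).trans (hx t t.2))⟩
  · exact (hφ ⟨t, ht⟩ (π x)).symm.trans (congrArg Subtype.val (h1 ⟨t, ht⟩ x))
  · rw [← h2 ⟨t, ht⟩ x]
    exact congrArg π (Subtype.ext (hxy.symm.trans (hφ ⟨t, ht⟩ x).symm))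

end Cfsg.Agent.Lib.Watanabe.Fixed
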