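import Cfsg.Agent.Lib.Watanabe.Sections
import Cfsg.Agent.Lib.Watanabe.Lift

/-!
# The twisted function of an idempotent

For `x` of `p`-power order, `y` regular, commuting, and an idempotent `i` commuting with both,
`phi` adds the values at `xy` of the parts of the truncation of `i` in the conjugates of the local
blocks below the pair.  For `i = 1` it is the twisted character.
-/

set_option autoImplicit false
set_option linter.style.haveILetI false
set_option linter.unusedSectionVars false
set_option linter.unusedFintypeInType false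

namespace Cfsg.Agent.Lib.Watanabe.Local

open MonoidAlgebra Cfsg.Agent.Lib.BrauerMap.Basic
open Cfsg.Agent.Lib.BrauerPairs.Center Cfsg.Agent.Lib.BrauerPairs.Trunc
open Cfsg.Agent.Lib.BrauerPairs.Conj Cfsg.Agent.Lib.BrauerPairs.Pairs
open Cfsg.Agent.Lib.BrauerPairs.Transport Cfsg.Agent.Lib.BrauerPairs.Maximal
open Cfsg.Agent.Lib.BrauerPairs.Bridge Cfsg.Agent.Lib.BrauerPairs.Local
open Cfsg.Agent.Lib.BrauerPairs.Fusion Cfsg.Agent.Lib.BrauerPairs.SubsectionCount
open Cfsg.Agent.Lib.Blocks (localRing residue lin lin_single extHom extHom_single map_extHom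
  blockIdemR coe_coeff_blockIdemR mapCenter)
open Cfsg.Agent.Lib.Blocks.SectionHeight (cz)
open Cfsg.Agent.Lib.Blocks.SectionPart (sect)
open Cfsg.Agent.Lib.Watanabe.Lift

universe u

attribute [local instance] Ideal.Quotient.field

variable {M : Ideal Cfsg.AlgInt} [M.IsMaximal] {G : Type u} [Group G] [Fintype G]

local notation "kG" => MonoidAlgebra (Res M) G
local notation "RG" => MonoidAlgebra (localRing M) G

/-! ### Truncations as elements of the group algebra -/

/-- The part supported on the centralizer of `x`. -/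
noncomputable def tr (x : G) (a : kG) : kG :=
  ext (Subgroup.centralizer (Subgroup.zpowers x : Set G)) (brE x a)

theorem coeff_tr_of_mem {x g : G} (hg : g ∈ cz x) (a : kG) : (tr x a).coeff g = a.coeff g :=
  (coeff_ext _ _ ⟨g, hg⟩).trans (coeff_br _ _ _)

theorem coeff_tr_of_notMem {x g : G} (hg : g ∉ cz x) (a : kG) : (tr x a).coeff g = 0 :=
  coeff_ext_of_notMem _ _ hg

theorem brE_ext (x : G) (z : MonoidAlgebra (Res M) (cz x)) : brE x (ext (cz x) z : kG) = z := by
  ext g
  rw [brE, coeff_br]
  exact coeff_ext _ _ g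

theorem tr_one (x : G) : tr x (1 : kG) = 1 := by
  rw [tr, brE, br_one, map_one]

theorem tr_zero (x : G) : tr x (0 : kG) = 0 := by
  rw [tr, brE, br_zero, map_zero]

theorem single_conj (v : G) (a : kG) : single v 1 * a * single v⁻¹ 1 = conjA v a := by
  ext g
  rw [coeff_mul_single_apply, coeff_single_mul_apply, coeff_conjA]
  simp [mul_assoc]

theorem cz_conj_iff (v x g : G) : g ∈ cz x ↔ v * g * v⁻¹ ∈ cz (v * x * v⁻¹) := by
  rw [Cfsg.Agent.Lib.BrauerMap.SecondMain.mem_centralizer_zpowers_iff,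
    Cfsg.Agent.Lib.BrauerMap.SecondMain.mem_centralizer_zpowers_iff]
  constructor
  · exact fun h => (h.map (MulAut.conj v).toMonoidHom)
  · intro h
    have := h.map (MulAut.conj v⁻¹).toMonoidHom
    simpa [mul_assoc] using this

theorem tr_conj (s x : G) (a : kG) : tr (s * x * s⁻¹) (conjA s a) = conjA s (tr x a) := by
  ext g
  rw [coeff_conjA]
  have hm : s⁻¹ * g * s ∈ cz x ↔ g ∈ cz (s * x * s⁻¹) := by
    rw [cz_conj_iff s x (s⁻¹ * g * s)]
    simp [mul_assoc]
  by_cases hg : g ∈ cz (s * x * s⁻¹)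
  · rw [coeff_tr_of_mem hg, coeff_tr_of_mem (hm.mpr hg), coeff_conjA]
  · rw [coeff_tr_of_notMem hg, coeff_tr_of_notMem fun h => hg (hm.mp h)]

theorem mem_cz_self (x : G) : x ∈ cz x := Subgroup.le_centralizer _ (Subgroup.mem_zpowers x)

theorem commute_mem {x y : G} (hy : y ∈ cz x) : Commute y x :=
  Cfsg.Agent.Lib.BrauerMap.SecondMain.mem_centralizer_zpowers_iff.mp hy

theorem mem_cz {x y : G} (h : Commute x y) : y ∈ cz x :=
  Cfsg.Agent.Lib.BrauerMap.SecondMain.mem_centralizer_zpowers_iff.mpr h.symm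

variable {p : ℕ} [Fact p.Prime] [CharP (Res M) p]

theorem brE_commute {x y : G} (hy : y ∈ cz x) {a : kG} (ha : Commute (single y 1) a) :
    Commute (single (⟨y, hy⟩ : cz x) 1) (brE x a) := by
  rw [commute_single_iff] at ha ⊢
  intro g
  rw [brE, coeff_br, coeff_br]
  exact ha g

theorem central_idem_mul {R : Type*} [Monoid R] {w : R} (hw : ∀ z, Commute w z) (he : w * w = w)
    (a s b t : R) : a * w * s * (b * w) * t * (a * w) = a * s * b * t * a * w := by
  have h : ∀ z t : R, z * w * t = z * t * w := fun z t => by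
    rw [mul_assoc, (hw t).eq, mul_assoc]
  rw [h a s, ← mul_assoc (a * s * w) b w, h (a * s) b, mul_assoc (a * s * b) w w, he, h (a * s * b) t,
    ← mul_assoc (a * s * b * t * w) a w, h (a * s * b * t) a, mul_assoc (a * s * b * t * a) w w, he]

/-- The piece of `i` in a block of `C(x)`. -/
noncomputable def piece (x : G) (i : kG) (ω : Blk (Res M) (cz x)) : kG :=
  tr x i * bext (cz x) ω

theorem piece_eq (x : G) (i : kG) (ω : Blk (Res M) (cz x)) :
    piece x i ω = ext (cz x) (brE x i * bidem ω) := by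
  rw [piece, tr, bext, map_mul]

theorem brE_piece (x : G) (i : kG) (ω : Blk (Res M) (cz x)) :
    brE x (piece x i ω) = brE x i * bidem ω := by
  rw [piece_eq, brE_ext]

theorem piece_idem {x : G} (hx : ∃ m, orderOf x = p ^ m) {i : kG} (hi : i * i = i)
    (hix : Commute (single x 1) i) (ω : Blk (Res M) (cz x)) :
    piece x i ω * piece x i ω = piece x i ω := by
  have hc : Commute (brE x i) (bidem ω) := Subalgebra.mem_center_iff.mp (bidem_mem ω) _
  have e : (brE x i * bidem ω) * (brE x i * bidem ω) = brE x i * bidem ω :=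
    IsIdempotentElem.mul_of_commute hc (by
      show brE x i * brE x i = brE x i
      rw [← brE_mul hx hix hix, hi]) (bidem_isIdem ω)
  rw [piece_eq, ← map_mul (ext (cz x)), e]

theorem commute_piece {x y : G} (hy : y ∈ cz x) {i : kG} (hiy : Commute (single y 1) i)
    (ω : Blk (Res M) (cz x)) : Commute (single y 1) (piece x i ω) := by
  rw [piece_eq]
  have h1 : Commute (single (⟨y, hy⟩ : cz x) 1) (brE x i) := brE_commute hy hiy
  have h2 : Commute (single (⟨y, hy⟩ : cz x) 1) (bidem ω) :=
    Subalgebra.mem_center_iff.mp (bidem_mem ω) _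
  have h3 := h1.mul_right h2
  have h4 := h3.map (ext (k := Res M) (cz x))
  rwa [ext_single] at h4

theorem commute_piece_pair {x y : G} (hxy : Commute x y) {i : kG} (hix : Commute (single x 1) i)
    (hiy : Commute (single y 1) i) (ω : Blk (Res M) (cz x)) :
    ∀ z ∈ ({x, y} : Set G), Commute (single z 1) (piece x i ω) := by
  rintro z (rfl | rfl)
  · exact commute_piece (mem_cz_self z) hix ω
  · exact commute_piece (mem_cz hxy) hiy ω

section Values

variable (hM : Cfsg.IsPModular p M) (χ : Cfsg.IrrCharacter G) {x y : G}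
  (hx : ∃ m, orderOf x = p ^ m) (hy : ¬ p ∣ orderOf y) (hxy : Commute x y)

/-- Conjugation over the local ring. -/
noncomputable def conjR (v : G) (f : RG) : RG := single v 1 * f * single v⁻¹ 1

theorem conjR_mul (v : G) (f g : RG) : conjR v f * conjR v g = conjR v (f * g) := by
  simp only [conjR, mul_assoc]
  rw [← mul_assoc (single v⁻¹ (1 : localRing M)) (single v 1), single_mul_single, inv_mul_cancel,
    mul_one, ← one_def, one_mul]

theorem red_conjR (v : G) (f : RG) : red (conjR v f) = conjA v (red f) := by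
  rw [conjR, map_mul, map_mul, red_single, red_single, map_one, single_conj]

theorem commute_conjR {v z : G} {f : RG} (h : Commute (single z 1) f) :
    Commute (single (v * z * v⁻¹) 1) (conjR v f) := by
  have e : (single (v * z * v⁻¹) 1 : RG) = conjR v (single z 1) := by
    rw [conjR, single_mul_single, single_mul_single, mul_one, mul_one]
  show _ = _
  rw [e, conjR_mul, conjR_mul, h.eq]

theorem lval_conjR (v h : G) (f : RG) : lval χ (v * h * v⁻¹) (conjR v f) = lval χ h f := by
  rw [lval, lval, conjR, map_mul (MonoidAlgebra.mapRingHom G (localRing M).subtype),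
    map_mul (MonoidAlgebra.mapRingHom G (localRing M).subtype), mapRingHom_single, mapRingHom_single,
    map_one,
    ← mul_assoc, ← mul_assoc, single_mul_single, inv_mul_cancel_right, mul_one, lin_mul_comm,
    ← mul_assoc, single_mul_single, inv_mul_cancel_left, mul_one]

include hM hx hy hxy in
theorem tval_conj (s : G) {e : kG} (he : e * e = e)
    (hec : ∀ z ∈ ({x, y} : Set G), Commute (single z 1) e) :
    tval χ (s * x * s⁻¹) (s * y * s⁻¹) (conjA s e) = tval χ x y e := by
  obtain ⟨f, hf, hfr, hfc⟩ := exists_lift (M := M) he {x, y} hec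
  have hconj : ∀ z ∈ ({x, y} : Set G), Commute (single (s * z * s⁻¹) 1) (conjA s e) := by
    intro z hz
    have := (hec z hz).map (conjA s)
    rwa [conjA, domCongr_single, MulAut.conj_apply] at this
  rw [tval_eq hM χ hx hy hxy he hec hf hfc (by rw [hfr]),
    tval_eq hM χ (e := conjA s e) (x := s * x * s⁻¹) (y := s * y * s⁻¹)
      (by obtain ⟨m, hm⟩ := hx; exact ⟨m, ((MulAut.conj s).orderOf_eq x).trans hm⟩)
      (by rwa [show orderOf (s * y * s⁻¹) = orderOf y from (MulAut.conj s).orderOf_eq y])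
      (hxy.map (MulAut.conj s).toMonoidHom) (by rw [← map_mul, he]) ?_ (f := conjR s f)
      (by rw [conjR_mul, hf]) ?_ (by rw [red_conjR, hfr]),
    ← lval_conjR χ s (x * y) f]
  · congr 1
    group
  · rintro z (rfl | rfl)
    · exact hconj x (by simp)
    · exact hconj y (by simp)
  · rintro z (rfl | rfl)
    · exact commute_conjR (hfc x (by simp))
    · exact commute_conjR (hfc y (by simp))

include hM hx hy hxy in
theorem tval_piece_add {i j : kG} (hi : i * i = i) (hj : j * j = j) (hij : i * j = 0)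
    (hji : j * i = 0) (hic : ∀ z ∈ ({x, y} : Set G), Commute (single z 1) i)
    (hjc : ∀ z ∈ ({x, y} : Set G), Commute (single z 1) j) (ω : Blk (Res M) (cz x)) :
    tval χ x y (piece x (i + j) ω) = tval χ x y (piece x i ω) + tval χ x y (piece x j ω) := by
  have hix := hic x (by simp)
  have hjx := hjc x (by simp)
  have hz : ∀ a b : kG, Commute (single x 1) a → Commute (single x 1) b → a * b = 0 →
      piece x a ω * piece x b ω = 0 := by
    intro a b ha hb hab
    have hc : Commute (brE x b) (bidem ω) := Subalgebra.mem_center_iff.mp (bidem_mem ω) _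
    rw [piece_eq, piece_eq, ← map_mul, mul_assoc, ← mul_assoc (bidem ω), ← hc.eq, ← mul_assoc,
      ← mul_assoc, ← brE_mul hx ha hb, hab]
    simp [brE, br_zero]
  have e : piece x (i + j) ω = piece x i ω + piece x j ω := by
    rw [piece_eq, piece_eq, piece_eq, brE_add, add_mul, map_add]
  rw [e]
  exact tval_add hM χ hx hy hxy (piece_idem hx hi hix ω) (piece_idem hx hj hjx ω)
    (hz i j hix hjx hij) (hz j i hjx hix hji) (commute_piece_pair hxy hix (hic y (by simp)) ω)
    (commute_piece_pair hxy hjx (hjc y (by simp)) ω)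

include hM hx hy hxy in
theorem tval_piece_congr {i j u v : kG} (hi : i * i = i) (hj : j * j = j)
    (hc : ∀ z ∈ ({x, y} : Set G), Commute (single z 1) i ∧ Commute (single z 1) j ∧
      Commute (single z 1) u ∧ Commute (single z 1) v)
    (h1 : i * u * j * v * i = i) (h2 : j * v * i * u * j = j) (ω : Blk (Res M) (cz x)) :
    tval χ x y (piece x i ω) = tval χ x y (piece x j ω) := by
  obtain ⟨cix, cjx, cux, cvx⟩ := hc x (by simp)
  obtain ⟨ciy, cjy, -, -⟩ := hc y (by simp)
  have key : ∀ a b s t : kG, Commute (single x 1) a → Commute (single x 1) b →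
      Commute (single x 1) s → Commute (single x 1) t → a * s * b * t * a = a →
      brE x (piece x a ω * s * piece x b ω * t * piece x a ω) = brE x (piece x a ω) := by
    intro a b s t ha hb hs ht h
    have hcp : ∀ c : kG, Commute (single x 1) c → Commute (single x 1) (piece x c ω) := fun c hc =>
      commute_piece (mem_cz_self x) hc ω
    have hw : ∀ z, Commute (bidem ω) z := fun z => (Subalgebra.mem_center_iff.mp (bidem_mem ω) z).symm
    rw [brE_mul hx ((((hcp a ha).mul_right hs).mul_right (hcp b hb)).mul_right ht) (hcp a ha),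
      brE_mul hx (((hcp a ha).mul_right hs).mul_right (hcp b hb)) ht,
      brE_mul hx ((hcp a ha).mul_right hs) (hcp b hb), brE_mul hx (hcp a ha) hs, brE_piece,
      brE_piece]
    conv_rhs => rw [← h]
    rw [brE_mul hx (((ha.mul_right hs).mul_right hb).mul_right ht) ha,
      brE_mul hx ((ha.mul_right hs).mul_right hb) ht, brE_mul hx (ha.mul_right hs) hb,
      brE_mul hx ha hs]
    exact central_idem_mul hw (bidem_isIdem ω).eq _ _ _ _
  refine tval_congr hM χ hx hy hxy (piece_idem hx hi cix ω) (piece_idem hx hj cjx ω)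
    (commute_piece_pair hxy cix ciy ω) (commute_piece_pair hxy cjx cjy ω)
    (fun z hz => (hc z hz).2.2) ?_ ?_
  · exact key i j u v cix cjx cux cvx h1
  · exact key j i v u cjx cix cvx cux h2

end Values

/-! ### The function of an idempotent -/

variable {P : Subgroup G} (c : Blk (Res M) (Subgroup.centralizer (P : Set G)))
  (hP : IsPGroup p P) (hab : ∀ x ∈ P, ∀ y ∈ P, x * y = y * x)

/-- The conjugate of the local block idempotent. -/
noncomputable def eb (r : P) (v : G) : kG :=
  conjA v (bext (cz (r : G)) (localBlk c hP hab r.2))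

open scoped Classical in
/-- The twisted function of an idempotent. -/
noncomputable def phi (R : Finset P) (θ : P → ℂ) (χ : Cfsg.IrrCharacter G) (i : kG) (x y : G) : ℂ :=
  ∑ r ∈ R, θ r * ((Nat.card (cz (r : G)) : ℂ)⁻¹ *
    ∑ v ∈ Finset.univ.filter (fun v : G => v * (r : G) * v⁻¹ = x),
      tval χ x y (tr x i * eb c hP hab r v))

theorem exists_blk {r : P} {v x : G} (e : v * (r : G) * v⁻¹ = x) :
    ∃ ω : Blk (Res M) (cz x),
      cPair v (⟨Subgroup.zpowers (r : G), localBlk c hP hab r.2⟩ : Idx (Res M) G) =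
        ⟨Subgroup.zpowers x, ω⟩ ∧
      ∀ i : kG, tr x i * eb c hP hab r v = piece x i ω := by
  set a : Idx (Res M) G := ⟨Subgroup.zpowers (r : G), localBlk c hP hab r.2⟩ with ha
  have h1 : (cPair v a).1 = Subgroup.zpowers x := by
    show (Subgroup.zpowers (r : G)).map (MulAut.conj v).toMonoidHom = Subgroup.zpowers x
    rw [MonoidHom.map_zpowers, ← e]
    rfl
  have h2 := bext_cPair v a
  obtain ⟨⟨Q, ω⟩, hb⟩ : ∃ b, cPair v a = b := ⟨_, rfl⟩
  obtain rfl : Q = Subgroup.zpowers x := (congrArg Sigma.fst hb).symm.trans h1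
  rw [hb] at h2
  exact ⟨ω, hb, fun i => congrArg (tr x i * ·) h2.symm⟩

variable {c} {R : Finset P} {θ : P → ℂ} {χ : Cfsg.IrrCharacter G}
  (hM : Cfsg.IsPModular p M) {x y : G} (hx : ∃ m, orderOf x = p ^ m) (hy : ¬ p ∣ orderOf y)
  (hxy : Commute x y)

theorem phi_congr {i : kG} {x' y' : G} {i' : kG} (hxe : x' = x) (hye : y' = y) (hie : i' = i) :
    phi c hP hab R θ χ i' x' y' = phi c hP hab R θ χ i x y := by rw [hxe, hye, hie]

theorem phi_eq_zero_of_brE {i : kG} (h : brE x i = 0) :
    phi c hP hab R θ χ i x y = 0 := by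
  classical
  refine Finset.sum_eq_zero fun r _ => ?_
  rw [Finset.sum_eq_zero fun v _ => ?_, mul_zero, mul_zero]
  rw [tr, h, map_zero, zero_mul, tval_zero]

theorem phi_zero : phi c hP hab R θ χ 0 x y = 0 :=
  phi_eq_zero_of_brE hP hab (br_zero _)

include hM hx hy hxy in
theorem phi_add {i j : kG} (hi : i * i = i) (hj : j * j = j) (hij : i * j = 0) (hji : j * i = 0)
    (hic : ∀ z ∈ ({x, y} : Set G), Commute (single z 1) i)
    (hjc : ∀ z ∈ ({x, y} : Set G), Commute (single z 1) j) :
    phi c hP hab R θ χ (i + j) x y = phi c hP hab R θ χ i x y + phi c hP hab R θ χ j x y := by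
  classical
  rw [phi, phi, phi, ← Finset.sum_add_distrib]
  refine Finset.sum_congr rfl fun r _ => ?_
  rw [← mul_add, ← mul_add, ← Finset.sum_add_distrib]
  refine congrArg _ (congrArg _ (Finset.sum_congr rfl fun v hv => ?_))
  obtain ⟨ω, -, hω⟩ := exists_blk c hP hab (Finset.mem_filter.mp hv).2
  rw [hω, hω, hω]
  exact tval_piece_add hM χ hx hy hxy hi hj hij hji hic hjc ω

include hM hx hy hxy in
theorem phi_sum (J : Finset kG) (hJ : ∀ j ∈ J, j * j = j)
    (horth : ∀ j ∈ J, ∀ l ∈ J, j ≠ l → j * l = 0)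
    (hc : ∀ j ∈ J, ∀ z ∈ ({x, y} : Set G), Commute (single z 1) j) :
    phi c hP hab R θ χ (∑ j ∈ J, j) x y = ∑ j ∈ J, phi c hP hab R θ χ j x y := by
  classical
  induction J using Finset.induction_on with
  | empty => rw [Finset.sum_empty, Finset.sum_empty, phi_zero]
  | insert a s ha ih =>
    have hs : ∀ j ∈ s, j ∈ insert a s := fun j hj => Finset.mem_insert_of_mem hj
    have haa := Finset.mem_insert_self a s
    have hsum : (∑ j ∈ s, j) * (∑ j ∈ s, j) = ∑ j ∈ s, j := by
      rw [Finset.sum_mul]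
      refine Finset.sum_congr rfl fun j hj => ?_
      rw [Finset.mul_sum, Finset.sum_eq_single j (fun l hl hne => horth j (hs j hj) l (hs l hl) hne.symm)
        (fun h => absurd hj h), hJ j (hs j hj)]
    rw [Finset.sum_insert ha, Finset.sum_insert ha,
      phi_add hP hab hM hx hy hxy (hJ a haa) hsum
        (by rw [Finset.mul_sum]
            exact Finset.sum_eq_zero fun j hj => horth a haa j (hs j hj) fun e => ha (e ▸ hj))
        (by rw [Finset.sum_mul]
            exact Finset.sum_eq_zero fun j hj => horth j (hs j hj) a haa fun e => ha (e ▸ hj))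
        (hc a haa) (fun z hz => Commute.sum_right _ _ _ fun j hj => hc j (hs j hj) z hz),
      ih (fun j hj => hJ j (hs j hj)) (fun j hj l hl => horth j (hs j hj) l (hs l hl))
        fun j hj => hc j (hs j hj)]

include hM hx hy hxy in
theorem phi_eqv {i j u v : kG} (hi : i * i = i) (hj : j * j = j)
    (hc : ∀ z ∈ ({x, y} : Set G), Commute (single z 1) i ∧ Commute (single z 1) j ∧
      Commute (single z 1) u ∧ Commute (single z 1) v)
    (h1 : i * u * j * v * i = i) (h2 : j * v * i * u * j = j) :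
    phi c hP hab R θ χ i x y = phi c hP hab R θ χ j x y := by
  classical
  refine Finset.sum_congr rfl fun r _ => congrArg _ (congrArg _ ?_)
  refine Finset.sum_congr rfl fun w hw => ?_
  obtain ⟨ω, -, hω⟩ := exists_blk c hP hab (Finset.mem_filter.mp hw).2
  rw [hω, hω]
  exact tval_piece_congr hM χ hx hy hxy hi hj hc h1 h2 ω

include hM hx hy hxy in
theorem phi_conj {i : kG} (hi : i * i = i)
    (hic : ∀ z ∈ ({x, y} : Set G), Commute (single z 1) i) (s : G) :
    phi c hP hab R θ χ (conjA s i) (s * x * s⁻¹) (s * y * s⁻¹) = phi c hP hab R θ χ i x y := by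
  classical
  refine Finset.sum_congr rfl fun r _ => congrArg _ (congrArg _ ?_)
  refine Finset.sum_equiv (Equiv.mulLeft s).symm (fun w => ?_) (fun w hw => ?_)
  · simp only [Finset.mem_filter, Finset.mem_univ, true_and, Equiv.mulLeft_symm, Equiv.coe_mulLeft]
    constructor
    · intro h
      calc s⁻¹ * w * (r : G) * (s⁻¹ * w)⁻¹ = s⁻¹ * (w * (r : G) * w⁻¹) * s := by group
        _ = x := by rw [h]; group
    · intro h
      calc w * (r : G) * w⁻¹ = s * (s⁻¹ * w * (r : G) * (s⁻¹ * w)⁻¹) * s⁻¹ := by group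
        _ = s * x * s⁻¹ := by rw [h]
  · simp only [Finset.mem_filter, Finset.mem_univ, true_and] at hw
    simp only [Equiv.mulLeft_symm, Equiv.coe_mulLeft]
    have e : s⁻¹ * w * (r : G) * (s⁻¹ * w)⁻¹ = x := by
      calc s⁻¹ * w * (r : G) * (s⁻¹ * w)⁻¹ = s⁻¹ * (w * (r : G) * w⁻¹) * s := by group
        _ = x := by rw [hw]; group
    obtain ⟨ω, -, hω⟩ := exists_blk c hP hab e
    have e2 : tr (s * x * s⁻¹) (conjA s i) * eb c hP hab r w = conjA s (piece x i ω) := by
      rw [tr_conj, ← hω i, map_mul, eb, eb, ← conjA_mul, mul_inv_cancel_left]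
    rw [e2, hω i]
    exact tval_conj hM χ hx hy hxy s (piece_idem hx hi (hic x (by simp)) ω)
      (commute_piece_pair hxy (hic x (by simp)) (hic y (by simp)) ω)

include hx in
/-- An idempotent outside the block has no part below the pair. -/
theorem phi_eq_zero_of_block {ψ : Blk (Res M) G} (hψ : PairOf p ψ (⟨P, c⟩ : Idx (Res M) G))
    {i : kG} (hix : Commute (single x 1) i) (h : i * bidem ψ = 0) :
    phi c hP hab R θ χ i x y = 0 := by
  classical
  refine Finset.sum_eq_zero fun r _ => ?_
  rw [Finset.sum_eq_zero fun v hv => ?_, mul_zero, mul_zero]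
  obtain ⟨ω, hω', hω⟩ := exists_blk c hP hab (Finset.mem_filter.mp hv).2
  have hpair : PairOf p ψ (⟨Subgroup.zpowers x, ω⟩ : Idx (Res M) G) := by
    rw [← hω']
    exact pairOf_cPair ((pairOf_iff_of_le hP (le_localBlk hP hab r.2) ψ).mpr hψ) v
  have hb := hpair.2
  rw [val_eq _ (isFixedBy_of_mem_center _ (bidem_mem ψ))] at hb
  set z : ZAlg (Res M) (cz x) :=
    ⟨br (Subgroup.zpowers x) (bidem ψ), br_mem_center (isFixedBy_of_mem_center _ (bidem_mem ψ))⟩
  have hzi : IsIdempotentElem z := Subtype.ext (br_isIdem hpair.1 (bidem_isIdem ψ)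
    (isFixedBy_of_mem_center _ (bidem_mem ψ)))
  have hz : br (Subgroup.zpowers x) (bidem ψ) * bidem ω = bidem ω :=
    congrArg Subtype.val (mul_idem_eq ω hzi hb)
  have h0 : brE x i * bidem ω = 0 := by
    rw [← hz, ← mul_assoc]
    show brE x i * brE x (bidem ψ) * bidem ω = 0
    rw [← brE_mul hx hix (Subalgebra.mem_center_iff.mp (bidem_mem ψ) _), h]
    simp [brE, br_zero]
  rw [hω, piece_eq, h0, map_zero, tval_zero]

include hM hx hy hxy in
/-- For the identity it is the twisted character. -/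
theorem starFun_eq : Sections.starFun p c hP hab R θ χ (x * y) = phi c hP hab R θ χ 1 x y := by
  classical
  refine Finset.sum_congr rfl fun r _ => congrArg _ ?_
  rw [Sections.secFun]
  congr 1
  rw [Finset.sum_filter]
  refine Finset.sum_congr rfl fun v _ => ?_
  obtain ⟨kr, hkr⟩ := IsPGroup.iff_orderOf.mp hP r
  have hr : ∃ m, orderOf (r : G) = p ^ m := ⟨kr, (Subgroup.orderOf_coe r).trans hkr⟩
  letI := Fintype.ofFinite (cz (r : G))
  by_cases e : v * (r : G) * v⁻¹ = x
  · rw [if_pos e]
    set s : G := (r : G)⁻¹ * (v⁻¹ * (x * y) * v) with hs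
    have hsy : s = v⁻¹ * y * v := by
      rw [hs, ← e]; group
    have hsm : s ∈ cz (r : G) := by
      rw [cz_conj_iff v (r : G) s, e, hsy]
      simpa [mul_assoc] using mem_cz hxy
    have hsreg : ¬ p ∣ orderOf s := by
      rw [hsy, show v⁻¹ * y * v = MulAut.conj v⁻¹ y by simp, (MulAut.conj v⁻¹).orderOf_eq y]
      exact hy
    rw [dif_pos hsm]
    set ω := localBlk c hP hab r.2
    have hbω : Cfsg.IsPBlock M (toSet ω) := isPBlock_toSet ω
    set f₀ : RG := extHom (localRing M) (cz (r : G)) (blockIdemR hbω).1 with hf₀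
    have hf₀i : f₀ * f₀ = f₀ := by
      rw [hf₀, ← map_mul (extHom (localRing M) (cz (r : G))), ← MulMemClass.coe_mul,
        Cfsg.Agent.Lib.Blocks.blockIdemR_mul_self hbω]
    have hred : red f₀ = bext (cz (r : G)) ω := by
      rw [bext, show bidem ω = ((idem (blk hbω) : ZAlg (Res M) _) : MonoidAlgebra (Res M) _) by
          rw [blk_toSet]; rfl, idem_eq_blockIdemBar hbω]
      exact map_extHom (residue M) (cz (r : G)) _
    have hcomm : ∀ z : G, z ∈ cz (r : G) → Commute (single z 1) f₀ := by
      intro z hz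
      have h1 : Commute (single (⟨z, hz⟩ : cz (r : G)) (1 : localRing M)) (blockIdemR hbω).1 :=
        Subalgebra.mem_center_iff.mp (blockIdemR hbω).2 _
      have h2 := h1.map (extHom (localRing M) (cz (r : G)))
      rwa [extHom_single] at h2
    have hxy' : ∀ z ∈ ({x, y} : Set G), Commute (single z 1) (conjR v f₀) := by
      have hzz : ∀ z : G, z ∈ cz x → Commute (single z 1) (conjR v f₀) := fun z hz => by
        have hz' : v⁻¹ * z * v ∈ cz (r : G) := by
          rw [cz_conj_iff v (r : G), e]; simpa [mul_assoc] using hz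
        have := commute_conjR (v := v) (hcomm _ hz')
        rwa [show v * (v⁻¹ * z * v) * v⁻¹ = z by group] at this
      rintro z (rfl | rfl)
      · exact hzz z (mem_cz_self z)
      · exact hzz z (mem_cz hxy)
    have hredc : red (conjR v f₀) = tr x 1 * eb c hP hab r v := by
      rw [tr_one, one_mul, red_conjR, hred]; rfl
    rw [tval_eq hM χ hx hy hxy (f := conjR v f₀)
      (by rw [← hredc, ← map_mul, conjR_mul, hf₀i])
      (fun z hz => hredc ▸ commute_red (hxy' z hz))
      (by rw [conjR_mul, hf₀i]) hxy' (by rw [hredc]),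
      show x * y = v * ((r : G) * s) * v⁻¹ by rw [hs]; group, lval_conjR]
    have hsect : Cfsg.IsClassFunction (cz (r : G)) (sect (r : G) (cz (r : G)) (χ : G → ℂ)) :=
      Cfsg.Agent.Lib.Blocks.SectionPart.isClassFunction_sect
        (fun w hw => commute_mem hw |>.symm)
        (Cfsg.Agent.Lib.Characters.Basic.isClassFunction_irr χ)
    have hval : ∀ z : MonoidAlgebra ℂ (cz (r : G)),
        lin (χ : G → ℂ) (single ((r : G) * s) 1 * extHom ℂ (cz (r : G)) z) =
          ∑ k : cz (r : G), z.coeff k * (χ : G → ℂ) ((r : G) * s * (k : G)) := by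
      intro z
      induction z using MonoidAlgebra.induction_linear with
      | zero => simp
      | add a b ha hb =>
        rw [map_add, mul_add, map_add, ha, hb, ← Finset.sum_add_distrib]
        exact Finset.sum_congr rfl fun k _ => by rw [coeff_add, Finsupp.add_apply, add_mul]
      | single a t =>
        rw [extHom_single, single_mul_single, one_mul, lin_single,
          Finset.sum_eq_single a (fun k _ hne => by simp [coeff_single, hne])
            (fun h => absurd (Finset.mem_univ a) h), coeff_single, Finsupp.single_eq_same]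
    rw [lval, hf₀, map_extHom (localRing M).subtype, hval,
      Cfsg.Agent.Lib.Blocks.Contrib.pRegularPart_apply, if_neg (by
        rw [← Subgroup.orderOf_coe]; exact hsreg),
      Cfsg.Agent.Lib.Blocks.BlockPart.blockPart_eq_sum _ hsect]
    refine Finset.sum_congr rfl fun k _ => ?_
    rw [Cfsg.Agent.Lib.Blocks.SectionPart.sect_apply, Subgroup.coe_mul]
    congr 1
    simp only [hs, mul_assoc]
  · rw [if_neg e]
    split_ifs with h
    · rw [Cfsg.Agent.Lib.Blocks.Contrib.pRegularPart_apply]
      split_ifs with hreg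
      · rfl
      exfalso
      apply e
      have hcs : Commute (r : G) ((r : G)⁻¹ * (v⁻¹ * (x * y) * v)) := (commute_mem h).symm
      have h1 := Cfsg.Agent.Lib.Blocks.SectionPart.isPPart_mul (p := p) hr
        (by rwa [← Subgroup.orderOf_coe] at hreg) hcs
      rw [mul_inv_cancel_left] at h1
      have h2 : Cfsg.IsPPart p (v⁻¹ * (x * y) * v) (v⁻¹ * x * v) :=
        ⟨v⁻¹ * y * v, by group, by
          have := hxy.map (MulAut.conj v⁻¹).toMonoidHom
          simpa [mul_assoc] using this, by
          obtain ⟨m, hm⟩ := hx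
          exact ⟨m, by rw [show v⁻¹ * x * v = MulAut.conj v⁻¹ x by simp,
            (MulAut.conj v⁻¹).orderOf_eq x, hm]⟩, by
          rw [show v⁻¹ * y * v = MulAut.conj v⁻¹ y by simp, (MulAut.conj v⁻¹).orderOf_eq y]
          exact hy⟩
      rw [Cfsg.Agent.Lib.BrauerMap.PrincipalSection.isPPart_unique (Fact.out : p.Prime) h1 h2]
      group
    · rfl

/-- The value when one block of `C(x)` carries the whole truncation and lies below a conjugate
of the pair. -/
theorem phi_eq_single (htop : Top p (⟨P, c⟩ : Idx (Res M) G))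
    (hR : Main.Reps (stab (⟨P, c⟩ : Idx (Res M) G)) P R)
    (hθ : ∀ t ∈ stab (⟨P, c⟩ : Idx (Res M) G), ∀ a b : P, t * (a : G) * t⁻¹ = b → θ b = θ a)
    {i : kG} {ω₀ : Blk (Res M) (cz x)} (hω₀ : brE x i * bidem ω₀ = brE x i)
    (hωne : ∀ ω, ω ≠ ω₀ → brE x i * bidem ω = 0) {g : G}
    (hg : Le p (cPair g (⟨Subgroup.zpowers x, ω₀⟩ : Idx (Res M) G)) ⟨P, c⟩)
    (hgx : g * x * g⁻¹ ∈ P) :
    phi c hP hab R θ χ i x y = θ ⟨g * x * g⁻¹, hgx⟩ * tval χ x y (tr x i) := by
  classical
  set a₀ : Idx (Res M) G := ⟨Subgroup.zpowers x, ω₀⟩ with ha₀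
  let aP : P → Idx (Res M) G := fun r => ⟨Subgroup.zpowers (r : G), localBlk c hP hab r.2⟩
  have hg1 : (cPair g a₀).1 = Subgroup.zpowers (g * x * g⁻¹) := by
    show (Subgroup.zpowers x).map (MulAut.conj g).toMonoidHom = _
    rw [MonoidHom.map_zpowers]; rfl
  set x' : P := ⟨g * x * g⁻¹, hgx⟩ with hx'
  have hg' : cPair g a₀ = aP x' := eq_of_le_of_le hP hg1 hg (le_localBlk hP hab x'.2)
  obtain ⟨r₀, hr₀, t, ht, het⟩ := hR.exists_conj x'
  have htr : cPair t (aP x') = aP r₀ := by
    refine eq_of_le_of_le hP ?_ ?_ (le_localBlk hP hab r₀.2)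
    · show (Subgroup.zpowers (x' : G)).map (MulAut.conj t).toMonoidHom = Subgroup.zpowers (r₀ : G)
      rw [MonoidHom.map_zpowers, ← het]; rfl
    · have := le_cPair t (le_localBlk (c := c) hP hab x'.2)
      rwa [mem_stab.mp ht] at this
  set v₀ : G := (t * g)⁻¹ with hv₀
  have hv₀a : cPair v₀ (aP r₀) = a₀ := by
    rw [← htr, ← hg', ← cPair_mul t g, ← cPair_mul, hv₀, inv_mul_cancel, cPair_one]
  have hv₀x : v₀ * (r₀ : G) * v₀⁻¹ = x := by
    rw [← het, hx', hv₀]
    show (t * g)⁻¹ * (t * (g * x * g⁻¹) * t⁻¹) * (t * g)⁻¹⁻¹ = x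
    group
  have hterm : ∀ r ∈ R, ∀ v : G, v * (r : G) * v⁻¹ = x →
      tval χ x y (tr x i * eb c hP hab r v) =
        if r = r₀ then tval χ x y (tr x i) else 0 := by
    intro r hr v hv
    obtain ⟨ω, hω', hω⟩ := exists_blk c hP hab hv
    rw [hω, piece_eq]
    by_cases hωe : ω = ω₀
    · subst hωe
      rw [hω₀]
      refine (if_pos ?_).symm
      have hgv : cPair (g * v) (aP r) = cPair g a₀ := by rw [cPair_mul]; exact congrArg _ hω'
      obtain ⟨z, hz, hzs⟩ := Cfsg.Agent.Lib.BrauerPairs.Abelian.exists_mul_mem_stab htop hab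
        (le_localBlk (c := c) hP hab r.2) (g := g * v) (by rw [hgv]; exact hg)
      refine hR.unique r hr r₀ hr₀ (t * (z * (g * v))) (mul_mem ht hzs) ?_
      have hgvr : g * v * (r : G) * (g * v)⁻¹ = g * x * g⁻¹ := by rw [← hv]; group
      have hzc : z * (g * x * g⁻¹) * z⁻¹ = g * x * g⁻¹ := by
        have hm : g * x * g⁻¹ ∈ (cPair (g * v) (aP r)).1 := by
          rw [hgv, hg1]; exact Subgroup.mem_zpowers _
        rw [← hz _ hm, mul_inv_cancel_right]
      rw [← het]
      show t * (z * (g * v)) * (r : G) * (t * (z * (g * v)))⁻¹ = t * (g * x * g⁻¹) * t⁻¹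
      calc t * (z * (g * v)) * (r : G) * (t * (z * (g * v)))⁻¹
          = t * (z * (g * v * (r : G) * (g * v)⁻¹) * z⁻¹) * t⁻¹ := by group
        _ = _ := by rw [hgvr, hzc]
    · rw [hωne ω hωe, map_zero, tval_zero]
      split_ifs with hrr
      · exfalso
        apply hωe
        subst hrr
        have hc0 : v₀⁻¹ * v ∈ Subgroup.centralizer ((aP r).1 : Set G) := by
          refine mem_cz (Commute.symm ?_)
          show v₀⁻¹ * v * (r : G) = (r : G) * (v₀⁻¹ * v)
          have h3 : v₀⁻¹ * (v * (r : G) * v⁻¹) * v₀ = (r : G) := by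
            rw [hv, ← hv₀x]; group
          calc v₀⁻¹ * v * (r : G) = v₀⁻¹ * (v * (r : G) * v⁻¹) * v₀ * (v₀⁻¹ * v) := by group
            _ = _ := by rw [h3]
        have h4 : cPair v (aP r) = a₀ := by
          rw [show v = v₀ * (v₀⁻¹ * v) by group, cPair_mul, cPair_of_mem_centralizer hc0, hv₀a]
        exact eq_of_heq (Sigma.mk.inj_iff.mp (hω'.symm.trans h4)).2
      · rfl
  rw [phi, Finset.sum_eq_single r₀]
  · rw [Finset.sum_congr rfl fun v hv => hterm r₀ hr₀ v (Finset.mem_filter.mp hv).2,
      Finset.sum_congr rfl fun v _ => if_pos rfl, Finset.sum_const, nsmul_eq_mul]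
    have hcard : (Finset.univ.filter fun v : G => v * (r₀ : G) * v⁻¹ = x).card =
        Nat.card (cz (r₀ : G)) := by
      rw [Nat.card_eq_fintype_card, ← Finset.card_univ]
      refine Finset.card_bij' (fun v hv => ⟨v₀⁻¹ * v, ?_⟩) (fun k _ => v₀ * (k : G)) ?_ ?_ ?_ ?_
      · refine mem_cz (Commute.symm ?_)
        have hv' := (Finset.mem_filter.mp hv).2
        show v₀⁻¹ * v * (r₀ : G) = (r₀ : G) * (v₀⁻¹ * v)
        have h3 : v₀⁻¹ * (v * (r₀ : G) * v⁻¹) * v₀ = (r₀ : G) := by
          rw [hv', ← hv₀x]; group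
        calc v₀⁻¹ * v * (r₀ : G) = v₀⁻¹ * (v * (r₀ : G) * v⁻¹) * v₀ * (v₀⁻¹ * v) := by group
          _ = _ := by rw [h3]
      · intros; exact Finset.mem_univ _
      · intro k _
        rw [Finset.mem_filter]
        refine ⟨Finset.mem_univ _, ?_⟩
        calc v₀ * (k : G) * (r₀ : G) * (v₀ * (k : G))⁻¹
            = v₀ * ((k : G) * (r₀ : G) * (k : G)⁻¹) * v₀⁻¹ := by group
          _ = x := by rw [(commute_mem k.2).eq, mul_inv_cancel_right, hv₀x]
      · intros; group
      · intro k _; apply Subtype.ext; show v₀⁻¹ * (v₀ * (k : G)) = k; group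
    have hne : (Nat.card (cz (r₀ : G)) : ℂ) ≠ 0 := Nat.cast_ne_zero.mpr Nat.card_pos.ne'
    rw [hcard, ← mul_assoc ((Nat.card (cz (r₀ : G)) : ℂ)⁻¹), inv_mul_cancel₀ hne, one_mul,
      hθ t ht x' r₀ het]
  · intro r hr hne
    rw [Finset.sum_eq_zero fun v hv => ?_, mul_zero, mul_zero]
    rw [hterm r hr v (Finset.mem_filter.mp hv).2, if_neg hne]
  · exact fun h => absurd hr₀ h

end Cfsg.Agent.Lib.Watanabe.Local
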