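import Cfsg.Agent.Lib.Watanabe.BlkIn
import Cfsg.Agent.Lib.Watanabe.Fixed
import Cfsg.Agent.Lib.Watanabe.Fibre
import Cfsg.Agent.Lib.BrauerPairs.Inertial

/-!
# A fixed element of an abelian defect group

For an element `u` of the abelian defect group fixed by the stabilizer of the maximal pair, the
block of `C(u)` below the pair has the same rank and the same number of characters, as soon as
twisting by fixed linear characters gives integers.
-/

set_option autoImplicit false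
set_option linter.style.haveILetI false
set_option linter.unusedSectionVars false

namespace Cfsg.Agent.Lib.Watanabe.Main

open MonoidAlgebra Cfsg.Agent.Lib.BrauerMap.Basic
open Cfsg.Agent.Lib.BrauerPairs Cfsg.Agent.Lib.BrauerPairs.Center
open Cfsg.Agent.Lib.BrauerPairs.Trunc Cfsg.Agent.Lib.BrauerPairs.Pairs
open Cfsg.Agent.Lib.BrauerPairs.Transport Cfsg.Agent.Lib.BrauerPairs.Maximal
open Cfsg.Agent.Lib.BrauerPairs.Bridge Cfsg.Agent.Lib.BrauerPairs.Local
open Cfsg.Agent.Lib.BrauerPairs.SubsectionCount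
open Cfsg.Agent.Lib.Watanabe.BlkIn Cfsg.Agent.Lib.Watanabe.Fibre

universe u

attribute [local instance] Ideal.Quotient.field

variable {M : Ideal Cfsg.AlgInt} [M.IsMaximal] {p : ℕ} [Fact p.Prime] [CharP (Res M) p]

section Reps

variable {G : Type u} [Group G]

/-- Representatives of all orbits of the stabilizer on `P`. -/
structure Reps (T P : Subgroup G) (R : Finset P) : Prop where
  exists_conj : ∀ x : P, ∃ r ∈ R, ∃ t ∈ T, t * (x : G) * t⁻¹ = r
  unique : ∀ r ∈ R, ∀ s ∈ R, ∀ t ∈ T, t * (r : G) * t⁻¹ = s → r = s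

theorem Reps.mem_of_fixed {T P : Subgroup G} {R : Finset P} (hR : Reps T P R) {x : P}
    (hx : ∀ t ∈ T, t * (x : G) * t⁻¹ = x) : x ∈ R := by
  obtain ⟨r, hr, t, ht, e⟩ := hR.exists_conj x
  rw [hx t ht] at e
  rwa [Subtype.ext e]

include p in
/-- Some representatives. -/
theorem exists_reps [Finite G] (a : Idx (Res M) G) : ∃ R : Finset a.1, Reps (stab a) a.1 R := by
  classical
  haveI := Fintype.ofFinite a.1
  obtain ⟨R, hR⟩ := exists_orbitReps (p := p) a
  refine ⟨Finset.univ.filter fun x : a.1 => (x : G) = 1 ∨ (x : G) ∈ R, ⟨fun x => ?_, ?_⟩⟩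
  · by_cases h1 : (x : G) = 1
    · exact ⟨x, Finset.mem_filter.mpr ⟨Finset.mem_univ _, Or.inl h1⟩, 1, one_mem _, by simp⟩
    · obtain ⟨r, hr, t, ht, e⟩ := hR.exists_conj x x.2 h1
      exact ⟨⟨r, hR.mem r hr⟩, by simp [hr], t, ht, e⟩
  · intro r hr s hs t ht e
    simp only [Finset.mem_filter, Finset.mem_univ, true_and] at hr hs
    rcases hr with hr | hr
    · rw [hr, mul_one, mul_inv_cancel] at e
      exact Subtype.ext (hr.trans e)
    · rcases hs with hs | hs
      · rw [hs, conj_eq_one_iff] at e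
        exact Subtype.ext (e.trans hs.symm)
      · exact Subtype.ext (hR.unique _ hr _ hs t ht e)

end Reps

/-- Twisting by fixed linear characters gives integers, in every group. -/
def StarHyp (p : ℕ) [Fact p.Prime] (M : Ideal Cfsg.AlgInt) [M.IsMaximal] [CharP (Res M) p] :
    Prop :=
  ∀ (G : Type u) [Group G] [Fintype G] (P : Subgroup G)
    (c : Blk (Res M) (Subgroup.centralizer (P : Set G))) (ψ : Blk (Res M) G)
    (htop : Top p (⟨P, c⟩ : Idx (Res M) G)) (_ : PairOf p ψ (⟨P, c⟩ : Idx (Res M) G))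
    (hab : ∀ x ∈ P, ∀ y ∈ P, x * y = y * x) (R : Finset P),
    Reps (stab (⟨P, c⟩ : Idx (Res M) G)) P R → Star p ψ c htop.1 hab R

variable {G : Type u} [Group G] [Fintype G]

local notation "C[" P "]" => Subgroup.centralizer ((P : Subgroup G) : Set G)
local notation "Cz" x:max => Subgroup.centralizer ((Subgroup.zpowers (x : G)) : Set G)

theorem mem_cz_iff {u x : G} : x ∈ Cz u ↔ x * u = u * x := by
  rw [Cfsg.Agent.Lib.BrauerMap.SecondMain.mem_centralizer_zpowers_iff]
  rfl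

variable {P : Subgroup G} {c : Blk (Res M) (Subgroup.centralizer (P : Set G))}

/-- The rank at `r` below the pair. -/
noncomputable def lr (c : Blk (Res M) (Subgroup.centralizer (P : Set G))) (hP : IsPGroup p P)
    (hab : ∀ x ∈ P, ∀ y ∈ P, x * y = y * x) (r : P) : ℕ :=
  Cfsg.blockRank p (toSet (localBlk c hP hab r.2))

theorem lr_conj (hP : IsPGroup p P) (hab : ∀ x ∈ P, ∀ y ∈ P, x * y = y * x) {t : G}
    (ht : t ∈ stab (⟨P, c⟩ : Idx (Res M) G)) {r s : P} (e : t * (r : G) * t⁻¹ = s) :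
    lr c hP hab r = lr c hP hab s := by
  have h := le_cPair t (le_localBlk (c := c) hP hab r.2)
  rw [mem_stab.mp ht] at h
  have h1 : cPair t (⟨Subgroup.zpowers (r : G), localBlk c hP hab r.2⟩ : Idx (Res M) G) =
      ⟨Subgroup.zpowers (s : G), localBlk c hP hab s.2⟩ := by
    refine Fusion.eq_of_le_of_le hP ?_ h (le_localBlk hP hab s.2)
    show (Subgroup.zpowers (r : G)).map (MulAut.conj t).toMonoidHom = Subgroup.zpowers (s : G)
    rw [MonoidHom.map_zpowers, ← e]
    rfl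
  have h2 := blockRank_cPair (p := p) t
    (⟨Subgroup.zpowers (r : G), localBlk c hP hab r.2⟩ : Idx (Res M) G)
  rw [h1] at h2
  exact h2.symm

/-- The count over all orbits. -/
theorem card_eq_reps (hM : Cfsg.IsPModular p M) {ψ : Blk (Res M) G}
    (htop : Top p (⟨P, c⟩ : Idx (Res M) G)) (hψ : PairOf p ψ (⟨P, c⟩ : Idx (Res M) G))
    (hab : ∀ x ∈ P, ∀ y ∈ P, x * y = y * x) {R : Finset P}
    (hR : Reps (stab (⟨P, c⟩ : Idx (Res M) G)) P R) :
    Nat.card (toSet ψ) = ∑ r ∈ R, lr c htop.1 hab r := by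
  classical
  have h1R : (1 : P) ∈ R := hR.mem_of_fixed fun t _ => by simp
  have hR' : OrbitReps p (⟨P, c⟩ : Idx (Res M) G) ((R.erase 1).image Subtype.val) := by
    refine ⟨fun r hr => ?_, fun r hr => ?_, fun v hv hv1 => ?_, fun r hr s hs t ht e => ?_⟩
    · obtain ⟨x, -, rfl⟩ := Finset.mem_image.mp hr
      exact x.2
    · obtain ⟨x, hx, rfl⟩ := Finset.mem_image.mp hr
      exact fun e => (Finset.mem_erase.mp hx).1 (Subtype.ext e)
    · obtain ⟨r, hr, t, ht, e⟩ := hR.exists_conj ⟨v, hv⟩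
      refine ⟨r, Finset.mem_image.mpr ⟨r, Finset.mem_erase.mpr ⟨fun h => hv1 ?_, hr⟩, rfl⟩, t,
        ht, e⟩
      rw [h, OneMemClass.coe_one, conj_eq_one_iff] at e
      exact e
    · obtain ⟨x, hx, rfl⟩ := Finset.mem_image.mp hr
      obtain ⟨y, hy, rfl⟩ := Finset.mem_image.mp hs
      exact congrArg Subtype.val
        (hR.unique x (Finset.mem_of_mem_erase hx) y (Finset.mem_of_mem_erase hy) t ht e)
  rw [card_eq hM htop hψ hab hR', ← Finset.add_sum_erase R (lr c htop.1 hab) h1R]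
  congr 1
  · show _ = Cfsg.blockRank p (toSet (localBlk c htop.1 hab _))
    rw [localBlk_eq, blockRank_blkIn_top htop.1 _ _ hψ]
    rw [eq_top_iff]
    intro g _
    rw [mem_cz_iff]
    simp
  · rw [← Finset.sum_attach (R.erase 1) (lr c htop.1 hab)]
    symm
    refine Finset.sum_bij (fun x _ => (⟨(x.1 : G), Finset.mem_image.mpr ⟨x.1, x.2, rfl⟩⟩ :
      {r // r ∈ (R.erase 1).image Subtype.val})) (fun _ _ => Finset.mem_attach _ _)
      (fun x _ y _ e => Subtype.ext (Subtype.ext (congrArg (fun z : {r // r ∈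
        (R.erase 1).image Subtype.val} => (z : G)) e))) (fun z _ => ?_) (fun x _ => rfl)
    obtain ⟨x, hx, e⟩ := Finset.mem_image.mp z.2
    exact ⟨⟨x, hx⟩, Finset.mem_attach _ _, Subtype.ext e⟩

/-- The statement about ranks in one group. -/
def Good (p : ℕ) [Fact p.Prime] (M : Ideal Cfsg.AlgInt) [M.IsMaximal] [CharP (Res M) p]
    (G : Type u) [Group G] [Fintype G] : Prop :=
  ∀ (P : Subgroup G) (c : Blk (Res M) (Subgroup.centralizer (P : Set G))) (ψ : Blk (Res M) G)
    (htop : Top p (⟨P, c⟩ : Idx (Res M) G)), PairOf p ψ (⟨P, c⟩ : Idx (Res M) G) →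
    ∀ (hab : ∀ x ∈ P, ∀ y ∈ P, x * y = y * x) (u : P),
      (∀ t ∈ stab (⟨P, c⟩ : Idx (Res M) G), t * (u : G) * t⁻¹ = u) →
      Cfsg.blockRank p (toSet (localBlk c htop.1 hab u.2)) = Cfsg.blockRank p (toSet ψ)

/-- The rank at `a` is the rank in the common centralizer, given the statement in `C(a)`. -/
theorem lr_eq_inf (hgood : ∀ a : P, Cz (a : G) ≠ ⊤ → ∀ [Fintype (Cz (a : G))], Good p M (Cz (a : G)))
    {ψ : Blk (Res M) G} (htop : Top p (⟨P, c⟩ : Idx (Res M) G))
    (hψ : PairOf p ψ (⟨P, c⟩ : Idx (Res M) G)) (hab : ∀ x ∈ P, ∀ y ∈ P, x * y = y * x) {u : P}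
    (hu : ∀ t ∈ stab (⟨P, c⟩ : Idx (Res M) G), t * (u : G) * t⁻¹ = u) (a : P)
    (ha : Cz (a : G) ≠ ⊤) (hPL : P ≤ Cz (a : G) ⊓ Cz (u : G))
    (hCL : C[P] ≤ Cz (a : G) ⊓ Cz (u : G)) :
    lr c htop.1 hab a = Cfsg.blockRank p (toSet (blkIn c htop.1 hPL hCL)) := by
  haveI := Fintype.ofFinite (Cz (a : G))
  set K := Cz (a : G) with hK
  have hPK : P ≤ K := hPL.trans inf_le_left
  have hCK : C[P] ≤ K := hCL.trans inf_le_left
  have hab' : ∀ x ∈ P.subgroupOf K, ∀ y ∈ P.subgroupOf K, x * y = y * x :=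
    fun x hx y hy => Subtype.ext (hab _ hx _ hy)
  have htop' := top_pairIn hPK hCK htop
  let u' : P.subgroupOf K := ⟨⟨u, hPK u.2⟩, u.2⟩
  have h := hgood a ha (P.subgroupOf K) _ _ htop' (pairOf_blkIn htop.1 hPK hCK) hab' u'
    (fun t ht => Subtype.ext (hu t ((mem_stab_pairIn_iff hPK hCK t).mp ht)))
  refine Eq.trans ?_ (h.symm.trans ?_)
  · exact congrArg (fun ω => Cfsg.blockRank p (toSet ω)) (localBlk_eq htop.1 hab a.2)
  · rw [localBlk_eq]
    refine blockRank_blkIn_sub htop.1 hPL hCL hPK hCK _ inf_le_left (fun x => ?_) _ _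
    show x ∈ Subgroup.centralizer ((Subgroup.zpowers (u' : K)) : Set K) ↔ _
    rw [Cfsg.Agent.Lib.BrauerMap.SecondMain.mem_centralizer_zpowers_iff, Subgroup.mem_inf,
      mem_cz_iff (u := (u : G))]
    exact ⟨fun e => ⟨x.2, congrArg Subtype.val (e : x * (u' : K) = (u' : K) * x)⟩,
      fun e => Subtype.ext e.2⟩

theorem good_step (hM : Cfsg.IsPModular p M) (hstar : StarHyp.{u} p M)
    (ih : ∀ H : Subgroup G, H ≠ ⊤ → ∀ [Fintype H], Good p M H) : Good p M G := by
  classical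
  intro P c ψ htop hψ hab u hu
  have hgood : ∀ a : P, Cz (a : G) ≠ ⊤ → ∀ [Fintype (Cz (a : G))], Good p M (Cz (a : G)) :=
    fun a ha => ih _ ha
  have hPcz : ∀ r : P, P ≤ Cz (r : G) := fun r => le_centralizer_zpowers hab r.2
  have hCcz : ∀ r : P, C[P] ≤ Cz (r : G) := fun r => centralizer_anti (Subgroup.zpowers_le.mpr r.2)
  by_cases hutop : Cz (u : G) = ⊤
  · rw [localBlk_eq]
    exact blockRank_blkIn_top htop.1 _ _ hψ hutop
  obtain ⟨R, hR⟩ := exists_reps (p := p) (⟨P, c⟩ : Idx (Res M) G)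
  obtain ⟨π, -, hπ, hfix⟩ := Fixed.exists_proj (p := p) htop.1 hab (stab_le_normalizer _)
    (fun t ht ⟨k, hk⟩ => by
      have h1 := Inertial.mem_sup_of_top htop (stab_le_normalizer _ ht)
        (IsPGroup.of_card (n := k) (by rw [Nat.card_zpowers, hk])) (mem_stab_iff.mp ht).2
      rw [sup_eq_right.mpr fun x hx q hq => hab q hq x hx] at h1
      exact h1)
  have hone : ∀ t ∈ stab (⟨P, c⟩ : Idx (Res M) G), t * ((1 : P) : G) * t⁻¹ = (1 : P) :=
    fun t _ => by simp
  have h1R := hR.mem_of_fixed hone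
  have huR := hR.mem_of_fixed hu
  have hπu : π u = u := hfix u hu
  have hfib := fibre_eq hM htop hψ hab (hstar G P c ψ htop hψ hab R hR) π hπ h1R huR
  rw [map_one π, hπu] at hfib
  set f₁ := R.filter fun r => π r = 1 with hf₁
  set f₂ := R.filter fun r => π r = u with hf₂
  have m1 : (1 : P) ∈ f₁ := Finset.mem_filter.mpr ⟨h1R, map_one π⟩
  have m2 : u ∈ f₂ := Finset.mem_filter.mpr ⟨huR, hπu⟩
  change ∑ r ∈ f₁, lr c htop.1 hab r = ∑ r ∈ f₂, lr c htop.1 hab r at hfib
  rw [← Finset.add_sum_erase f₁ _ m1, ← Finset.add_sum_erase f₂ _ m2] at hfib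
  -- representatives of translates
  choose rep hrep t ht hte using hR.exists_conj
  have hconj : ∀ (s : G), s ∈ stab (⟨P, c⟩ : Idx (Res M) G) → ∀ x y : P,
      s * (x : G) * s⁻¹ = y → s * ((u * x : P) : G) * s⁻¹ = (u * y : P) := by
    intro s hs x y e
    simp only [Subgroup.coe_mul]
    rw [← e, show s * ((u : G) * (x : G)) * s⁻¹ = (s * (u : G) * s⁻¹) * (s * (x : G) * s⁻¹) by group,
      hu s hs]
  have hne : ∀ r ∈ f₁.erase 1, Cz (r : G) ≠ ⊤ ∧ Cz ((u * r : P) : G) ≠ ⊤ := by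
    intro r hr
    obtain ⟨hr1, hrf⟩ := Finset.mem_erase.mp hr
    have hπr := (Finset.mem_filter.mp hrf).2
    have key : ∀ a : P, Cz (a : G) = ⊤ → π a = a := fun a ha => hfix a fun s _ => by
      have h2 : s ∈ Cz (a : G) := ha ▸ Subgroup.mem_top s
      rw [mem_cz_iff] at h2
      rw [h2, mul_inv_cancel_right]
    refine ⟨fun e => hr1 ?_, fun e => hr1 ?_⟩
    · rw [← key r e, hπr]
    · have h2 := key _ e
      rw [map_mul, hπr, hπu, mul_one] at h2
      exact (mul_eq_left.mp h2.symm)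
  have hval : ∀ r ∈ f₁.erase 1, lr c htop.1 hab (u * r) = lr c htop.1 hab r := by
    intro r hr
    obtain ⟨n1, n2⟩ := hne r hr
    rw [lr_eq_inf hgood htop hψ hab hu r n1 (le_inf (hPcz r) (hPcz u)) (le_inf (hCcz r) (hCcz u)),
      lr_eq_inf hgood htop hψ hab hu (u * r) n2 (le_inf (hPcz _) (hPcz u))
        (le_inf (hCcz _) (hCcz u))]
    refine blockRank_blkIn_congr htop.1 _ _ _ _ ?_
    ext g
    simp only [Subgroup.mem_inf, mem_cz_iff, Subgroup.coe_mul]
    refine and_congr_left fun hgu => ⟨fun h => mul_left_cancel (a := (u : G)) ?_, fun h => ?_⟩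
    · rw [← mul_assoc, ← hgu, mul_assoc, h, mul_assoc]
    · rw [← mul_assoc, hgu, mul_assoc, h, ← mul_assoc]
  have hsum : ∑ r ∈ f₁.erase 1, lr c htop.1 hab r = ∑ r ∈ f₂.erase u, lr c htop.1 hab r := by
    refine Finset.sum_bij (fun r _ => rep (u * r)) (fun r hr => ?_) (fun r hr s hs e => ?_)
      (fun s hs => ?_) (fun r hr => ?_)
    · obtain ⟨hr1, hrf⟩ := Finset.mem_erase.mp hr
      refine Finset.mem_erase.mpr ⟨fun e => hr1 ?_, Finset.mem_filter.mpr ⟨hrep _, ?_⟩⟩
      · have e1 := hte (u * r)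
        rw [e] at e1
        have e2 := hu (t (u * r)) (ht _)
        have e3 : ((u * r : P) : G) = (u : G) :=
          mul_left_cancel (mul_right_cancel (e1.trans e2.symm))
        exact mul_eq_left.mp (Subtype.ext e3)
      · rw [hπ _ (ht _) (u * r) _ (hte _), map_mul, (Finset.mem_filter.mp hrf).2, hπu, mul_one]
    · have e1 := hte (u * r)
      have e2 := hte (u * s)
      simp only at e
      rw [e, ← e2] at e1
      have hs' : (t (u * s))⁻¹ * t (u * r) ∈ stab (⟨P, c⟩ : Idx (Res M) G) :=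
        mul_mem (inv_mem (ht _)) (ht _)
      refine hR.unique r (Finset.mem_filter.mp (Finset.mem_erase.mp hr).2).1 s
        (Finset.mem_filter.mp (Finset.mem_erase.mp hs).2).1 _ hs' (mul_left_cancel (a := (u : G)) ?_)
      conv_lhs => rw [← hu _ hs']
      have e3 : ((t (u * s))⁻¹ * t (u * r)) * ((u * r : P) : G) * ((t (u * s))⁻¹ * t (u * r))⁻¹ =
          ((u * s : P) : G) := by
        calc _ = (t (u * s))⁻¹ * (t (u * r) * ((u * r : P) : G) * (t (u * r))⁻¹) * t (u * s) := by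
              group
          _ = _ := by rw [e1]; group
      simp only [Subgroup.coe_mul] at e3
      rw [← e3]
      group
    · obtain ⟨hs1, hsf⟩ := Finset.mem_erase.mp hs
      obtain ⟨hsR, hπs⟩ := Finset.mem_filter.mp hsf
      set x := u⁻¹ * s with hx
      have hux : u * x = s := mul_inv_cancel_left u s
      refine ⟨rep x, Finset.mem_erase.mpr ⟨fun e => hs1 ?_,
        Finset.mem_filter.mpr ⟨hrep _, ?_⟩⟩, ?_⟩
      · have e1 := hte x
        rw [e, OneMemClass.coe_one, conj_eq_one_iff] at e1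
        rw [← hux, show x = 1 from Subtype.ext e1, mul_one]
      · rw [hπ _ (ht _) x _ (hte _), hx, map_mul, map_inv, hπs, hπu, inv_mul_cancel]
      · have e1 := hconj _ (ht x) x (rep x) (hte x)
        rw [hux] at e1
        have e2 := hte (u * rep x)
        rw [← e1] at e2
        symm
        refine hR.unique s hsR (rep (u * rep x)) (hrep _) (t (u * rep x) * t x)
          (mul_mem (ht _) (ht _)) ?_
        rw [← e2]
        group
    · rw [← hval r hr]
      exact lr_conj htop.1 hab (ht _) (hte _)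
  rw [hsum] at hfib
  have hfib' : lr c htop.1 hab 1 = lr c htop.1 hab u := Nat.add_right_cancel hfib
  refine (hfib'.symm : lr c htop.1 hab u = lr c htop.1 hab 1).trans ?_
  show Cfsg.blockRank p (toSet (localBlk c htop.1 hab _)) = _
  rw [localBlk_eq]
  refine blockRank_blkIn_top htop.1 _ _ hψ ?_
  rw [eq_top_iff]
  intro g _
  rw [mem_cz_iff]
  simp

/-- The equality of ranks in every group. -/
theorem good (hM : Cfsg.IsPModular p M) (hstar : StarHyp.{u} p M) : Good p M G := by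
  suffices h : ∀ (n : ℕ) (H : Type u) [Group H] [Fintype H], Nat.card H = n → Good p M H from
    h _ G rfl
  intro n
  induction n using Nat.strong_induction_on with
  | _ n ih =>
    intro H _ _ hn
    refine good_step hM hstar fun K hK => ?_
    intro _
    refine ih (Nat.card K) ?_ K rfl
    rw [← hn]
    exact lt_of_le_of_ne (Subgroup.card_le_card_group K) fun e =>
      hK (Subgroup.eq_top_of_card_eq K e)

/-- **The equalities**: the rank and the number of characters of the block of `C(u)`. -/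
theorem main (hM : Cfsg.IsPModular p M) (hstar : StarHyp.{u} p M) {ψ : Blk (Res M) G}
    (htop : Top p (⟨P, c⟩ : Idx (Res M) G)) (hψ : PairOf p ψ (⟨P, c⟩ : Idx (Res M) G))
    (hab : ∀ x ∈ P, ∀ y ∈ P, x * y = y * x) (u : P)
    (hu : ∀ t ∈ stab (⟨P, c⟩ : Idx (Res M) G), t * (u : G) * t⁻¹ = u) :
    Cfsg.blockRank p (toSet (localBlk c htop.1 hab u.2)) = Cfsg.blockRank p (toSet ψ) ∧
      Nat.card (toSet (localBlk c htop.1 hab u.2)) = Nat.card (toSet ψ) := by
  classical
  haveI := Fintype.ofFinite (Cz (u : G))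
  have hrank := good hM hstar P c ψ htop hψ hab u hu
  refine ⟨hrank, ?_⟩
  have hPL := le_centralizer_zpowers hab u.2
  have hCL : C[P] ≤ Cz (u : G) := centralizer_anti (Subgroup.zpowers_le.mpr u.2)
  have hab' : ∀ x ∈ P.subgroupOf (Cz (u : G)), ∀ y ∈ P.subgroupOf (Cz (u : G)), x * y = y * x :=
    fun x hx y hy => Subtype.ext (hab _ hx _ hy)
  obtain ⟨R, hR⟩ := exists_reps (p := p) (⟨P, c⟩ : Idx (Res M) G)
  have hTL : ∀ t ∈ stab (⟨P, c⟩ : Idx (Res M) G), t ∈ Cz (u : G) := fun t ht => by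
    rw [mem_cz_iff]
    exact mul_inv_eq_iff_eq_mul.mp (hu t ht)
  let e : P ≃ P.subgroupOf (Cz (u : G)) :=
    (Subgroup.subgroupOfEquivOfLe hPL).symm.toEquiv
  have he : ∀ x : P, (((e x : P.subgroupOf (Cz (u : G))) : Cz (u : G)) : G) = x := fun _ => rfl
  have hR' : Reps (stab (pairIn c hPL hCL)) (pairIn c hPL hCL).1 (R.image e) := by
    refine ⟨fun x => ?_, ?_⟩
    · obtain ⟨r, hr, t, ht, hte⟩ := hR.exists_conj (e.symm x)
      exact ⟨e r, Finset.mem_image_of_mem _ hr, ⟨t, hTL t ht⟩,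
        (mem_stab_pairIn_iff hPL hCL _).mpr ht, Subtype.ext hte⟩
    · intro r hr s hs t ht hte
      obtain ⟨r', hr', rfl⟩ := Finset.mem_image.mp hr
      obtain ⟨s', hs', rfl⟩ := Finset.mem_image.mp hs
      rw [hR.unique r' hr' s' hs' t ((mem_stab_pairIn_iff hPL hCL t).mp ht)
        (congrArg Subtype.val hte)]
  rw [card_eq_reps hM htop hψ hab hR, localBlk_eq,
    card_eq_reps hM (top_pairIn hPL hCL htop) (pairOf_blkIn htop.1 hPL hCL) hab' hR',
    Finset.sum_image fun x _ y _ h => e.injective h]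
  refine Finset.sum_congr rfl fun r _ => ?_
  have hPi : P ≤ Cz (r : G) ⊓ Cz (u : G) := le_inf (le_centralizer_zpowers hab r.2) hPL
  have hCi : C[P] ≤ Cz (r : G) ⊓ Cz (u : G) :=
    le_inf (centralizer_anti (Subgroup.zpowers_le.mpr r.2)) hCL
  have h1 : lr (pairIn c hPL hCL).2 (top_pairIn hPL hCL htop).1 hab' (e r) =
      Cfsg.blockRank p (toSet (blkIn c htop.1 hPi hCi)) := by
    rw [lr, localBlk_eq]
    refine blockRank_blkIn_sub htop.1 hPi hCi hPL hCL _ inf_le_right (fun x => ?_) _ _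
    show x ∈ Subgroup.centralizer ((Subgroup.zpowers ((e r : P.subgroupOf (Cz (u : G))) :
      Cz (u : G))) : Set (Cz (u : G))) ↔ _
    rw [Cfsg.Agent.Lib.BrauerMap.SecondMain.mem_centralizer_zpowers_iff, Subgroup.mem_inf,
      mem_cz_iff (u := (r : G))]
    exact ⟨fun h => ⟨congrArg Subtype.val (h : x * _ = _ * x), x.2⟩, fun h => Subtype.ext h.1⟩
  rw [h1]
  by_cases hr : Cz (r : G) = ⊤
  · rw [blockRank_blkIn_congr htop.1 hPi hCi hPL hCL (by rw [hr, top_inf_eq]), lr, localBlk_eq,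
      blockRank_blkIn_top htop.1 _ _ hψ hr, ← hrank, localBlk_eq]
  · exact (lr_eq_inf (fun a _ => good hM hstar) htop hψ hab hu r hr hPi hCi).symm

end Cfsg.Agent.Lib.Watanabe.Main
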