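import Cfsg.Agent.Lib.Watanabe.Main

/-!
# The twisted class function and its pairing with a character

For an element `r` of `p`-power order and a block `b` of `C(r)`, `secFun` is the class function
carried by the section of `r` with values the `b`-parts of `s ↦ χ(rs)`.  Its inner product with
`χ` is the contribution of the subsection.
-/

set_option autoImplicit false
set_option linter.style.haveILetI false
set_option linter.unusedSectionVars false

namespace Cfsg.Agent.Lib.Watanabe.Sections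

open scoped ComplexConjugate
open Cfsg.Agent.Lib.BrauerPairs.Center Cfsg.Agent.Lib.BrauerPairs.Pairs
open Cfsg.Agent.Lib.BrauerPairs.Maximal Cfsg.Agent.Lib.BrauerPairs.Bridge
open Cfsg.Agent.Lib.BrauerPairs.Local Cfsg.Agent.Lib.BrauerPairs.RankAbelian
open Cfsg.Agent.Lib.BrauerPairs.SubsectionCount
open Cfsg.Agent.Lib.Characters.Basic Cfsg.Agent.Lib.Blocks Cfsg.Agent.Lib.Induced.Basic
open Cfsg.Agent.Lib.Blocks.Contrib (bset mem_bset primeToCard natCast_card_eq primeToCard_pos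
  minVdeg minVdeg_add_blockDefect)
open Cfsg.Agent.Lib.Blocks.BlockPart Cfsg.Agent.Lib.Blocks.SectionPart
open Cfsg.Agent.Lib.Blocks.SectionMatrix Cfsg.Agent.Lib.Blocks.SectionHeight

universe u

attribute [local instance] Ideal.Quotient.field

variable {G : Type u} [Group G] [Fintype G] {p : ℕ} [Fact p.Prime] {M : Ideal Cfsg.AlgInt}
  [M.IsMaximal]

open scoped Classical in
/-- The class function on the section of `r` from the `b`-part of `s ↦ χ (r s)`. -/
noncomputable def secFun (p : ℕ) (r : G) (b : Set (Cfsg.IrrCharacter (cz r)))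
    (χ : Cfsg.IrrCharacter G) (g : G) : ℂ :=
  (Nat.card (cz r) : ℂ)⁻¹ * ∑ v : G,
    if h : r⁻¹ * (v⁻¹ * g * v) ∈ cz r then
      Cfsg.pRegularPart p (Cfsg.blockPart b (sect r (cz r) (χ : G → ℂ))) ⟨_, h⟩
    else 0

theorem isClassFunction_secFun (r : G) (b : Set (Cfsg.IrrCharacter (cz r)))
    (χ : Cfsg.IrrCharacter G) : Cfsg.IsClassFunction G (secFun p r b χ) := by
  classical
  intro g w
  unfold secFun
  congr 1
  refine (Fintype.sum_equiv (Equiv.mulLeft w) _ _ fun v => ?_).symm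
  have e : r⁻¹ * ((w * v)⁻¹ * (w * g * w⁻¹) * (w * v)) = r⁻¹ * (v⁻¹ * g * v) := by group
  simp only [Equiv.coe_mulLeft, e]

/-- The inner product with the character itself is the contribution. -/
theorem classInner_secFun (hM : Cfsg.IsPModular p M) {r : G} (hr : ∃ k, orderOf r = p ^ k)
    {b : Set (Cfsg.IrrCharacter (cz r))} (hb : Cfsg.IsPBlock M b) [Fintype (cz r)]
    (χ : Cfsg.IrrCharacter G) :
    Cfsg.classInner (secFun p r b χ) (χ : G → ℂ) =
      (rnorm p b (xel r) χ : ℂ) / (p : ℂ) ^ Cfsg.blockDefect p b := by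
  classical
  have hx := pelt_xel (p := p) hr
  set f : cz r → ℂ := Cfsg.pRegularPart p (Cfsg.blockPart b (sect r (cz r) (χ : G → ℂ))) with hf
  have hval : ∀ s : cz r, f s = if p ∣ orderOf s then 0 else conj (fS b (xel r) χ s) := by
    intro s
    rw [hf, Contrib.pRegularPart_apply]
    split_ifs
    · rfl
    rw [blockPart_apply, fS, map_sum]
    refine Finset.sum_congr (by ext; simp) fun ζ _ => ?_
    rw [map_mul, Complex.conj_conj, ← apply_inv (isCharacter_irr ζ), inv_inv]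
    rw [show sect r (cz r) (χ : G → ℂ) = sect ((xel r : cz r) : G) (cz r) (χ : G → ℂ) from rfl,
      classInner_sect hx.commute]
  have hsum : ∑ g : G, (∑ v : G, if h : r⁻¹ * (v⁻¹ * g * v) ∈ cz r then f ⟨_, h⟩ else 0) *
      conj ((χ : G → ℂ) g) =
      (Nat.card G : ℂ) * ∑ s : cz r, f s * conj ((χ : G → ℂ) (r * (s : G))) := by
    simp only [Finset.sum_mul]
    rw [Finset.sum_comm, Nat.card_eq_fintype_card, ← nsmul_eq_mul, ← Finset.card_univ,
      ← Finset.sum_const]
    refine Finset.sum_congr rfl fun v _ => ?_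
    refine (Finset.sum_of_injOn (fun s : cz r => v * (r * (s : G)) * v⁻¹)
      (fun s _ s' _ h => Subtype.ext (mul_left_cancel (mul_left_cancel (mul_right_cancel h))))
      (fun _ _ => Finset.mem_univ _) (fun g _ hg => ?_) (fun s _ => ?_)).symm
    · rw [dif_neg, zero_mul]
      intro h
      refine hg ⟨⟨_, h⟩, Finset.mem_univ _, ?_⟩
      show v * (r * (r⁻¹ * (v⁻¹ * g * v))) * v⁻¹ = g
      group
    · have e : r⁻¹ * (v⁻¹ * (v * (r * (s : G)) * v⁻¹) * v) = (s : G) := by group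
      rw [dif_pos (by rw [e]; exact s.2), isClassFunction_irr χ (r * (s : G)) v]
      congr 2
      exact Subtype.ext e.symm
  have e : ∀ g : G, secFun p r b χ g * conj ((χ : G → ℂ) g) = (Nat.card (cz r) : ℂ)⁻¹ *
      ((∑ v : G, if h : r⁻¹ * (v⁻¹ * g * v) ∈ cz r then f ⟨_, h⟩ else 0) *
        conj ((χ : G → ℂ) g)) := fun g => mul_assoc _ _ _
  rw [Cfsg.classInner, Finset.sum_congr rfl fun g _ => e g, ← Finset.mul_sum, hsum]
  have hconj : ∑ s : cz r, f s * conj ((χ : G → ℂ) (r * (s : G))) =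
      (primeToCard p (cz r) : ℂ) * (p : ℂ) ^ minVdeg p b * (rnorm p b (xel r) χ : ℂ) := by
    have h := congrArg conj (sum_fS hM hb hx χ χ)
    rw [map_sum, map_mul, map_mul, map_pow, map_natCast, map_natCast, ← coe_rnorm hM hb,
      Complex.conj_ofReal] at h
    rw [← h]
    refine Finset.sum_congr rfl fun s _ => ?_
    rw [hval]
    split_ifs
    · simp
    · rw [map_mul]
      rfl
  rw [hconj]
  have hG : (Nat.card G : ℂ) ≠ 0 := Nat.cast_ne_zero.mpr Nat.card_pos.ne'
  have hm : (primeToCard p (cz r) : ℂ) ≠ 0 := Nat.cast_ne_zero.mpr (primeToCard_pos p).ne'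
  have hp0 : (p : ℂ) ≠ 0 := Nat.cast_ne_zero.mpr (Fact.out : p.Prime).ne_zero
  rw [natCast_card_eq p (cz r), ← minVdeg_add_blockDefect (p := p) hb, pow_add]
  field_simp

variable [CharP (Res M) p] {P : Subgroup G}

/-- The twisted character: `θ` times the parts in the blocks below the pair. -/
noncomputable def starFun (p : ℕ) [Fact p.Prime] [CharP (Res M) p]
    (c : Blk (Res M) (Subgroup.centralizer (P : Set G))) (hP : IsPGroup p P)
    (hab : ∀ x ∈ P, ∀ y ∈ P, x * y = y * x) (R : Finset P) (θ : P → ℂ)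
    (χ : Cfsg.IrrCharacter G) (g : G) : ℂ :=
  ∑ r ∈ R, θ r * secFun p (r : G) (toSet (localBlk c hP hab r.2)) χ g

theorem isClassFunction_starFun (c : Blk (Res M) (Subgroup.centralizer (P : Set G)))
    (hP : IsPGroup p P) (hab : ∀ x ∈ P, ∀ y ∈ P, x * y = y * x) (R : Finset P) (θ : P → ℂ)
    (χ : Cfsg.IrrCharacter G) : Cfsg.IsClassFunction G (starFun p c hP hab R θ χ) := fun g w =>
  Finset.sum_congr rfl fun r _ => by rw [isClassFunction_secFun _ _ χ g w]

variable {c : Blk (Res M) (Subgroup.centralizer (P : Set G))}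

theorem classInner_starFun (hM : Cfsg.IsPModular p M) {ψ : Blk (Res M) G}
    (htop : Top p (⟨P, c⟩ : Idx (Res M) G)) (hψ : PairOf p ψ (⟨P, c⟩ : Idx (Res M) G))
    (hab : ∀ x ∈ P, ∀ y ∈ P, x * y = y * x) (R : Finset P) (θ : P → ℂ)
    (χ : Cfsg.IrrCharacter G) :
    Cfsg.classInner (starFun p c htop.1 hab R θ χ) (χ : G → ℂ) =
      ∑ r ∈ R, θ r * (Fibre.cb p c htop.1 hab r χ : ℂ) := by
  have e : starFun p c htop.1 hab R θ χ =
      ∑ r ∈ R, θ r • secFun p (r : G) (toSet (localBlk c htop.1 hab r.2)) χ := by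
    funext g
    rw [Finset.sum_apply]
    rfl
  rw [e, classInner_sum_left]
  refine Finset.sum_congr rfl fun r _ => ?_
  letI := Fintype.ofFinite (cz (r : G))
  obtain ⟨k, hk⟩ := IsPGroup.iff_orderOf.mp htop.1 r
  rw [classInner_smul_left,
    classInner_secFun hM ⟨k, (Subgroup.orderOf_coe r).trans hk⟩ (isPBlock_toSet _) χ,
    blockDefect_localBlk hM htop hψ hab r.2, Fibre.cb]
  have hc : (Nat.card P : ℂ) = (p : ℂ) ^ Cfsg.blockDefect p (toSet ψ) := by
    exact_mod_cast card_top hM htop hψ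
  push_cast
  rw [hc]
  congr

/-- Integral twisted pairings give the hypothesis on twists. -/
theorem star_of_integral (hM : Cfsg.IsPModular p M) {ψ : Blk (Res M) G}
    (htop : Top p (⟨P, c⟩ : Idx (Res M) G)) (hψ : PairOf p ψ (⟨P, c⟩ : Idx (Res M) G))
    (hab : ∀ x ∈ P, ∀ y ∈ P, x * y = y * x) {R : Finset P}
    (hR : Main.Reps (stab (⟨P, c⟩ : Idx (Res M) G)) P R)
    (h : ∀ χ ∈ toSet ψ, ∀ lam : P →* ℂ,
      (∀ t ∈ stab (⟨P, c⟩ : Idx (Res M) G), ∀ x y : P, t * (x : G) * t⁻¹ = y → lam y = lam x) →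
      ∃ n : ℤ, Cfsg.classInner (starFun p c htop.1 hab R lam χ) (χ : G → ℂ) = n) :
    Fibre.Star p ψ c htop.1 hab R := by
  classical
  have htw : ∀ χ ∈ toSet ψ, ∀ lam : P →* ℂ,
      (∀ t ∈ stab (⟨P, c⟩ : Idx (Res M) G), ∀ x y : P, t * (x : G) * t⁻¹ = y → lam y = lam x) →
      ∃ n : ℤ, ∑ r ∈ R, lam r * (Fibre.cb p c htop.1 hab r χ : ℂ) = n := by
    intro χ hχ lam hlam
    obtain ⟨n, hn⟩ := h χ hχ lam hlam
    exact ⟨n, by rw [← classInner_starFun hM htop hψ hab R lam χ, hn]⟩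
  refine ⟨fun χ hχ => ?_, htw⟩
  -- untwisted: positive integers adding up to the number of characters
  have hone : ∀ φ ∈ bset (toSet ψ), ∃ n : ℤ,
      ∑ r ∈ R, Fibre.cb p c htop.1 hab r φ = n ∧ (1 : ℝ) ≤ n := by
    intro φ hφ
    obtain ⟨n, hn⟩ := htw φ (mem_bset.mp hφ) 1 fun _ _ _ _ _ => rfl
    simp only [MonoidHom.one_apply, one_mul] at hn
    have hn' : ∑ r ∈ R, Fibre.cb p c htop.1 hab r φ = (n : ℝ) := by exact_mod_cast hn
    refine ⟨n, hn', ?_⟩
    have hpos : 0 < ∑ r ∈ R, Fibre.cb p c htop.1 hab r φ :=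
      Finset.sum_pos (fun r _ => Fibre.cb_pos hM htop hψ hab r (mem_bset.mp hφ))
        ⟨1, hR.mem_of_fixed fun t _ => by simp⟩
    rw [hn'] at hpos
    have h0 : (0 : ℤ) < n := by exact_mod_cast hpos
    have h1 : (1 : ℤ) ≤ n := h0
    exact_mod_cast h1
  have hge : ∀ φ ∈ bset (toSet ψ), (1 : ℝ) ≤ ∑ r ∈ R, Fibre.cb p c htop.1 hab r φ := fun φ hφ => by
    obtain ⟨n, h1, h2⟩ := hone φ hφ
    rw [h1]; exact h2
  have htot : ∑ φ ∈ bset (toSet ψ), ∑ r ∈ R, Fibre.cb p c htop.1 hab r φ =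
      ∑ _φ ∈ bset (toSet ψ), (1 : ℝ) := by
    rw [Finset.sum_comm, Finset.sum_congr rfl fun r _ => Fibre.sum_cb hM htop hψ hab r,
      Finset.sum_const, nsmul_one, ← Nat.cast_sum]
    congr 1
    show ∑ r ∈ R, Main.lr c htop.1 hab r = _
    rw [← Main.card_eq_reps hM htop hψ hab hR, Nat.card_coe_set_eq,
      Set.ncard_eq_toFinset_card _ (Set.toFinite _)]
    rfl
  exact ((Finset.sum_eq_sum_iff_of_le hge).mp htot.symm χ (mem_bset.mpr hχ)).symm

end Cfsg.Agent.Lib.Watanabe.Sections
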